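import Cfsg.Agent.Lib.Homogeneous.SD.Real

/-!
The trivial intersection sets: their normalisers, their conjugacy classes, and the involutions inverting their
elements.
-/

set_option autoImplicit false
set_option linter.unusedSectionVars false
set_option linter.style.haveILetI false

namespace CfsgLib.Homogeneous.SD

open Cfsg Subgroup

universe u

variable {G : Type u} [Group G] [Finite G]

/-- Orbits of a common size. -/
theorem dvd_card_of_orbits {K α : Type*} [Group K] [MulAction K α] [Finite α] {q : ℕ}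
    (h : ∀ a : α, Nat.card (MulAction.orbit K a) = q) : q ∣ Nat.card α := by
  classical
  haveI := Fintype.ofFinite (MulAction.orbitRel.Quotient K α)
  haveI : ∀ ω : MulAction.orbitRel.Quotient K α, Finite (MulAction.orbit K ω.out) := fun ω => Subtype.finite
  rw [Nat.card_congr (MulAction.selfEquivSigmaOrbits K α), Nat.card_sigma]
  exact Finset.dvd_sum fun ω _ => (h _).symm ▸ dvd_rfl

namespace Five

variable (D : Five G) [IsSimpleGroup G]
include D

variable {M : Subgroup G}

theorem block_coprime (hM : D.IsBlock M) : (Nat.card ↥M).Coprime 30 := by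
  refine Nat.coprime_of_dvd fun p hp hpM hp30 => ?_
  haveI := Fact.mk hp
  obtain ⟨⟨x, hx⟩, hxo⟩ := exists_prime_orderOf_dvd_card' p hpM
  rw [Subgroup.orderOf_mk] at hxo
  have hx1 : x ≠ 1 := fun e => by rw [e, orderOf_one] at hxo; exact hp.one_lt.ne hxo
  exact hp.one_lt.ne' (Nat.eq_one_of_dvd_coprimes (D.block_free hM hx hx1).2 (hxo ▸ dvd_rfl) hp30)

theorem block_exists_ne (hM : D.IsBlock M) : ∃ x ∈ M, x ≠ 1 := by
  obtain ⟨g, u, hg, -, -, hmem⟩ := hM
  exact ⟨g, (hmem g).2 ⟨rfl, hg.not_dvd (Or.inr (Or.inr rfl))⟩, hg.1⟩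

theorem block_seven (hM : D.IsBlock M) : 7 ≤ Nat.card ↥M := by
  have hc := D.block_coprime hM
  obtain ⟨x, hx, hx1⟩ := D.block_exists_ne hM
  haveI : Nontrivial ↥M := ⟨⟨⟨x, hx⟩, 1, fun e => hx1 (congrArg Subtype.val e)⟩⟩
  have h2 : 1 < Nat.card ↥M := Finite.one_lt_card
  by_contra hlt
  interval_cases h : Nat.card ↥M <;> norm_num at hc

theorem block_odd {x : G} (hM : D.IsBlock M) (hx : x ∈ M) : Odd (orderOf x) := by
  rw [← Nat.not_even_iff_odd, even_iff_two_dvd]
  intro h
  have h1 := Nat.eq_one_of_dvd_coprimes (D.block_coprime hM) (h.trans (Subgroup.orderOf_dvd_natCard M hx))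
    (show 2 ∣ 30 by norm_num)
  omega

/-- The normaliser of a block. -/
theorem norm_data_z (hM : D.IsBlock M) (hz : ∀ x ∈ M, D.c.z * x * D.c.z⁻¹ = x⁻¹) :
    ∃ e, Nat.card ↥(normalizer (M : Set G)) = Nat.card ↥M * e ∧ 2 ∣ e ∧ e ∣ 240 ∧ e ∣ 5 * (Nat.card ↥M - 1) := by
  classical
  set K := normalizer (M : Set G) ⊓ D.c.Cz with hK
  have hzi : D.c.z⁻¹ = D.c.z := inv_eq_of_mul_eq_one_right D.c.z_sq
  have hKz : ∀ k ∈ K, k * D.c.z = D.c.z * k := fun k hk => mem_centralizer_singleton_iff.1 (mem_inf.1 hk).2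
  have hKM : ∀ k ∈ K, ∀ a ∈ M, k * a * k⁻¹ ∈ M := fun k hk a ha => (mem_normalizer_iff.1 (mem_inf.1 hk).1 a).1 ha
  have hzK : D.c.z ∈ K := mem_inf.2 ⟨mem_normalizer_of_conj fun a ha => by rw [hz a ha]; exact inv_mem ha,
    mem_centralizer_singleton_iff.2 rfl⟩
  refine ⟨Nat.card ↥K, ?_, ?_, ?_, ?_⟩
  · rw [← Nat.card_prod]
    refine (Nat.card_congr (Equiv.ofBijective (fun p : ↥M × ↥K => (⟨(p.1 : G) * (p.2 : G),
      mul_mem (le_normalizer p.1.2) (mem_inf.1 p.2.2).1⟩ : ↥(normalizer (M : Set G)))) ⟨?_, ?_⟩)).symm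
    · rintro ⟨a, k⟩ ⟨a', k'⟩ h
      have h' : (a : G) * k = a' * k' := congrArg Subtype.val h
      set x := (a' : G)⁻¹ * a with hx
      have hxM : x ∈ M := mul_mem (inv_mem a'.2) a.2
      have hxk : x = (k' : G) * (k : G)⁻¹ := by
        rw [hx, eq_mul_inv_iff_mul_eq, mul_assoc, h', inv_mul_cancel_left]
      have hxz : Commute x D.c.z := hxk ▸
        (show Commute (k' : G) D.c.z from hKz _ k'.2).mul_left (show Commute (k : G) D.c.z from hKz _ k.2).inv_left
      have h1 := hz x hxM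
      rw [← hxz.eq, mul_inv_cancel_right] at h1
      have hx2 : x ^ 2 = 1 := by rw [pow_two]; nth_rewrite 1 [h1]; rw [inv_mul_cancel]
      have hx1 : x = 1 := orderOf_eq_one_iff.1 (Nat.eq_one_of_dvd_coprimes
        (Nat.coprime_two_left.2 (D.block_odd hM hxM)) (orderOf_dvd_of_pow_eq_one hx2) dvd_rfl)
      have ha : a = a' := Subtype.ext (inv_mul_eq_one.1 hx1).symm
      subst ha
      exact Prod.ext rfl (Subtype.ext (mul_left_cancel h'))
    · rintro ⟨n, hn⟩
      set t := n * D.c.z * n⁻¹ with ht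
      have hnM : ∀ a ∈ M, n * a * n⁻¹ ∈ M := fun a ha => (mem_normalizer_iff.1 hn a).1 ha
      obtain ⟨y, hy, hy1⟩ := D.block_exists_ne hM
      have hy' : n⁻¹ * y * n ∈ M := (mem_normalizer_iff''.1 hn y).1 hy
      have htinv : t * y * t⁻¹ = y⁻¹ := by
        calc t * y * t⁻¹ = n * (D.c.z * (n⁻¹ * y * n) * D.c.z⁻¹) * n⁻¹ := by rw [ht]; group
          _ = _ := by rw [hz _ hy']; group
      have hh := D.block_invert hM hy hy1 D.c.orderOf_z hz (by rw [ht, orderOf_conj, D.c.orderOf_z]) htinv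
      obtain ⟨j, hj⟩ := D.block_odd hM hh
      set w := (D.c.z * t) ^ (j + 1) with hw
      have hwM : w ∈ M := pow_mem hh _
      have hw2 : w * w = D.c.z * t := by
        rw [hw, ← pow_add, show j + 1 + (j + 1) = orderOf (D.c.z * t) + 1 by omega, pow_succ, pow_orderOf_eq_one,
          one_mul]
      have hnz : w * n * D.c.z = D.c.z * (w * n) := by
        have e1 : D.c.z * w = w⁻¹ * D.c.z := mul_inv_eq_iff_eq_mul.1 (hz w hwM)
        have e2 : t = D.c.z * (w * w) := by rw [hw2, ← mul_assoc, D.c.z_sq, one_mul]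
        have e3 : n * D.c.z = t * n := by rw [ht]; group
        calc w * n * D.c.z = w * (D.c.z * w) * w * n := by rw [mul_assoc, e3, e2]; group
          _ = D.c.z * (w * n) := by rw [e1]; group
      refine ⟨(⟨w⁻¹, inv_mem hwM⟩, ⟨w * n, mem_inf.2 ⟨mul_mem (le_normalizer hwM) hn,
        mem_centralizer_singleton_iff.2 hnz⟩⟩), Subtype.ext ?_⟩
      show w⁻¹ * (w * n) = n
      group
  · rw [← D.c.orderOf_z]
    exact Subgroup.orderOf_dvd_natCard K hzK
  · rw [← D.card_Cz']
    exact card_dvd_of_le inf_le_right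
  · letI : MulAction ↥K {a : ↥M // a ≠ 1} :=
      { smul := fun k a => ⟨⟨(k : G) * (a.1 : G) * (k : G)⁻¹, hKM _ k.2 _ a.1.2⟩, fun e =>
          a.2 (Subtype.ext (conj_eq_one_iff.1 (congrArg Subtype.val e)))⟩
        one_smul := fun a => Subtype.ext (Subtype.ext (show ((1 : ↥K) : G) * (a.1 : G) * ((1 : ↥K) : G)⁻¹ = a.1 by simp))
        mul_smul := fun k l a => Subtype.ext (Subtype.ext (show ((k * l : ↥K) : G) * (a.1 : G) * ((k * l : ↥K) : G)⁻¹ =
          (k : G) * ((l : G) * (a.1 : G) * (l : G)⁻¹) * (k : G)⁻¹ by push_cast; group)) }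
    set K₀ := (centralizer (M : Set G)).subgroupOf K with hK₀
    have hstab : ∀ a : {a : ↥M // a ≠ 1}, MulAction.stabilizer ↥K a = K₀ := by
      intro a
      ext k
      constructor
      · intro hk
        have h1 : (k : G) * (a.1 : G) * (k : G)⁻¹ = a.1 :=
          congrArg (fun b : {a : ↥M // a ≠ 1} => ((b.1 : ↥M) : G)) (MulAction.mem_stabilizer_iff.1 hk)
        exact mem_centralizer_iff.2 fun b hb => (D.block_cent hM a.1.2 (fun e => a.2 (Subtype.ext e))
          (mul_inv_eq_iff_eq_mul.1 h1) b hb).symm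
      · intro hk
        refine MulAction.mem_stabilizer_iff.2 (Subtype.ext (Subtype.ext ?_))
        show (k : G) * (a.1 : G) * (k : G)⁻¹ = a.1
        rw [mul_inv_eq_iff_eq_mul]
        exact ((mem_centralizer_iff.1 hk) _ a.1.2).symm
    have hq : Nat.card ↥K₀ * K₀.index = Nat.card ↥K := K₀.card_mul_index
    have hdvd : K₀.index ∣ Nat.card {a : ↥M // a ≠ 1} := dvd_card_of_orbits (K := ↥K) fun a => by
      rw [Nat.card_congr (MulAction.orbitEquivQuotientStabilizer ↥K a), hstab a]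
      rfl
    have hcard : Nat.card {a : ↥M // a ≠ 1} = Nat.card ↥M - 1 := by
      rw [Nat.card_congr (Equiv.subtypeEquivRight (q := fun a => ¬ a = (1 : ↥M)) fun a => Iff.rfl)]
      haveI := Fintype.ofFinite ↥M
      rw [Nat.card_eq_fintype_card, Nat.card_eq_fintype_card, Fintype.card_subtype_compl, Fintype.card_subtype_eq]
    haveI : Fact (Nat.Prime 5) := ⟨Nat.prime_five⟩
    have hK₀5 : IsPGroup 5 ↥K₀ := by
      rintro ⟨⟨k, hkK⟩, hk⟩
      obtain ⟨y, hy, hy1⟩ := D.block_exists_ne hM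
      have hky : k * y = y * k := (mem_centralizer_iff.1 (show k ∈ centralizer (M : Set G) from hk) y hy).symm
      obtain ⟨h2, h3⟩ := D.free_cent (D.block_free hM hy hy1) hky
      exact ⟨1, Subtype.ext (Subtype.ext (by
        rw [pow_one, SubmonoidClass.coe_pow, SubmonoidClass.coe_pow]
        exact D.cz_part (hKz k hkK) h2 h3))⟩
    obtain ⟨j, hj⟩ := IsPGroup.iff_card.1 hK₀5
    have h240 : Nat.card ↥K₀ ∣ 240 := by
      refine (Dvd.intro _ hq).trans ?_
      rw [← D.card_Cz']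
      exact card_dvd_of_le inf_le_right
    have hK5 : Nat.card ↥K₀ ∣ 5 := by
      rcases Nat.lt_or_ge j 2 with h | h
      · rw [hj]; exact (pow_dvd_pow 5 (show j ≤ 1 by omega)).trans (by norm_num)
      · have h25 : (25 : ℕ) ∣ 240 := ((pow_dvd_pow 5 h).trans (hj ▸ h240) :)
        norm_num at h25
    rw [← hq, ← hcard]
    exact Nat.mul_dvd_mul hK5 hdvd

omit D [IsSimpleGroup G] in
theorem card_normalizer_conj (M : Subgroup G) (k : G) :
    Nat.card ↥(normalizer ((M.map (MulAut.conj k).toMonoidHom : Subgroup G) : Set G)) =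
      Nat.card ↥(normalizer (M : Set G)) := by
  have h : normalizer ((M.map (MulAut.conj k).toMonoidHom : Subgroup G) : Set G) =
      (normalizer (M : Set G)).map (MulAut.conj k).toMonoidHom :=
    (map_equiv_normalizer_eq M (MulAut.conj k)).symm
  rw [h, card_map_of_injective (MulAut.conj k).injective]

theorem norm_data (hM : D.IsBlock M) :
    ∃ e, Nat.card ↥(normalizer (M : Set G)) = Nat.card ↥M * e ∧ 2 ∣ e ∧ e ∣ 240 ∧ e ∣ 5 * (Nat.card ↥M - 1) := by
  obtain ⟨u, hu, huinv⟩ := D.block_inverted hM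
  obtain ⟨k, hk⟩ := D.c.exists_conj_z hu
  have hz : ∀ x ∈ M.map (MulAut.conj k⁻¹).toMonoidHom, D.c.z * x * D.c.z⁻¹ = x⁻¹ := by
    rintro _ ⟨a, ha, rfl⟩
    simp only [MulEquiv.coe_toMonoidHom, MulAut.conj_apply, inv_inv]
    calc D.c.z * (k⁻¹ * a * k) * D.c.z⁻¹ = k⁻¹ * ((k * D.c.z * k⁻¹) * a * (k * D.c.z * k⁻¹)⁻¹) * k := by group
      _ = _ := by rw [hk, huinv a ha]; group
  obtain ⟨e, he⟩ := D.norm_data_z (D.block_conj hM k⁻¹) hz
  rw [card_normalizer_conj, card_map_of_injective (MulAut.conj k⁻¹).injective] at he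
  exact ⟨e, he⟩

/-- An element of a block normalising another one lies in it. -/
theorem block_norm_eq (hM : D.IsBlock M) {N : Subgroup G} (hN : D.IsBlock N) {y : G} (hy : y ∈ M) (hy1 : y ≠ 1)
    (hyN : y ∈ normalizer (N : Set G)) : M = N := by
  obtain ⟨e, he, -, he240, -⟩ := D.norm_data hN
  have hidx : (N.subgroupOf (normalizer (N : Set G))).index = e := by
    have h := (N.subgroupOf (normalizer (N : Set G))).card_mul_index
    rw [Nat.card_congr (subgroupOfEquivOfLe le_normalizer).toEquiv, he] at h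
    exact Nat.eq_of_mul_eq_mul_left Nat.card_pos h
  have hpow : y ^ e ∈ N := by
    have h := (N.subgroupOf (normalizer (N : Set G))).pow_index_mem ⟨y, hyN⟩
    rw [hidx] at h
    exact h
  have hc : e.Coprime (orderOf y) := ((((D.block_free hM hy hy1).2).pow_right 4).coprime_dvd_right
    (he240.trans (show (240 : ℕ) ∣ 30 ^ 4 by norm_num))).symm
  obtain ⟨l, hl⟩ := exists_pow_eq_self_of_coprime hc
  exact D.block_eq hM hN hy (hl ▸ pow_mem hpow l) hy1

/-- A block contains a Sylow subgroup for each prime dividing its order. -/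
theorem block_sylow (hM : D.IsBlock M) {r : ℕ} [Fact r.Prime] (hr : r ∣ Nat.card ↥M) :
    ∃ P : Sylow r G, (P : Subgroup G) ≤ M := by
  have hr5 : r ≠ 5 := fun e => by
    have h := Nat.eq_one_of_dvd_coprimes (D.block_coprime hM) (e ▸ hr) (show 5 ∣ 30 by norm_num)
    norm_num at h
  have h5 : ∀ {x : G} {k : ℕ}, x ^ r ^ k = 1 → ¬ 5 ∣ orderOf x := fun {x k} hx h => hr5
    ((Nat.prime_dvd_prime_iff_eq Nat.prime_five (Fact.out : r.Prime)).1
      (Nat.prime_five.dvd_of_dvd_pow (h.trans (orderOf_dvd_of_pow_eq_one hx)))).symm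
  obtain ⟨⟨a, ha⟩, hao⟩ := exists_prime_orderOf_dvd_card' r hr
  rw [Subgroup.orderOf_mk] at hao
  have ha1 : a ≠ 1 := fun e => by rw [e, orderOf_one] at hao; exact (Fact.out : r.Prime).one_lt.ne hao
  obtain ⟨P, hP⟩ := (IsPGroup.of_card (p := r) (n := 1)
    (show Nat.card ↥(zpowers a) = r ^ 1 by rw [Nat.card_zpowers, hao, pow_one])).exists_le_sylow
  have haP : a ∈ (P : Subgroup G) := hP (mem_zpowers a)
  obtain ⟨w, hw, hw1⟩ := exists_omegaZ P.2 (fun e => ha1 (by rw [e] at haP; exact mem_bot.1 haP))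
  have hwM : w ∈ M := (D.block_mem hM ha ha1 w).2
    ⟨hw.2.1 a haP |>.symm ▸ rfl, h5 (k := 1) (by rw [pow_one]; exact hw.2.2)⟩
  refine ⟨P, fun x hx => (D.block_mem hM hwM hw1 x).2 ⟨(hw.2.1 x hx).symm ▸ rfl, ?_⟩⟩
  obtain ⟨k, hk⟩ := P.2 ⟨x, hx⟩
  exact h5 (x := x) (k := k) (congrArg Subtype.val hk)

/-- Blocks whose orders share a prime are conjugate. -/
theorem block_conj_of_not_coprime (hM : D.IsBlock M) {N : Subgroup G} (hN : D.IsBlock N)
    (h : ¬ (Nat.card ↥M).Coprime (Nat.card ↥N)) : ∃ k : G, M.map (MulAut.conj k).toMonoidHom = N := by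
  obtain ⟨r, hr, hrM, hrN⟩ := Nat.Prime.not_coprime_iff_dvd.1 h
  haveI := Fact.mk hr
  obtain ⟨P, hP⟩ := D.block_sylow hM hrM
  obtain ⟨Q, hQ⟩ := D.block_sylow hN hrN
  obtain ⟨k, hk⟩ := MulAction.exists_smul_eq G P Q
  have hPne : (P : Subgroup G) ≠ ⊥ := by
    refine fun e => ?_
    have h1 := P.dvd_card_of_dvd_card (hrM.trans (card_subgroup_dvd_card M))
    rw [e, card_bot, Nat.dvd_one] at h1
    exact hr.ne_one h1
  obtain ⟨x, hx, hx1⟩ := (ne_bot_iff_exists_ne_one.1 hPne) |> fun ⟨⟨x, hx⟩, h1⟩ => (⟨x, hx, fun e => h1 (Subtype.ext e)⟩ : ∃ x ∈ (P : Subgroup G), x ≠ 1)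
  refine ⟨k, D.block_eq (D.block_conj hM k) hN (y := k * x * k⁻¹) ⟨x, hP hx, rfl⟩ (hQ ?_)
    (fun e => hx1 (conj_eq_one_iff.1 e))⟩
  rw [← hk, Sylow.coe_subgroup_smul]
  exact ⟨x, hx, rfl⟩

/-- The number of blocks of one order. -/
theorem block_count {a : ℕ} (hex : ∃ M, D.IsBlock M ∧ Nat.card ↥M = a) :
    ∃ e, Nat.card {N : Subgroup G // D.IsBlock N ∧ Nat.card ↥N = a} * (a * e) = 240 * D.idx ∧
      2 ∣ e ∧ e ∣ 240 ∧ e ∣ 5 * (a - 1) ∧ Nat.card {N : Subgroup G // D.IsBlock N ∧ Nat.card ↥N = a} % a = 1 := by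
  obtain ⟨M, hM, rfl⟩ := hex
  obtain ⟨e, he, he2, he240, he5⟩ := D.norm_data hM
  refine ⟨e, ?_, he2, he240, he5, ?_⟩
  · let f : G → {N : Subgroup G // D.IsBlock N ∧ Nat.card ↥N = Nat.card ↥M} := fun k =>
      ⟨M.map (MulAut.conj k).toMonoidHom, D.block_conj hM k, card_map_of_injective (MulAut.conj k).injective⟩
    have hf : ∀ k l : G, f k = f l ↔ k⁻¹ * l ∈ normalizer (M : Set G) := by
      intro k l
      constructor
      · intro h
        refine mem_normalizer_of_conj fun x hx => ?_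
        have h1 : l * x * l⁻¹ ∈ M.map (MulAut.conj k).toMonoidHom := by
          rw [show M.map (MulAut.conj k).toMonoidHom = M.map (MulAut.conj l).toMonoidHom from congrArg Subtype.val h]
          exact ⟨x, hx, rfl⟩
        obtain ⟨y, hy, hyx⟩ := h1
        simp only [MulEquiv.coe_toMonoidHom, MulAut.conj_apply] at hyx
        rw [show k⁻¹ * l * x * (k⁻¹ * l)⁻¹ = k⁻¹ * (l * x * l⁻¹) * k by group, ← hyx]
        simpa [mul_assoc] using hy
      · intro h
        refine Subtype.ext (ext fun x => ⟨?_, ?_⟩)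
        · rintro ⟨y, hy, rfl⟩
          refine ⟨(k⁻¹ * l)⁻¹ * y * (k⁻¹ * l), (mem_normalizer_iff''.1 h y).1 hy, ?_⟩
          simp only [MulEquiv.coe_toMonoidHom, MulAut.conj_apply]
          group
        · rintro ⟨y, hy, rfl⟩
          refine ⟨k⁻¹ * l * y * (k⁻¹ * l)⁻¹, (mem_normalizer_iff.1 h y).1 hy, ?_⟩
          simp only [MulEquiv.coe_toMonoidHom, MulAut.conj_apply]
          group
    have hcard : Nat.card {N : Subgroup G // D.IsBlock N ∧ Nat.card ↥N = Nat.card ↥M} =
        (normalizer (M : Set G)).index := by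
      refine (Nat.card_congr (Equiv.ofBijective (Quotient.lift f fun k l h => (hf k l).2
        (QuotientGroup.leftRel_apply.1 h)) ⟨?_, ?_⟩)).symm
      · intro x y
        induction x using Quotient.inductionOn
        induction y using Quotient.inductionOn
        intro h
        exact Quotient.sound (QuotientGroup.leftRel_apply.2 ((hf _ _).1 h))
      · rintro ⟨N, hN, hNc⟩
        obtain ⟨k, hk⟩ := D.block_conj_of_not_coprime hM hN (by
          rw [hNc, Nat.coprime_self]; have := D.block_seven hM; omega)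
        exact ⟨Quotient.mk'' k, Subtype.ext hk⟩
    rw [hcard, ← he, mul_comm, Subgroup.card_mul_index, D.card_G]
  · classical
    set B := {N : Subgroup G // (D.IsBlock N ∧ Nat.card ↥N = Nat.card ↥M) ∧ N ≠ M} with hB
    letI : MulAction ↥M B :=
      { smul := fun y N => ⟨N.1.map (MulAut.conj (y : G)).toMonoidHom, ⟨D.block_conj N.2.1.1 y,
          (card_map_of_injective (MulAut.conj (y : G)).injective).trans N.2.1.2⟩, fun h => N.2.2 (by
            refine (eq_of_le_of_card_ge (fun x hx => ?_) N.2.1.2.ge)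
            have h1 : (y : G) * x * (y : G)⁻¹ ∈ N.1.map (MulAut.conj (y : G)).toMonoidHom := ⟨x, hx, rfl⟩
            rw [h] at h1
            have h2 := mul_mem (mul_mem (inv_mem y.2) h1) y.2
            simpa [mul_assoc] using h2)⟩
        one_smul := fun N => Subtype.ext (ext fun x => by
          show x ∈ N.1.map (MulAut.conj ((1 : ↥M) : G)).toMonoidHom ↔ x ∈ N.1
          simp [Subgroup.mem_map])
        mul_smul := fun y y' N => Subtype.ext (by
          show N.1.map (MulAut.conj ((y * y' : ↥M) : G)).toMonoidHom =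
            (N.1.map (MulAut.conj (y' : G)).toMonoidHom).map (MulAut.conj (y : G)).toMonoidHom
          rw [Subgroup.map_map]
          congr 1
          ext x
          simp [mul_assoc]) }
    have hfree : ∀ N : B, Nat.card (MulAction.orbit ↥M N) = Nat.card ↥M := by
      intro N
      have hst : MulAction.stabilizer ↥M N = ⊥ := (eq_bot_iff_forall _).2 fun y hy => by
        by_contra hy1
        refine N.2.2 (D.block_norm_eq hM N.2.1.1 y.2 (fun e => hy1 (Subtype.ext e)) ?_).symm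
        refine mem_normalizer_of_conj fun x hx => ?_
        have h1 : N.1.map (MulAut.conj (y : G)).toMonoidHom = N.1 := congrArg Subtype.val (MulAction.mem_stabilizer_iff.1 hy)
        have h2 : (y : G) * x * (y : G)⁻¹ ∈ N.1.map (MulAut.conj (y : G)).toMonoidHom := ⟨x, hx, rfl⟩
        rwa [h1] at h2
      rw [Nat.card_congr (MulAction.orbitEquivQuotientStabilizer ↥M N), hst]
      exact index_bot
    have hdvd := dvd_card_of_orbits (K := ↥M) hfree
    have hsplit : Nat.card {N : Subgroup G // D.IsBlock N ∧ Nat.card ↥N = Nat.card ↥M} = Nat.card B + 1 := by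
      let N₀ : {N : Subgroup G // D.IsBlock N ∧ Nat.card ↥N = Nat.card ↥M} := ⟨M, hM, rfl⟩
      have e1 : Nat.card B = Nat.card {N : {N : Subgroup G // D.IsBlock N ∧ Nat.card ↥N = Nat.card ↥M} // ¬ N = N₀} :=
        Nat.card_congr
          { toFun := fun N => ⟨⟨N.1, N.2.1⟩, fun e => N.2.2 (congrArg Subtype.val e)⟩
            invFun := fun N => ⟨N.1.1, N.1.2, fun e => N.2 (Subtype.ext e)⟩
            left_inv := fun _ => rfl
            right_inv := fun _ => rfl }
      haveI := Fintype.ofFinite {N : Subgroup G // D.IsBlock N ∧ Nat.card ↥N = Nat.card ↥M}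
      rw [e1, Nat.card_eq_fintype_card (α := {N : Subgroup G // D.IsBlock N ∧ Nat.card ↥N = Nat.card ↥M}),
        Nat.card_eq_fintype_card (α := {N : {N : Subgroup G // D.IsBlock N ∧ Nat.card ↥N = Nat.card ↥M} // ¬ N = N₀}),
        Fintype.card_subtype_compl, Fintype.card_subtype_eq]
      have : 0 < Fintype.card {N : Subgroup G // D.IsBlock N ∧ Nat.card ↥N = Nat.card ↥M} :=
        Fintype.card_pos_iff.2 ⟨N₀⟩
      omega
    obtain ⟨q, hq⟩ := hdvd
    rw [hsplit, hq, Nat.add_mod, Nat.mul_mod_right, zero_add, Nat.mod_mod]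
    exact Nat.mod_eq_of_lt (by have := D.block_seven hM; omega)

/-- As many involutions invert an element of a block as it has elements. -/
theorem block_T (hM : D.IsBlock M) {y : G} (hy : y ∈ M) (hy1 : y ≠ 1) :
    Nat.card {t : G // orderOf t = 2 ∧ t * y * t⁻¹ = y⁻¹} = Nat.card ↥M := by
  obtain ⟨u, hu, huinv⟩ := D.block_inverted hM
  have huu : u * u = 1 := CfsgLib.Involutions.mul_self_eq_one_of_orderOf hu
  have hui : u⁻¹ = u := inv_eq_of_mul_eq_one_right huu
  have hux : ∀ x ∈ M, orderOf (u * x) = 2 := fun x hx => by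
    refine orderOf_eq_prime ?_ fun e => ?_
    · rw [pow_two]
      calc u * x * (u * x) = (u * x * u⁻¹) * x := by rw [hui]; group
        _ = 1 := by rw [huinv x hx, inv_mul_cancel]
    · have h1 : u ∈ M := by rw [eq_inv_of_mul_eq_one_left e]; exact inv_mem hx
      obtain ⟨j, hj⟩ := D.block_odd hM h1
      omega
  refine Nat.card_congr
    { toFun := fun t => ⟨u * (t : G), D.block_invert hM hy hy1 hu huinv t.2.1 t.2.2⟩
      invFun := fun x => ⟨u * (x : G), hux x x.2, ?_⟩
      left_inv := fun t => Subtype.ext (show u * (u * (t : G)) = t by rw [← mul_assoc, huu, one_mul])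
      right_inv := fun x => Subtype.ext (show u * (u * (x : G)) = x by rw [← mul_assoc, huu, one_mul]) }
  calc u * (x : G) * y * (u * (x : G))⁻¹ = u * ((x : G) * y * (x : G)⁻¹) * u⁻¹ := by group
    _ = y⁻¹ := by rw [D.block_comm hM x x.2 y hy, mul_inv_cancel_right, huinv y hy]

end Five

end CfsgLib.Homogeneous.SD
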