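import Cfsg.Agent.Lib.Homogeneous.SD.Tools

/-!
Normal complements inside a subgroup, for a maximal `p`-subgroup centralised by its normaliser.
-/

set_option autoImplicit false
set_option linter.unusedSectionVars false
set_option linter.style.haveILetI false

namespace CfsgLib.Homogeneous.SD

open Subgroup

universe u

variable {G : Type u} [Group G] [Finite G] {p : ℕ} [hp : Fact p.Prime]

/-- A `p`-subgroup without `p`-elements outside in its normaliser is maximal. -/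
theorem le_of_max {H T Q : Subgroup G} (hQ : IsPGroup p ↥Q) (hQH : Q ≤ H) (hTQ : T ≤ Q)
    (hmax : ∀ g ∈ H, (∀ t ∈ T, g * t * g⁻¹ ∈ T) → (∃ k : ℕ, g ^ p ^ k = 1) → g ∈ T) : Q ≤ T := by
  haveI := hQ.isNilpotent
  rw [← subgroupOf_eq_top]
  refine normalizerCondition_iff_only_full_group_self_normalizing.1 Group.normalizerCondition_of_isNilpotent _
    (le_antisymm (fun a ha => ?_) le_normalizer)
  obtain ⟨k, hk⟩ := hQ a
  exact hmax a (hQH a.2) (fun t ht => (mem_normalizer_iff.1 ha ⟨t, hTQ ht⟩).1 ht) ⟨k, congrArg Subtype.val hk⟩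

/-- A maximal `p`-subgroup is a Sylow subgroup. -/
theorem exists_sylow_eq {H T : Subgroup G} (hT : IsPGroup p ↥T) (hTH : T ≤ H)
    (hmax : ∀ g ∈ H, (∀ t ∈ T, g * t * g⁻¹ ∈ T) → (∃ k : ℕ, g ^ p ^ k = 1) → g ∈ T) :
    ∃ P : Sylow p ↥H, (P : Subgroup ↥H) = T.subgroupOf H := by
  obtain ⟨P, hP⟩ := (hT.comap_subtype (K := H)).exists_le_sylow
  refine ⟨P, le_antisymm (fun a ha => ?_) hP⟩
  exact le_of_max (P.2.map H.subtype) (map_subtype_le _) (fun t ht => ⟨⟨t, hTH ht⟩, hP ht, rfl⟩) hmax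
    ⟨a, ha, rfl⟩

/-- Every `p`-element is conjugate into a maximal `p`-subgroup. -/
theorem conj_into {H T : Subgroup G} (hT : IsPGroup p ↥T) (hTH : T ≤ H)
    (hmax : ∀ g ∈ H, (∀ t ∈ T, g * t * g⁻¹ ∈ T) → (∃ k : ℕ, g ^ p ^ k = 1) → g ∈ T) {Q : Subgroup G}
    (hQ : IsPGroup p ↥Q) (hQH : Q ≤ H) : ∃ h ∈ H, ∀ a ∈ Q, h * a * h⁻¹ ∈ T := by
  obtain ⟨P, hP⟩ := exists_sylow_eq hT hTH hmax
  obtain ⟨P', hP'⟩ := (hQ.comap_subtype (K := H)).exists_le_sylow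
  obtain ⟨h, hh⟩ := MulAction.exists_smul_eq ↥H P' P
  refine ⟨h, h.2, fun a ha => ?_⟩
  have h1 : h * ⟨a, hQH ha⟩ * h⁻¹ ∈ (P : Subgroup ↥H) := by
    rw [← hh, Sylow.coe_subgroup_smul]
    exact ⟨⟨a, hQH ha⟩, hP' (show (⟨a, hQH ha⟩ : ↥H) ∈ Q.subgroupOf H from ha), rfl⟩
  rw [hP] at h1
  exact h1

/-- The normal complement. -/
theorem exists_compl {H T : Subgroup G} (hT : IsPGroup p ↥T) (hTH : T ≤ H)
    (hmax : ∀ g ∈ H, (∀ t ∈ T, g * t * g⁻¹ ∈ T) → (∃ k : ℕ, g ^ p ^ k = 1) → g ∈ T)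
    (hcent : ∀ g ∈ H, (∀ t ∈ T, g * t * g⁻¹ ∈ T) → ∀ t ∈ T, g * t = t * g) :
    ∃ N : Subgroup G, N ≤ H ∧ (∀ h ∈ H, ∀ x ∈ N, h * x * h⁻¹ ∈ N) ∧ (∀ x ∈ H, x ∈ N ↔ ¬ p ∣ orderOf x) ∧
      Nat.card ↥N * Nat.card ↥T = Nat.card ↥H := by
  obtain ⟨P, hP⟩ := exists_sylow_eq hT hTH hmax
  have hPc : normalizer ((P : Subgroup ↥H) : Set ↥H) ≤ centralizer ((P : Subgroup ↥H) : Set ↥H) := by
    intro g hg
    have hgT : ∀ t ∈ T, (g : G) * t * (g : G)⁻¹ ∈ T := fun t ht => by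
      have h1 := (mem_normalizer_iff.1 hg ⟨t, hTH ht⟩).1 (by rw [hP]; exact ht)
      rw [hP] at h1
      exact h1
    refine mem_centralizer_iff.2 fun a ha => Subtype.ext ?_
    exact (hcent g g.2 hgT a (hP.le ha)).symm
  obtain ⟨K, hKn, hKc, hKcard⟩ : ∃ K : Subgroup ↥H, K.Normal ∧ (∀ x : ↥H, x ∈ K ↔ ¬ p ∣ orderOf x) ∧
      Nat.card K * Nat.card ↥(P : Subgroup ↥H) = Nat.card ↥H := by
    have hc := MonoidHom.ker_transferSylow_isComplement' P hPc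
    have hnd := MonoidHom.not_dvd_card_ker_transferSylow P hPc
    refine ⟨(MonoidHom.transferSylow P hPc).ker, MonoidHom.normal_ker _, fun x => ⟨fun hx hd =>
      hnd (hd.trans (Subgroup.orderOf_dvd_natCard _ hx)), fun hx => ?_⟩, hc.card_mul⟩
    refine MonoidHom.mem_ker.2 (orderOf_eq_one_iff.1 ?_)
    have hd := orderOf_map_dvd (MonoidHom.transferSylow P hPc) x
    generalize (MonoidHom.transferSylow P hPc) x = y at hd ⊢
    obtain ⟨k, hk⟩ := P.2 y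
    obtain ⟨j, -, hj⟩ := (Nat.dvd_prime_pow hp.out).1 (orderOf_dvd_of_pow_eq_one hk)
    rcases Nat.eq_zero_or_pos j with rfl | hj0
    · simpa using hj
    · exact absurd ((dvd_pow_self p hj0.ne').trans (hj ▸ hd)) hx
  refine ⟨K.map H.subtype, map_subtype_le _, ?_, fun x hx => ?_, ?_⟩
  · rintro h hh _ ⟨x, hx, rfl⟩
    exact ⟨⟨h, hh⟩ * x * ⟨h, hh⟩⁻¹, hKn.conj_mem x hx _, rfl⟩
  · rw [← Subgroup.orderOf_mk x hx]
    constructor
    · rintro ⟨y, hy, hyx⟩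
      obtain rfl : y = ⟨x, hx⟩ := Subtype.ext hyx
      exact (hKc _).1 hy
    · exact fun h => ⟨⟨x, hx⟩, (hKc _).2 h, rfl⟩
  · rw [card_map_of_injective H.subtype_injective, ← hKcard, hP,
      Nat.card_congr (subgroupOfEquivOfLe hTH).toEquiv]

end CfsgLib.Homogeneous.SD
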