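import Cfsg.Agent.Lib.Homogeneous.SD.CoreFix
import Cfsg.Agent.Lib.CoprimeGen

/-!
The centraliser of the element of order three when the four-group is normal modulo an odd normal subgroup: the core
of the involution centraliser is trivial and the centraliser has order thirty-six.
-/

set_option autoImplicit false
set_option linter.unusedSectionVars false
set_option linter.style.haveILetI false

namespace CfsgLib.Homogeneous.SD

open Cfsg Subgroup
open scoped commutatorElement IsMulCommutative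

universe u

namespace Model

set_option synthInstance.maxSize 2000

theorem twelve_six : ∀ x ∈ twelve, pw 5 3 x 6 = one := by decide +kernel

end Model

variable {G : Type u} [Group G] [Finite G]

namespace Five

variable (D : Five G)

/-- The centraliser of the element of order three. -/
noncomputable abbrev X : Subgroup G := centralizer ({D.m} : Set G)

theorem mem_X {g : G} : g ∈ D.X ↔ g * D.m = D.m * g := mem_centralizer_singleton_iff

theorem V_le_X : D.c.V ≤ D.X := fun _ hv => D.mem_X.2 (D.m_V hv).symm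

theorem V_le_Cz : D.c.V ≤ D.c.Cz := D.c.V_le_S.trans D.c.S_le

theorem m_mem_X : D.m ∈ D.X := D.mem_X.2 rfl

theorem O_le_X {u : ↥D.c.Cz} (hu : u ∈ D.O) : (u : G) ∈ D.X :=
  D.mem_X.2 (congrArg Subtype.val (D.m_cent_O u hu)).symm

theorem mem_O_of_coprime {x : ↥D.c.Cz} (hm : x * D.mC = D.mC * x) (h : (orderOf x).Coprime 6) : x ∈ D.O := by
  have hco := congrArg D.co hm
  rw [D.co_mul, D.co_mul, D.co_m] at hco
  have h6 := Model.twelve_six _ (Model.cent_m _ (D.co_mem x) hco)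
  rw [← D.co_pow, D.co_eq_one, ← D.c.π_eq_one, map_pow] at h6
  rw [← D.c.π_eq_one]
  exact orderOf_eq_one_iff.1 (Nat.eq_one_of_dvd_coprimes h (orderOf_map_dvd _ _) (orderOf_dvd_of_pow_eq_one h6))

theorem yG_inverts {u : ↥D.c.Cz} (hu : u ∈ D.O) : D.c.yG * (u : G) * D.c.yG⁻¹ = (u : G)⁻¹ := by
  rw [inv_eq_of_mul_eq_one_right D.c.yG_sq]
  exact congrArg Subtype.val (D.inverts u hu)

theorem z_fixes {u : ↥D.c.Cz} : D.c.z * (u : G) * D.c.z⁻¹ = u := by
  rw [← mem_centralizer_singleton_iff.1 u.2, mul_inv_cancel_right]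

theorem V_pm {v : G} (hv : v ∈ D.c.V) {u : ↥D.c.Cz} (hu : u ∈ D.O) :
    v * (u : G) * v⁻¹ = u ∨ v * (u : G) * v⁻¹ = (u : G)⁻¹ := by
  rcases D.Cz_pm ⟨v, D.V_le_Cz hv⟩ hu with h | h
  · exact Or.inl (congrArg Subtype.val h :)
  · exact Or.inr (congrArg Subtype.val h :)

variable [IsSimpleGroup G]

/-- The four-group is a Sylow subgroup of the centraliser. -/
theorem conj_into_V {T : Subgroup G} (hT : IsPGroup 2 ↥T) (hTX : T ≤ D.X) :
    ∃ x ∈ D.X, ∀ t ∈ T, x * t * x⁻¹ ∈ D.c.V := by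
  haveI := Fact.mk Nat.prime_two
  obtain ⟨P₀, hP₀⟩ := ((D.c.S.2.to_le D.c.V_le_S).comap_subtype (K := D.X)).exists_le_sylow
  obtain ⟨P, hP⟩ := (hT.comap_subtype (K := D.X)).exists_le_sylow
  obtain ⟨g, hg⟩ := MulAction.exists_smul_eq ↥D.X P P₀
  have hle : (P₀ : Subgroup ↥D.X).map D.X.subtype ≤ D.c.V :=
    D.two_le_V (P₀.2.map _) (by rintro _ ⟨a, -, rfl⟩; exact D.mem_X.1 a.2)
      fun v hv => ⟨⟨v, D.V_le_X hv⟩, hP₀ hv, rfl⟩
  refine ⟨g, g.2, fun t ht => hle ⟨g * ⟨t, hTX ht⟩ * g⁻¹, ?_, rfl⟩⟩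
  rw [← hg, Sylow.coe_subgroup_smul]
  exact ⟨⟨t, hTX ht⟩, hP (show (⟨t, hTX ht⟩ : ↥D.X) ∈ T.subgroupOf D.X from ht), rfl⟩

/-- A fixed element of the four-group action inside an abelian invariant subgroup. -/
theorem exists_fixed {A : Subgroup G} (hab : ∀ a ∈ A, ∀ b ∈ A, a * b = b * a)
    (hinv : ∀ v ∈ D.c.V, ∀ a ∈ A, v * a * v⁻¹ ∈ A) {a : G} (ha : a ∈ A) (ha1 : a ≠ 1) :
    ∃ v ∈ D.c.V, v ≠ 1 ∧ ∃ b ∈ A, b ≠ 1 ∧ v * b = b * v := by
  have key : ∀ v ∈ D.c.V, a * (v * a * v⁻¹) ≠ 1 → ∃ b ∈ A, b ≠ 1 ∧ v * b = b * v := by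
    intro v hv hne
    have hvv : v⁻¹ = v := inv_eq_of_mul_eq_one_right (D.c.V_mul_self hv)
    refine ⟨_, mul_mem ha (hinv v hv a ha), hne, ?_⟩
    calc v * (a * (v * a * v⁻¹)) = v * a * v⁻¹ * (v * v * a * v⁻¹) := by group
      _ = v * a * v⁻¹ * (a * v⁻¹) := by rw [D.c.V_mul_self hv, one_mul]
      _ = v * a * v⁻¹ * a * v⁻¹ := by group
      _ = a * (v * a * v⁻¹) * v⁻¹ := by rw [hab _ (hinv v hv a ha) _ ha]
      _ = _ := by rw [hvv]
  by_cases h1 : a * (D.c.z * a * D.c.z⁻¹) = 1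
  swap
  · exact ⟨_, D.c.z_mem_V, D.c.z_ne_one, key _ D.c.z_mem_V h1⟩
  by_cases h2 : a * (D.c.yG * a * D.c.yG⁻¹) = 1
  swap
  · exact ⟨_, D.c.yG_mem_V, D.c.yG_ne_one, key _ D.c.yG_mem_V h2⟩
  refine ⟨_, mul_mem D.c.z_mem_V D.c.yG_mem_V, D.c.zy_ne_one, a, ha, ha1, ?_⟩
  have e1 : D.c.z * a * D.c.z⁻¹ = a⁻¹ := eq_inv_of_mul_eq_one_right h1
  have e2 : D.c.yG * a * D.c.yG⁻¹ = a⁻¹ := eq_inv_of_mul_eq_one_right h2
  refine mul_inv_eq_iff_eq_mul.1 ?_
  calc D.c.z * D.c.yG * a * (D.c.z * D.c.yG)⁻¹ = D.c.z * (D.c.yG * a * D.c.yG⁻¹) * D.c.z⁻¹ := by group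
    _ = (D.c.z * a * D.c.z⁻¹)⁻¹ := by rw [e2]; group
    _ = a := by rw [e1, inv_inv]

/-- The solvable type of centraliser. -/
theorem core_trivial {W : Subgroup G} (hWX : W ≤ D.X) (hWn : ∀ x ∈ D.X, ∀ w ∈ W, x * w * x⁻¹ ∈ W)
    (hWodd : Odd (Nat.card ↥W)) (hVW : ∀ x ∈ D.X, ∀ v ∈ D.c.V, ∃ v' ∈ D.c.V, ∃ w ∈ W, x * v * x⁻¹ = v' * w) :
    (∀ u ∈ D.O, u = 1) ∧ Nat.card ↥D.X = 36 ∧ ∀ x ∈ D.X, ∀ v ∈ D.c.V, x * v * x⁻¹ ∈ D.c.V := by
  classical
  haveI := Fact.mk Nat.prime_two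
  haveI := D.c.klein_V
  have hVp : IsPGroup 2 ↥D.c.V := D.c.S.2.to_le D.c.V_le_S
  have hcop : (Nat.card ↥D.c.V).Coprime (Nat.card ↥W) := by
    rw [IsKleinFour.card_four]
    exact (Nat.coprime_two_left.2 hWodd).pow_left 2
  have hVN : D.c.V ≤ normalizer (W : Set G) := fun v hv => mem_normalizer_of_conj fun w hw => hWn v (D.V_le_X hv) w hw
  have hWV : ∀ v ∈ D.c.V, v ∈ W → v = 1 := fun v hv hvW => by
    have := Subgroup.disjoint_def.1 (Subgroup.disjoint_of_coprime_natCard hcop) hv hvW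
    exact this
  -- the core lies in the odd subgroup
  have hOW : ∀ u ∈ D.O, (u : G) ∈ W := by
    intro u hu
    obtain ⟨v, hv, w, hw, he⟩ := hVW _ (D.O_le_X hu) _ D.c.yG_mem_V
    have hy : D.c.yG * (u : G)⁻¹ = (u : G) * D.c.yG := by
      have h1 := D.yG_inverts (inv_mem hu)
      rw [InvMemClass.coe_inv, inv_inv] at h1
      exact (mul_inv_eq_iff_eq_mul.1 h1)
    have h2 : (u : G) * (u : G) = (v * D.c.yG) * (D.c.yG⁻¹ * w * D.c.yG⁻¹⁻¹) := by
      calc (u : G) * (u : G) = (u : G) * D.c.yG * (u : G)⁻¹ * D.c.yG⁻¹ := by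
            rw [mul_assoc (u : G) D.c.yG, hy]; group
        _ = v * w * D.c.yG := by rw [he, inv_eq_of_mul_eq_one_right D.c.yG_sq]
        _ = _ := by group
    have hw' : D.c.yG⁻¹ * w * D.c.yG⁻¹⁻¹ ∈ W := hWn _ (D.V_le_X (inv_mem D.c.yG_mem_V)) w hw
    set a := v * D.c.yG with ha
    have haV : a ∈ D.c.V := mul_mem hv D.c.yG_mem_V
    have hpow : ∀ n : ℕ, ∃ b ∈ W, ((u : G) * (u : G)) ^ n = a ^ n * b := by
      intro n
      induction n with
      | zero => exact ⟨1, one_mem _, by simp⟩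
      | succ n ih =>
        obtain ⟨b, hb, hbe⟩ := ih
        refine ⟨a⁻¹ * b * a⁻¹⁻¹ * _, mul_mem (hWn _ (D.V_le_X (inv_mem haV)) b hb) hw', ?_⟩
        rw [pow_succ, hbe, h2, pow_succ]
        group
    obtain ⟨k, hk⟩ := D.c.odd_of_mem_O hu
    obtain ⟨b, hb, hbe⟩ := hpow (2 * k + 1)
    have hu1 : ((u : G) * (u : G)) ^ (2 * k + 1) = 1 := by
      rw [← hk, ← pow_two, ← pow_mul, mul_comm, pow_mul, ← Subgroup.orderOf_coe, pow_orderOf_eq_one, one_pow]
    have ha1 : a = 1 := hWV a haV (by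
      have h3 : a ^ (2 * k + 1) = a := by
        rw [pow_succ, pow_mul, pow_two, D.c.V_mul_self haV, one_pow, one_mul]
      rw [hu1, h3] at hbe
      rw [show a = b⁻¹ from eq_inv_of_mul_eq_one_left hbe.symm]
      exact inv_mem hb)
    have hu2 : (u : G) * (u : G) ∈ W := by rw [h2, ha1, one_mul]; exact hw'
    have h4 : ((u : G) * (u : G)) ^ (k + 1) = (u : G) := by
      rw [← pow_two, ← pow_mul, show 2 * (k + 1) = orderOf u + 1 by omega, pow_succ, ← Subgroup.orderOf_coe,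
        pow_orderOf_eq_one, one_mul]
    rw [← h4]
    exact pow_mem hu2 _
  -- the core is trivial
  haveI := hVp.isNilpotent
  have hsolv : Group.IsSolvable ↥D.c.V ∨ Group.IsSolvable ↥W := Or.inl inferInstance
  have hO : ∀ u ∈ D.O, u = 1 := by
    by_contra hne
    push Not at hne
    obtain ⟨u, hu, hu1⟩ := hne
    have hO1 : Nat.card D.O ≠ 1 := fun h => hu1 (by rw [card_eq_one] at h; rwa [h, mem_bot] at hu)
    set r := (Nat.card D.O).minFac with hr
    haveI hrp : Fact r.Prime := ⟨Nat.minFac_prime hO1⟩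
    have hrO : r ∣ Nat.card D.O := Nat.minFac_dvd _
    have hr2 : r ≠ 2 := fun e => Nat.not_even_iff_odd.2 D.c.odd_O (even_iff_two_dvd.2 (e ▸ hrO))
    have hr3 : r ≠ 3 := fun e => D.three_not_dvd_O (e ▸ hrO)
    obtain ⟨⟨h, hh⟩, hho⟩ := exists_prime_orderOf_dvd_card' (G := ↥D.O) r hrO
    rw [Subgroup.orderOf_mk] at hho
    have hhG : orderOf (h : G) = r := (Subgroup.orderOf_coe h).trans hho
    obtain ⟨P, hP⟩ := CfsgLib.coprime_exists_invariant_sylow hVN hcop hsolv r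
    set R := (P : Subgroup ↥W).map W.subtype with hR
    have hRp : IsPGroup r ↥R := P.2.map _
    have huniq : ∀ U : Subgroup G, U ≤ W → IsPGroup r ↥U → D.c.V ≤ normalizer (U : Set G) → U ≤ R := by
      intro U hUW hUp hUV
      obtain ⟨Q, hUQ, hQ⟩ := CfsgLib.coprime_le_invariant_sylow hVN hcop hsolv hUW hUp hUV
      obtain ⟨a, ha, haQ⟩ := CfsgLib.coprime_invariant_sylow_conj hVN hcop hsolv Q P hQ hP
      obtain ⟨v, hv, i, hai⟩ := D.cent_V (mem_centralizer_iff.1 ha _ D.c.z_mem_V).symm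
        (mem_centralizer_iff.1 ha _ D.c.yG_mem_V).symm
      intro g hg
      obtain ⟨q, hq, hqg⟩ := hUQ hg
      have haX : ∀ x ∈ W, (a : G) * x = x * (a : G) := by
        -- the odd part of the centraliser of the four-group is central
        intro x hx
        have hvm : Commute v (D.m ^ i) := ((show Commute D.m v from D.m_V hv).symm).pow_right i
        have ha2 : (a : G) ^ (2 * 1) = (D.m ^ i) ^ (2 * 1) := by
          rw [hai, hvm.mul_pow, pow_mul v, pow_two, D.c.V_mul_self hv, one_pow, one_mul]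
        obtain ⟨k, hk⟩ := hWodd.of_dvd_nat (Subgroup.orderOf_dvd_natCard W a.2)
        have ha3 : (a : G) = ((a : G) ^ (2 * 1)) ^ (k + 1) := by
          rw [mul_one, ← pow_mul, show 2 * (k + 1) = orderOf (a : G) + 1 by omega, pow_succ, pow_orderOf_eq_one,
            one_mul]
        rw [ha3, ha2, ← pow_mul, ← pow_mul]
        exact ((show Commute D.m x from (D.mem_X.1 (hWX hx)).symm).pow_left _).eq
      refine ⟨q, ?_, hqg⟩
      show q ∈ (P : Subgroup ↥W)
      rw [← haQ]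
      exact ⟨q, hq, Subtype.ext (show (a : G) * q * (a : G)⁻¹ = q by rw [haX _ q.2, mul_inv_cancel_right])⟩
    have hRW : R ≤ W := map_subtype_le _
    have hinvR : ∀ g ∈ D.X, g ∈ normalizer (D.c.V : Set G) → ∀ x ∈ R, g * x * g⁻¹ ∈ R := by
      intro g hgX hgV x hx
      refine huniq (R.map (MulAut.conj g).toMonoidHom) (by rintro _ ⟨w, hw, rfl⟩; exact hWn g hgX w (hRW hw))
        (hRp.map _) (fun v hv => mem_normalizer_of_conj ?_) ⟨x, hx, rfl⟩
      rintro _ ⟨w, hw, rfl⟩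
      have h1 : g⁻¹ * v * g ∈ D.c.V := (mem_normalizer_iff''.1 hgV v).1 hv
      refine ⟨g⁻¹ * v * g * w * (g⁻¹ * v * g)⁻¹, (mem_normalizer_iff.1 (hP h1) w).1 hw, ?_⟩
      simp only [MulEquiv.coe_toMonoidHom, MulAut.conj_apply]
      group
    have hinV : ∀ v ∈ D.c.V, ∀ x ∈ R, v * x * v⁻¹ ∈ R := fun v hv x hx => (mem_normalizer_iff.1 (hP hv) x).1 hx
    have hsub : ∀ g : G, g ∈ W → orderOf g = r → (∀ v ∈ D.c.V, v * g * v⁻¹ = g ∨ v * g * v⁻¹ = g⁻¹) → g ∈ R := by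
      intro g hg hgo hgV
      refine huniq (zpowers g) (zpowers_le.2 hg) (IsPGroup.of_card (n := 1) (by rw [Nat.card_zpowers, hgo, pow_one]))
        (fun v hv => mem_normalizer_zpowers (isOfFinOrder_of_finite _) ?_) (mem_zpowers g)
      rcases hgV v hv with e | e <;> rw [e]
      · exact mem_zpowers g
      · exact inv_mem (mem_zpowers g)
    have hhR : (h : G) ∈ R := hsub _ (hOW h hh) hhG fun v hv => D.V_pm hv hh
    have hR1 : R ≠ ⊥ := fun e => by
      rw [e, mem_bot] at hhR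
      rw [hhR, orderOf_one] at hhG
      exact hrp.out.one_lt.ne hhG
    set A := omegaZ r R with hA
    obtain ⟨a, ha, ha1⟩ := exists_omegaZ hRp hR1
    have hAinv : ∀ g ∈ D.X, g ∈ normalizer (D.c.V : Set G) → ∀ x ∈ A, g * x * g⁻¹ ∈ A := fun g hg hg' x hx =>
      (mem_normalizer_iff.1 (normalizer_le_omegaZ R (mem_normalizer_of_conj (hinvR g hg hg'))) x).1 hx
    obtain ⟨v, hv, hv1, b, hb, hb1, hvb⟩ := D.exists_fixed (fun x (hx : x ∈ omegaZ r R) y (hy : y ∈ omegaZ r R) => hx.2.1 y hy.1)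
      (fun v hv => hAinv v (D.V_le_X hv) (le_normalizer hv)) ha ha1
    obtain ⟨g, hgm, hgV, hgv⟩ := D.exists_norm hv hv1
    set b' := g * b * g⁻¹ with hb'
    have hb'A : b' ∈ A := hAinv g (D.mem_X.2 hgm) hgV b hb
    have hb'z : b' * D.c.z = D.c.z * b' := by
      rw [← hgv, hb']
      calc g * b * g⁻¹ * (g * v * g⁻¹) = g * (b * v) * g⁻¹ := by group
        _ = g * (v * b) * g⁻¹ := by rw [hvb]
        _ = _ := by group
    have hb'o : orderOf b' = r := orderOf_eq_prime hb'A.2.2 fun e => hb1 (conj_eq_one_iff.1 e)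
    let bC : ↥D.c.Cz := ⟨b', mem_centralizer_singleton_iff.2 hb'z⟩
    have hbO : bC ∈ D.O := D.mem_O_of_coprime (Subtype.ext (D.mem_X.1 (hWX (hRW hb'A.1)))) (by
      rw [← Subgroup.orderOf_coe]
      show (orderOf b').Coprime 6
      rw [hb'o, show (6 : ℕ) = 2 * 3 from rfl]
      exact Nat.Coprime.mul_right ((Nat.coprime_primes hrp.out Nat.prime_two).2 hr2)
        ((Nat.coprime_primes hrp.out Nat.prime_three).2 hr3))
    -- an inverted element of the same order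
    obtain ⟨k, hkm, hkV, hky⟩ := D.exists_norm D.c.yG_mem_V D.c.yG_ne_one
    set h' := k⁻¹ * (h : G) * k with hh'
    have hh'o : orderOf h' = r := by
      rw [← hhG, hh']
      have := (MulAut.conj k⁻¹).orderOf_eq (h : G)
      simpa using this
    have hVact : ∀ v ∈ D.c.V, v * h' * v⁻¹ = k⁻¹ * ((k * v * k⁻¹) * (h : G) * (k * v * k⁻¹)⁻¹) * k := fun v _ => by
      rw [hh']; group
    have hh'R : h' ∈ R := by
      refine hsub _ ?_ hh'o fun v hv => ?_
      · have := hWn k⁻¹ (inv_mem (D.mem_X.2 hkm)) _ (hOW h hh)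
        rwa [inv_inv] at this
      · rw [hVact v hv]
        rcases D.V_pm ((mem_normalizer_iff.1 hkV v).1 hv) hh with e | e <;> rw [e, hh']
        · exact Or.inl rfl
        · exact Or.inr (by group)
    have hzinv : D.c.z * h' * D.c.z⁻¹ = h'⁻¹ := by
      rw [hVact _ D.c.z_mem_V]
      have hne1 : k * D.c.z * k⁻¹ ≠ 1 := fun e => D.c.z_ne_one (conj_eq_one_iff.1 e)
      have hnez : k * D.c.z * k⁻¹ ≠ D.c.z := fun e => D.c.yG_ne_z ((MulAut.conj k).injective (by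
        rw [MulAut.conj_apply, MulAut.conj_apply, hky, e]))
      rcases (mem_normalizer_iff.1 hkV _).1 D.c.z_mem_V with e | e | e | e
      · exact absurd e hne1
      · exact absurd e hnez
      · rw [e, D.yG_inverts hh, hh']; group
      · rw [e, show D.c.z * D.c.yG * (h : G) * (D.c.z * D.c.yG)⁻¹ = D.c.z * (D.c.yG * (h : G) * D.c.yG⁻¹) * D.c.z⁻¹ by group,
          D.yG_inverts hh, show D.c.z * (h : G)⁻¹ * D.c.z⁻¹ = (D.c.z * (h : G) * D.c.z⁻¹)⁻¹ by group, D.z_fixes, hh']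
        group
    exact D.no_commuting hbO ((Subgroup.orderOf_coe bC).symm.trans hb'o) hh'o (hb'A.2.1 h' hh'R) hzinv
  -- the odd subgroup is generated by the element of order three
  have hm3 : D.mC ^ 3 = 1 := D.orderOf_mC ▸ pow_orderOf_eq_one _
  have hzW : ∀ w ∈ W, w * D.c.z = D.c.z * w → w ∈ zpowers D.m := by
    intro w hw hwz
    obtain ⟨v, hv, i, o, ho, hwe⟩ := D.cent_zm (x := ⟨w, mem_centralizer_singleton_iff.2 hwz⟩)
      (Subtype.ext (D.mem_X.1 (hWX hw)))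
    rw [hO o ho, mul_one] at hwe
    obtain ⟨k, hk⟩ := hWodd.of_dvd_nat (Subgroup.orderOf_dvd_natCard W hw)
    have hwe' : w = (v : G) * D.m ^ i := congrArg Subtype.val hwe
    have h1 : w ^ (orderOf w * 3) = (v : G) := by
      rw [hwe', ((show Commute D.m (v : G) from D.m_V hv).symm.pow_right i).mul_pow, ← hwe', hk, ← pow_mul D.m,
        show i * ((2 * k + 1) * 3) = 3 * (i * (2 * k + 1)) by ring, pow_mul D.m,
        show D.m ^ 3 = 1 from D.orderOf_m ▸ pow_orderOf_eq_one _, one_pow, mul_one,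
        show (2 * k + 1) * 3 = 2 * (3 * k + 1) + 1 by ring, pow_succ, pow_mul, pow_two, D.c.V_mul_self hv, one_pow,
        one_mul]
    rw [pow_mul, pow_orderOf_eq_one, one_pow] at h1
    rw [hwe', ← h1, one_mul]
    exact pow_mem (mem_zpowers _) i
  have hWm : W ≤ zpowers D.m := by
    haveI : IsMulCommutative ↥D.c.V := ⟨⟨fun a b => Subtype.ext (D.c.V_comm a.2 b.2)⟩⟩
    rw [← CfsgLib.coprime_generated_by_centralizers IsKleinFour.not_isCyclic hVN hcop]
    refine iSup₂_le fun v hv w hw => ?_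
    obtain ⟨g, hgm, -, hgz⟩ := D.exists_norm hv.1 hv.2
    have hgw : g * w * g⁻¹ ∈ W := hWn g (D.mem_X.2 hgm) w hw.1
    have hwm := hzW _ hgw (by
      rw [← hgz]
      calc g * w * g⁻¹ * (g * v * g⁻¹) = g * (w * v) * g⁻¹ := by group
        _ = g * (v * w) * g⁻¹ := by rw [mem_centralizer_singleton_iff.1 hw.2]
        _ = _ := by group)
    obtain ⟨i, hi⟩ := hwm
    refine ⟨i, ?_⟩
    show D.m ^ i = w
    have hc : Commute g (D.m ^ i) := (show Commute g D.m from hgm).zpow_right i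
    calc D.m ^ i = g⁻¹ * (g * D.m ^ i) := by group
      _ = g⁻¹ * (D.m ^ i * g) := by rw [hc.eq]
      _ = w := by rw [show D.m ^ i = g * w * g⁻¹ from hi]; group
  have hVn : ∀ x ∈ D.X, ∀ v ∈ D.c.V, x * v * x⁻¹ ∈ D.c.V := by
    intro x hx v hv
    obtain ⟨v', hv', w, hw, he⟩ := hVW x hx v hv
    obtain ⟨i, hi⟩ := hWm hw
    obtain rfl : w = D.m ^ i := hi.symm
    have hc : Commute v' (D.m ^ i) := (show Commute D.m v' from D.m_V hv').symm.zpow_right i
    have h1 : (v' * D.m ^ i) ^ 2 = 1 := by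
      rw [← he, conj_pow, pow_two, D.c.V_mul_self hv, mul_one, mul_inv_cancel]
    rw [hc.mul_pow, pow_two v', D.c.V_mul_self hv', one_mul] at h1
    have h2 : (D.m ^ i) ^ 3 = 1 := by
      rw [← zpow_natCast, ← zpow_mul, mul_comm, zpow_mul, zpow_natCast,
        show D.m ^ 3 = 1 from D.orderOf_m ▸ pow_orderOf_eq_one _, one_zpow]
    rw [pow_succ, h1, one_mul] at h2
    rw [he, h2, mul_one]
    exact hv'
  refine ⟨hO, ?_, hVn⟩
  -- the order
  letI : MulAction ↥D.X ↥D.c.V :=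
    { smul := fun x v => ⟨(x : G) * v * (x : G)⁻¹, hVn x x.2 v v.2⟩
      one_smul := fun v => Subtype.ext (show ((1 : ↥D.X) : G) * v * ((1 : ↥D.X) : G)⁻¹ = v by simp)
      mul_smul := fun x y v => Subtype.ext (show ((x * y : ↥D.X) : G) * v * ((x * y : ↥D.X) : G)⁻¹ =
        (x : G) * ((y : G) * v * (y : G)⁻¹) * (x : G)⁻¹ by simp [mul_assoc]) }
  let zV : ↥D.c.V := ⟨D.c.z, D.c.z_mem_V⟩
  have horb : Nat.card ↥(MulAction.orbit ↥D.X zV) = 3 := by
    have hset : MulAction.orbit ↥D.X zV = {v | v ≠ 1} := by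
      ext v
      constructor
      · rintro ⟨x, rfl⟩ h1
        exact D.c.z_ne_one (conj_eq_one_iff.1 (congrArg Subtype.val h1 : (x : G) * D.c.z * (x : G)⁻¹ = 1))
      · intro hv1
        obtain ⟨g, hgm, -, hgz⟩ := D.exists_norm v.2 fun e => hv1 (Subtype.ext e)
        refine ⟨⟨g⁻¹, inv_mem (D.mem_X.2 hgm)⟩, Subtype.ext ?_⟩
        show g⁻¹ * D.c.z * g⁻¹⁻¹ = v
        rw [← hgz]; group
    rw [hset]
    haveI := Fintype.ofFinite ↥D.c.V
    show Nat.card {v : ↥D.c.V // v ≠ 1} = 3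
    rw [Nat.card_eq_fintype_card, Fintype.card_subtype_compl, Fintype.card_subtype_eq, ← Nat.card_eq_fintype_card,
      IsKleinFour.card_four]
  have hstab : Nat.card ↥(MulAction.stabilizer ↥D.X zV) = 12 := by
    let f : ↥D.c.V × ↥(zpowers D.m) → ↥(MulAction.stabilizer ↥D.X zV) := fun q =>
      ⟨⟨(q.1 : G) * (q.2 : G), mul_mem (D.V_le_X q.1.2) (zpowers_le.2 D.m_mem_X q.2.2)⟩, Subtype.ext (by
        show (q.1 : G) * (q.2 : G) * D.c.z * ((q.1 : G) * (q.2 : G))⁻¹ = D.c.z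
        obtain ⟨i, hi⟩ := q.2.2
        have hc : Commute ((q.1 : G) * (q.2 : G)) D.c.z :=
          (show Commute (q.1 : G) D.c.z from D.c.V_comm q.1.2 D.c.z_mem_V).mul_left
            (by rw [← hi]; exact (show Commute D.m D.c.z from D.m_z).zpow_left i)
        rw [hc.eq, mul_inv_cancel_right])⟩
    have hf : Function.Bijective f := by
      refine ⟨fun a b h => ?_, fun x => ?_⟩
      · have h1 : (a.1 : G) * (a.2 : G) = (b.1 : G) * (b.2 : G) := congrArg (fun s : ↥(MulAction.stabilizer ↥D.X zV) => ((s : ↥D.X) : G)) h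
        have h2 : (b.1 : G)⁻¹ * (a.1 : G) = (b.2 : G) * (a.2 : G)⁻¹ := by
          calc (b.1 : G)⁻¹ * (a.1 : G) = (b.1 : G)⁻¹ * ((a.1 : G) * (a.2 : G)) * (a.2 : G)⁻¹ := by group
            _ = _ := by rw [h1]; group
        have hd : Disjoint D.c.V (zpowers D.m) := disjoint_of_coprime_natCard (by
          rw [IsKleinFour.card_four, Nat.card_zpowers, D.orderOf_m]; norm_num)
        have h3 := Subgroup.disjoint_def.1 hd (mul_mem (inv_mem b.1.2) a.1.2) (h2 ▸ mul_mem b.2.2 (inv_mem a.2.2))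
        have h4 : (b.2 : G) * (a.2 : G)⁻¹ = 1 := h2 ▸ h3
        exact Prod.ext (Subtype.ext (inv_mul_eq_one.1 h3).symm) (Subtype.ext (mul_inv_eq_one.1 h4).symm)
      · have hxz : (x : ↥D.X) • zV = zV := x.2
        have hxz' : ((x : ↥D.X) : G) * D.c.z = D.c.z * ((x : ↥D.X) : G) :=
          mul_inv_eq_iff_eq_mul.1 (congrArg Subtype.val hxz)
        obtain ⟨v, hv, i, o, ho, hxe⟩ := D.cent_zm (x := ⟨_, mem_centralizer_singleton_iff.2 hxz'⟩)
          (Subtype.ext (D.mem_X.1 (x : ↥D.X).2))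
        rw [hO o ho, mul_one] at hxe
        exact ⟨(⟨v, hv⟩, ⟨D.m ^ i, pow_mem (mem_zpowers _) i⟩), Subtype.ext (Subtype.ext (congrArg Subtype.val hxe).symm)⟩
    rw [← Nat.card_eq_of_bijective f hf, Nat.card_prod, IsKleinFour.card_four, Nat.card_zpowers, D.orderOf_m]
  have := Nat.card_congr (MulAction.orbitProdStabilizerEquivGroup ↥D.X zV)
  rw [Nat.card_prod, horb, hstab] at this
  exact this.symm

end Five

end CfsgLib.Homogeneous.SD
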