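import Cfsg.Agent.Lib.Homogeneous.SD.Quotient
import Cfsg.Agent.Lib.SuborbitGroups.SDCore

/-!
The core of the centraliser of the central involution: only the identity is fixed by the noncentral involution, so it
is abelian and inverted.
-/

set_option autoImplicit false
set_option linter.unusedSectionVars false
set_option linter.style.haveILetI false

namespace CfsgLib.Homogeneous.SD

open Cfsg Subgroup
open scoped commutatorElement MatrixGroups

universe u

variable {G : Type u} [Group G] [Finite G]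

theorem frattini {p : ℕ} [Fact p.Prime] {K : Subgroup G} (P : Sylow p K) {y : G}
    (hy : y ∈ normalizer (K : Set G)) :
    ∃ k ∈ K, k * y ∈ normalizer ((P : Subgroup K).map K.subtype : Set G) := by
  set R := (P : Subgroup K).map K.subtype
  have hle : R.map (MulAut.conj y).toMonoidHom ≤ K := by
    rintro _ ⟨r, hr, rfl⟩
    exact (mem_normalizer_iff.mp hy r).mp (map_subtype_le _ hr)
  have hc : Nat.card ↥((R.map (MulAut.conj y).toMonoidHom).subgroupOf K) = p ^ (Nat.card K).factorization p := by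
    rw [Nat.card_congr (subgroupOfEquivOfLe hle).toEquiv, card_map_of_injective (MulAut.conj y).injective,
      card_map_of_injective K.subtype_injective, P.card_eq_multiplicity]
  obtain ⟨k, hk⟩ := MulAction.exists_smul_eq K (Sylow.ofCard _ hc) P
  refine ⟨k, k.2, mem_normalizer_of_conj fun x hx => ?_⟩
  have hm : y * x * y⁻¹ ∈ K := hle ⟨x, hx, rfl⟩
  have h : k * ⟨y * x * y⁻¹, hm⟩ * k⁻¹ ∈ (P : Subgroup K) := by
    rw [← hk, Sylow.coe_subgroup_smul]
    exact ⟨⟨y * x * y⁻¹, hm⟩, ⟨x, hx, rfl⟩, rfl⟩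
  exact ⟨_, h, by simp [mul_assoc]⟩

theorem fix_of_coprime {p : ℕ} [Fact p.Prime] {o x : G} (hx : orderOf x = p)
    (h : o * x * o⁻¹ ∈ zpowers x) (hc : (orderOf o).Coprime (p - 1)) : o * x * o⁻¹ = x := by
  obtain ⟨k, hk⟩ := exists_npow h
  have e := pow_conj hk.symm (orderOf o)
  rw [pow_orderOf_eq_one, one_mul, inv_one, mul_one] at e
  have e1 : ((k ^ orderOf o : ℕ) : ZMod p) = (1 : ℕ) := by
    rw [ZMod.natCast_eq_natCast_iff, ← hx, ← pow_eq_pow_iff_modEq, ← e, pow_one]
  push_cast at e1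
  have hk0 : (k : ZMod p) ≠ 0 := fun e0 => by
    rw [e0, zero_pow (orderOf_pos o).ne'] at e1
    exact zero_ne_one e1
  have h3 : orderOf (k : ZMod p) ∣ Nat.gcd (orderOf o) (p - 1) :=
    Nat.dvd_gcd (orderOf_dvd_of_pow_eq_one e1) (orderOf_dvd_of_pow_eq_one (ZMod.pow_card_sub_one_eq_one hk0))
  rw [hc.gcd_eq_one, Nat.dvd_one, orderOf_eq_one_iff, ← Nat.cast_one, ZMod.natCast_eq_natCast_iff, ← hx,
    ← pow_eq_pow_iff_modEq, pow_one, hk] at h3
  exact h3

namespace Ctx

variable (c : Ctx G)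

/-- The noncentral involution in the centraliser. -/
abbrev yC : ↥c.Cz := c.incl c.d.y

theorem yC_sq : c.yC * c.yC = 1 := by rw [← map_mul, CfsgLib.QD.hyy, map_one]

variable {F : Type} [Field F] [Fintype F] (e : ↥c.L ≃* Matrix.SpecialLinearGroup (Fin 2) F)
include e

theorem index_Qs (hF : Odd (Fintype.card F)) : c.Qs.index = 2 := by
  have h := c.Qs.card_mul_index
  rw [(c.Qs_data e hF).1, c.d.hcard, (c.sixteen e hF).1] at h
  omega

theorem mem_Qs_or (hF : Odd (Fintype.card F)) (s : (c.S : Subgroup G)) : s ∈ c.Qs ∨ s * c.d.y ∈ c.Qs := by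
  rw [mul_mem_iff_of_index_two (c.index_Qs e hF)]
  have := c.y_not_mem e hF
  tauto

theorem S_cent_of_y (hF : Odd (Fintype.card F)) {u : ↥c.Cz} (hu : u ∈ oddCore ↥c.Cz) (hy : c.yC * u = u * c.yC)
    (s : (c.S : Subgroup G)) : c.incl s * u = u * c.incl s := by
  rcases c.mem_Qs_or e hF s with h | h
  · exact c.Qs_cent_O e hF h hu
  · have h1 : Commute (c.incl (s * c.d.y)) u := c.Qs_cent_O e hF h hu
    have h2 := h1.mul_left (show Commute c.yC u from hy)
    rwa [← map_mul, mul_assoc, CfsgLib.QD.hyy, mul_one] at h2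

variable [IsSimpleGroup G]

/-- The noncentral involution fixes only the identity of the core. -/
theorem fix_y_trivial (hF : Odd (Fintype.card F)) {u : ↥c.Cz} (hu : u ∈ oddCore ↥c.Cz)
    (hy : c.yC * u = u * c.yC) : u = 1 := by
  classical
  haveI := Fact.mk Nat.prime_two
  by_contra hu1
  set M := oddCore ↥c.Cz ⊓ centralizer ({c.yC} : Set ↥c.Cz) with hM
  have huM : u ∈ M := ⟨hu, mem_centralizer_singleton_iff.2 hy.symm⟩
  have hM1 : Nat.card M ≠ 1 := fun h => hu1 (by
    rw [card_eq_one] at h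
    rwa [h, mem_bot] at huM)
  have hModd : Odd (Nat.card M) := c.odd_O.of_dvd_nat (card_dvd_of_le inf_le_left)
  set r := (Nat.card M).minFac with hr
  haveI hrp : Fact r.Prime := ⟨Nat.minFac_prime hM1⟩
  have hr2 : r ≠ 2 := fun h => Nat.not_even_iff_odd.2 hModd (even_iff_two_dvd.2 (h ▸ Nat.minFac_dvd _))
  obtain ⟨⟨m, hm⟩, hmo⟩ := exists_prime_orderOf_dvd_card' (G := ↥M) r (Nat.minFac_dvd _)
  rw [Subgroup.orderOf_mk] at hmo
  have hmy : c.yC * m = m * c.yC := (mem_centralizer_singleton_iff.1 hm.2).symm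
  have hmG : orderOf (m : G) = r := by rw [Subgroup.orderOf_coe, hmo]
  have hfix : CyclicFixed (m : G) := by
    intro g hg
    set H := centralizer ({(m : G)} : Set G) with hH
    have hSH : (c.S : Subgroup G) ≤ H := fun s hs => mem_centralizer_singleton_iff.2
      (congrArg Subtype.val (c.S_cent_of_y e hF hm.1 hmy ⟨s, hs⟩) :)
    have hgN : g ∈ normalizer (H : Set G) := mem_normalizer_of_conj fun x hx => by
      rw [mem_centralizer_singleton_iff] at hx ⊢
      obtain ⟨b, hb⟩ := (mem_normalizer_zpowers (isOfFinOrder_of_finite (m : G)) hg |> fun hn =>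
        (mem_normalizer_iff''.1 hn (m : G)).1 (mem_zpowers _))
      have hc : Commute x (g⁻¹ * (m : G) * g) := by rw [← hb]; exact (show Commute x (m : G) from hx).zpow_right b
      calc g * x * g⁻¹ * (m : G) = g * (x * (g⁻¹ * (m : G) * g)) * g⁻¹ := by group
        _ = g * (g⁻¹ * (m : G) * g * x) * g⁻¹ := by rw [hc.eq]
        _ = (m : G) * (g * x * g⁻¹) := by group
    obtain ⟨h, hhH, hn⟩ := frattini (c.S.subtype hSH) hgN
    rw [show ((c.S.subtype hSH : Sylow 2 H) : Subgroup H).map H.subtype = (c.S : Subgroup G) by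
      rw [Sylow.coe_subtype, subgroupOf_map_subtype, inf_eq_left.2 hSH]] at hn
    set n := h * g with hndef
    have hnm : n * (m : G) * n⁻¹ = g * (m : G) * g⁻¹ := by
      obtain ⟨b, hb⟩ := hg
      have hc : Commute h ((m : G) ^ b) := (show Commute h (m : G) from mem_centralizer_singleton_iff.1 hhH).zpow_right b
      rw [show n * (m : G) * n⁻¹ = h * (g * (m : G) * g⁻¹) * h⁻¹ by rw [hndef]; group, ← hb, hc.eq, mul_inv_cancel_right]
    rw [← hnm]
    have hnz : n * c.z * n⁻¹ = c.z := by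
      have h1 : n * c.z * n⁻¹ ∈ (c.S : Subgroup G) := (mem_normalizer_iff.1 hn _).1 c.z_mem
      have h2 : (⟨_, h1⟩ : (c.S : Subgroup G)) ∈ center (c.S : Subgroup G) := mem_center_iff.2 fun s => Subtype.ext (by
        show (s : G) * (n * c.z * n⁻¹) = n * c.z * n⁻¹ * s
        have h3 := mem_centralizer_singleton_iff.1 (c.S_le ((mem_normalizer_iff''.1 hn s).1 s.2))
        calc (s : G) * (n * c.z * n⁻¹) = n * (n⁻¹ * s * n * c.z) * n⁻¹ := by group
          _ = n * (c.z * (n⁻¹ * s * n)) * n⁻¹ := by rw [h3]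
          _ = _ := by group)
      rw [CfsgLib.QD.center_eq_zpowers c.d] at h2
      obtain ⟨i, hi⟩ := h2
      have hi' : c.z ^ i = n * c.z * n⁻¹ := congrArg Subtype.val hi
      obtain ⟨j, rfl | rfl⟩ := Int.even_or_odd' i
      · rw [zpow_mul, zpow_two, c.z_sq, one_zpow] at hi'
        exact absurd (conj_eq_one_iff.1 hi'.symm) c.z_ne_one
      · rw [zpow_add, zpow_mul, zpow_two, c.z_sq, one_zpow, one_mul, zpow_one] at hi'
        exact hi'.symm
    obtain ⟨k, j, hj, hord⟩ := Nat.exists_eq_two_pow_mul_odd (orderOf_pos n).ne'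
    have hn2 : n ^ j ∈ (c.S : Subgroup G) := by
      have h2 : (n ^ j) ^ 2 ^ k = 1 := by rw [← pow_mul, mul_comm, ← hord, pow_orderOf_eq_one]
      have hp : IsPGroup 2 (zpowers (n ^ j) ⊔ (c.S : Subgroup G) : Subgroup G) :=
        (zpowers_two _ h2).to_sup_of_normal_right' c.S.2 (zpowers_le.2 (pow_mem hn j))
      have := c.S.3 hp le_sup_right
      exact this ▸ mem_sup_left (mem_zpowers _)
    set n1 := n ^ 2 ^ k with hn1
    have hn1o : orderOf n1 = j := by
      rw [hn1, orderOf_pow_of_dvd (by positivity) (hord ▸ dvd_mul_right _ _), hord,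
        Nat.mul_div_cancel_left _ (by positivity)]
    have hn1z : n1 ∈ c.Cz := pow_mem (mem_centralizer_singleton_iff.2 (mul_inv_eq_iff_eq_mul.1 hnz)) _
    have hn1N : n1 ∈ normalizer ((c.S : Subgroup G) : Set G) := pow_mem hn _
    set σ := (c.S : Subgroup G).normalizerMonoidHom ⟨n1, hn1N⟩ with hσ
    have hσo : Odd (orderOf σ) := by
      refine Odd.of_dvd_nat ?_ (orderOf_map_dvd _ _)
      rw [← Subgroup.orderOf_coe]
      show Odd (orderOf n1)
      rw [hn1o]; exact hj
    obtain ⟨hσx, hσy⟩ := fix_gen c.d (c.sixteen e hF).1 hσo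
    have hcentS : ∀ s : (c.S : Subgroup G), n1 * (s : G) = (s : G) * n1 := fun s => by
      have h1 : σ s = s := by
        obtain ⟨i, rfl | rfl⟩ := CfsgLib.QD.cases_elem c.d s
        · rw [map_zpow, hσx]
        · rw [map_mul, map_zpow, hσx, hσy]
      exact mul_inv_eq_iff_eq_mul.1 (congrArg Subtype.val h1 :)
    let n' : ↥c.Cz := ⟨n1, hn1z⟩
    have hn'O : n' ∈ oddCore ↥c.Cz := by
      rw [← c.π_eq_one]
      refine c.odd_cent_Qs e hF (fun q hq => ?_) ?_
      · rw [← map_mul, ← map_mul, show n' * c.incl q = c.incl q * n' from Subtype.ext (hcentS q)]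
      · refine Odd.of_dvd_nat ?_ (orderOf_map_dvd _ _)
        rw [← Subgroup.orderOf_coe]
        show Odd (orderOf n1)
        rw [hn1o]; exact hj
    have hn'M : n' ∈ M := ⟨hn'O, mem_centralizer_singleton_iff.2 (Subtype.ext (hcentS c.d.y))⟩
    have hcop : (orderOf n1).Coprime (r - 1) := by
      refine Nat.coprime_of_dvd fun ℓ hℓ h1 h2 => ?_
      have h3 : ℓ ∣ Nat.card M := h1.trans (by
        rw [show orderOf n1 = orderOf n' from Subgroup.orderOf_coe n']
        exact Subgroup.orderOf_dvd_natCard M hn'M)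
      have h4 := Nat.minFac_le_of_dvd hℓ.two_le h3
      have h5 := Nat.le_of_dvd (by have := hrp.out.two_le; omega) h2
      rw [← hr] at h4
      have := hrp.out.two_le
      omega
    have hnmz : n * (m : G) * n⁻¹ ∈ zpowers (m : G) := hnm ▸ hg
    have hNn : n ∈ normalizer ((zpowers (m : G) : Subgroup G) : Set G) :=
      mem_normalizer_zpowers (isOfFinOrder_of_finite _) hnmz
    have hn1m : n1 * (m : G) * n1⁻¹ = (m : G) :=
      fix_of_coprime hmG ((mem_normalizer_iff.1 (pow_mem hNn _) _).1 (mem_zpowers _)) hcop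
    have hn2m : n ^ j * (m : G) * (n ^ j)⁻¹ = (m : G) := by
      rw [mul_inv_eq_iff_eq_mul]
      exact mem_centralizer_singleton_iff.1 (hSH hn2)
    have hcop2 : Nat.Coprime (2 ^ k) j := (Nat.coprime_two_left.2 hj).pow_left k
    have hmem : n ∈ centralizer ({(m : G)} : Set G) := by
      have h1 : n1 ∈ centralizer ({(m : G)} : Set G) := mem_centralizer_singleton_iff.2 (mul_inv_eq_iff_eq_mul.1 hn1m)
      have h2 : n ^ j ∈ centralizer ({(m : G)} : Set G) := mem_centralizer_singleton_iff.2 (mul_inv_eq_iff_eq_mul.1 hn2m)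
      have hg' := Nat.gcd_eq_gcd_ab (2 ^ k) j
      rw [hcop2.gcd_eq_one] at hg'
      have : n = n1 ^ (Nat.gcdA (2 ^ k) j) * (n ^ j) ^ (Nat.gcdB (2 ^ k) j) := by
        rw [hn1, ← zpow_natCast n (2 ^ k), ← zpow_natCast n j, ← zpow_mul, ← zpow_mul, ← zpow_add, ← hg', Nat.cast_one,
          zpow_one]
      rw [this]
      exact mul_mem (zpow_mem h1 _) (zpow_mem h2 _)
    rw [mul_inv_eq_iff_eq_mul]
    exact mem_centralizer_singleton_iff.1 hmem
  obtain ⟨P, N, hN, hc⟩ := c.hom.hasNormalPComplement_of_fixed hr2 hmG hfix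
  have h2G : 2 ∣ Nat.card G := dvd_trans (by norm_num) c.sixteen_dvd
  rcases hN.eq_bot_or_eq_top with rfl | rfl
  · rw [isComplement'_bot_left] at hc
    obtain ⟨n, hn⟩ := IsPGroup.iff_card.1 P.2
    rw [hc, card_top] at hn
    rw [hn] at h2G
    exact hr2 ((Nat.prime_dvd_prime_iff_eq Nat.prime_two hrp.out).1 (Nat.prime_two.dvd_of_dvd_pow h2G)).symm
  · rw [isComplement'_top_left] at hc
    have := Subgroup.orderOf_dvd_natCard (⊤ : Subgroup G) (mem_top (m : G))
    have h3 : r ∣ Nat.card (P : Subgroup G) := P.dvd_card_of_dvd_card (by rw [← hmG]; exact orderOf_dvd_natCard _)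
    rw [hc, card_bot, Nat.dvd_one] at h3
    exact hrp.out.one_lt.ne' h3

/-- The noncentral involution inverts the core. -/
theorem y_inverts (hF : Odd (Fintype.card F)) :
    ∀ u ∈ oddCore ↥c.Cz, (∃ w ∈ oddCore ↥c.Cz, u = w * c.yC * w⁻¹ * c.yC) ∧ c.yC * u * c.yC = u⁻¹ :=
  CfsgLib.SuborbitGroups.SD.inverts c.yC_sq (fun u hu => by
    have := (inferInstance : (oddCore ↥c.Cz).Normal).conj_mem u hu c.yC
    rwa [inv_eq_of_mul_eq_one_right c.yC_sq] at this) fun u hu h => c.fix_y_trivial e hF hu h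

theorem O_comm (hF : Odd (Fintype.card F)) {u v : ↥c.Cz} (hu : u ∈ oddCore ↥c.Cz) (hv : v ∈ oddCore ↥c.Cz) :
    u * v = v * u := by
  have h1 := (c.y_inverts e hF _ hu).2
  have h2 := (c.y_inverts e hF _ hv).2
  have h3 := (c.y_inverts e hF _ (mul_mem hu hv)).2
  have h4 : u⁻¹ * v⁻¹ = (u * v)⁻¹ := by
    rw [← h3, ← h1, ← h2]
    calc c.yC * u * c.yC * (c.yC * v * c.yC) = c.yC * u * (c.yC * c.yC) * v * c.yC := by group
      _ = _ := by rw [c.yC_sq]; group
  rw [_root_.mul_inv_rev] at h4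
  calc u * v = (v⁻¹ * u⁻¹)⁻¹ := by group
    _ = (u⁻¹ * v⁻¹)⁻¹ := by rw [h4]
    _ = v * u := by group

/-- An element commuting with the noncentral involution modulo the core can be moved into its centraliser. -/
theorem exists_fixed_lift (hF : Odd (Fintype.card F)) {w : ↥c.Cz} (hw : c.π w * c.ybar = c.ybar * c.π w) :
    ∃ w', c.π w' = c.π w ∧ w' * c.yC = c.yC * w' := by
  have hu : w * c.yC * w⁻¹ * c.yC ∈ oddCore ↥c.Cz := by
    rw [← c.π_eq_one, map_mul, map_mul, map_mul, map_inv]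
    show c.π w * c.ybar * (c.π w)⁻¹ * c.ybar = 1
    rw [hw, mul_inv_cancel_right]
    show c.π c.yC * c.π c.yC = 1
    rw [← map_mul, c.yC_sq, map_one]
  obtain ⟨⟨v, hv, hve⟩, -⟩ := c.y_inverts e hF _ hu
  refine ⟨v⁻¹ * w, by rw [map_mul, map_inv, c.π_eq_one.2 hv, inv_one, one_mul], ?_⟩
  have h1 : w * c.yC * w⁻¹ = v * c.yC * v⁻¹ := mul_right_cancel hve
  calc v⁻¹ * w * c.yC = v⁻¹ * (w * c.yC * w⁻¹) * w := by group
    _ = _ := by rw [h1]; group

end Ctx

end CfsgLib.Homogeneous.SD
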