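import Cfsg.Agent.Lib.Homogeneous.SD.Tools

/-!
A rank two subgroup fixed in one direction and inverted in another by a normalising element has a torus in its
automizer.
-/

set_option autoImplicit false

namespace CfsgLib.Homogeneous.SD

open Cfsg Subgroup Module
open scoped IsMulCommutative

universe u

variable {G : Type u} [Group G] [Finite G]

theorem exists_diag {F : Type*} [Field F] {W : Type*} [AddCommGroup W] [Module F W] [FiniteDimensional F W]
    (hd : finrank F W = 2) (h2 : (2 : F) ≠ 0) (h3 : (3 : F) ≠ 0) {N : Subgroup (W ≃ₗ[F] W)} [hN : N.Normal]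
    {g : W ≃ₗ[F] W} (hgN : g ∈ N) (hns : ¬ Lin.IsScalar g) {x y : W} (hli : LinearIndependent F ![x, y])
    {t : F} (ht : t ≠ 0) : ∃ D ∈ N, D x = t • x ∧ D y = t⁻¹ • y := by
  obtain ⟨f, v, hfv, hf, hv, hmem⟩ := Lin.exists_tv_of_two hd h2 h3 hgN hns
  have hall := Lin.all_tv hfv hf hv hmem
  let B := basisOfLinearIndependentOfCardEqFinrank hli (by rw [hd]; rfl)
  have hB0 : B 0 = x := by simp [B]
  have hB1 : B 1 = y := by simp [B]
  have c00 : B.coord 0 x = 1 := by rw [← hB0]; simp [Basis.coord_apply]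
  have c01 : B.coord 0 y = 0 := by rw [← hB1]; simp [Basis.coord_apply]
  have c10 : B.coord 1 x = 0 := by rw [← hB0]; simp [Basis.coord_apply]
  have c11 : B.coord 1 y = 1 := by rw [← hB1]; simp [Basis.coord_apply]
  obtain ⟨D, hD, hDz⟩ := Lin.diag_mem hall c00 c01 c10 c11 ht
  refine ⟨D, hD, ?_, ?_⟩
  · rw [hDz, c00, c10, mul_zero, zero_smul, add_zero, mul_one, sub_smul, one_smul, add_sub_cancel]
  · rw [hDz, c01, c11, mul_zero, zero_smul, add_zero, mul_one, sub_smul, one_smul, add_sub_cancel]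

theorem exists_torus_aux (h : Hom G) {r : ℕ} [Fact r.Prime] (h2 : (2 : ZMod r) ≠ 0) (h3 : (3 : ZMod r) ≠ 0)
    (E : Subgroup G) [IsMulCommutative ↥E] [Module (ZMod r) (Additive ↥E)]
    (hd : finrank (ZMod r) (Additive ↥E) = 2) (g : normalizer (E : Set G))
    (hns : ¬ Lin.IsScalar (linOf (p := r) g)) (a b : ↥E)
    (hli : LinearIndependent (ZMod r) ![Additive.ofMul a, Additive.ofMul b]) {k l : ℕ}
    (hkl : (k : ZMod r) * (l : ZMod r) = 1) :
    ∃ g' : G, g' * a * g'⁻¹ = (a : G) ^ k ∧ g' * b * g'⁻¹ = (b : G) ^ l := by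
  haveI : Finite (Additive ↥E) := inferInstanceAs (Finite ↥E)
  haveI : FiniteDimensional (ZMod r) (Additive ↥E) := Module.Finite.of_finite
  haveI := h.autzLin_normal r E
  obtain ⟨T, hT, hTa, hTb⟩ := exists_diag hd h2 h3 (linOf_mem (p := r) g) hns hli
    (left_ne_zero_of_mul_eq_one hkl)
  obtain ⟨g', hg'⟩ := mem_autzLin.1 hT
  refine ⟨g', ?_, ?_⟩
  · rw [hg' a, hTa, smul_toMul, SubmonoidClass.coe_pow]
    rfl
  · rw [hg' b, hTb, inv_eq_of_mul_eq_one_right hkl, smul_toMul, SubmonoidClass.coe_pow]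
    rfl

theorem exists_torus (h : Hom G) {r : ℕ} [Fact r.Prime] (hr2 : r ≠ 2) (hr3 : r ≠ 3) {a b g : G} (hab : a * b = b * a)
    (ha : orderOf a = r) (hb : orderOf b = r) (hba : b ∉ zpowers a) (hga : g * a * g⁻¹ = a) (hgb : g * b * g⁻¹ = b⁻¹)
    {k l : ℕ} (hkl : ((k * l : ℕ) : ZMod r) = 1) :
    ∃ g' : G, g' * a * g'⁻¹ = a ^ k ∧ g' * b * g'⁻¹ = b ^ l := by
  set E := closure ({a, b} : Set G) with hE
  haveI : IsMulCommutative ↥E := Subgroup.isMulCommutative_closure (by
    rintro x (rfl | rfl) y (rfl | rfl) <;> first | rfl | exact hab | exact hab.symm)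
  have haE : a ∈ E := subset_closure (Or.inl rfl)
  have hbE : b ∈ E := subset_closure (Or.inr rfl)
  have har : a ^ r = 1 := ha ▸ pow_orderOf_eq_one a
  have hbr : b ^ r = 1 := hb ▸ pow_orderOf_eq_one b
  have hform : ∀ x ∈ E, ∃ i j : ℕ, x = a ^ i * b ^ j := by
    intro x hx
    induction hx using closure_induction with
    | mem x hx =>
      rcases hx with rfl | rfl
      exacts [⟨1, 0, by simp⟩, ⟨0, 1, by simp⟩]
    | one => exact ⟨0, 0, by simp⟩
    | mul x y _ _ ihx ihy =>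
      obtain ⟨i, j, rfl⟩ := ihx
      obtain ⟨i', j', rfl⟩ := ihy
      refine ⟨i + i', j + j', ?_⟩
      rw [pow_add, pow_add]
      calc a ^ i * b ^ j * (a ^ i' * b ^ j') = a ^ i * (b ^ j * a ^ i') * b ^ j' := by group
        _ = a ^ i * (a ^ i' * b ^ j) * b ^ j' := by rw [((show Commute b a from hab.symm).pow_pow j i').eq]
        _ = _ := by group
    | inv x _ ih =>
      obtain ⟨i, j, rfl⟩ := ih
      refine ⟨i * (r - 1), j * (r - 1), inv_eq_of_mul_eq_one_right ?_⟩
      have hc : Commute (b ^ j) (a ^ (i * (r - 1))) := (show Commute b a from hab.symm).pow_pow _ _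
      have hr1 : r - 1 + 1 = r := Nat.sub_add_cancel (Fact.out : r.Prime).one_le
      calc a ^ i * b ^ j * (a ^ (i * (r - 1)) * b ^ (j * (r - 1))) =
          a ^ i * (b ^ j * a ^ (i * (r - 1))) * b ^ (j * (r - 1)) := by group
        _ = (a ^ i * a ^ (i * (r - 1))) * (b ^ j * b ^ (j * (r - 1))) := by rw [hc.eq]; group
        _ = (a ^ r) ^ i * (b ^ r) ^ j := by
          rw [← pow_add, ← pow_add, ← pow_mul, ← pow_mul]
          have key : ∀ q : ℕ, q + q * (r - 1) = r * q := fun q => by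
            calc q + q * (r - 1) = q * (r - 1 + 1) := by ring
              _ = r * q := by rw [hr1, mul_comm]
          rw [key, key]
        _ = 1 := by rw [har, hbr, one_pow, one_pow, one_mul]
  have hexp : ∀ x ∈ E, x ^ r = 1 := fun x hx => by
    obtain ⟨i, j, rfl⟩ := hform x hx
    rw [((show Commute a b from hab).pow_pow i j).mul_pow, ← pow_mul, ← pow_mul, mul_comm i, mul_comm j, pow_mul,
      pow_mul, har, hbr, one_pow, one_pow, one_mul]
  letI := elemModule (p := r) hexp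
  haveI : Finite (Additive ↥E) := inferInstanceAs (Finite ↥E)
  haveI : FiniteDimensional (ZMod r) (Additive ↥E) := Module.Finite.of_finite
  set va : Additive ↥E := Additive.ofMul ⟨a, haE⟩ with hva
  set vb : Additive ↥E := Additive.ofMul ⟨b, hbE⟩ with hvb
  have hval : ∀ i j : ℕ, ((Additive.toMul ((i : ZMod r) • va + (j : ZMod r) • vb) : ↥E) : G) = a ^ i * b ^ j :=
    fun i j => by
      rw [toMul_add, smul_toMul, smul_toMul, Subgroup.coe_mul, SubmonoidClass.coe_pow, SubmonoidClass.coe_pow]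
      rfl
  have hli : LinearIndependent (ZMod r) ![va, vb] := by
    refine LinearIndependent.pair_iff.2 fun s t e => ?_
    have e' : a ^ s.val * b ^ t.val = 1 := by
      rw [← hval, ZMod.natCast_rightInverse s, ZMod.natCast_rightInverse t, e]; rfl
    have ht : t = 0 := by
      by_contra ht
      refine hba ?_
      have h1 : b ^ t.val ∈ zpowers a := by
        rw [eq_inv_of_mul_eq_one_right e']
        exact inv_mem (pow_mem (mem_zpowers a) _)
      have hc : (t.val).Coprime (orderOf b) := by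
        rw [hb]
        refine ((Fact.out : r.Prime).coprime_iff_not_dvd.2 fun hd => ht ?_).symm
        rw [← ZMod.natCast_rightInverse t, ZMod.natCast_eq_zero_iff]
        exact hd
      obtain ⟨q, hq⟩ := exists_pow_eq_self_of_coprime hc
      rw [← hq]
      exact pow_mem h1 q
    refine ⟨?_, ht⟩
    rw [ht, ZMod.val_zero, pow_zero, mul_one] at e'
    have h1 := orderOf_dvd_of_pow_eq_one e'
    rw [ha] at h1
    rw [← ZMod.natCast_rightInverse s, ZMod.natCast_eq_zero_iff]
    exact h1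
  have hcardE : Nat.card ↥E ≤ r * r := by
    haveI : NeZero r := ⟨(Fact.out : r.Prime).ne_zero⟩
    refine (Nat.card_le_card_of_surjective
      (fun q : Fin r × Fin r => (⟨a ^ (q.1 : ℕ) * b ^ (q.2 : ℕ), mul_mem (pow_mem haE _) (pow_mem hbE _)⟩ : ↥E))
      fun x => ?_).trans (by simp)
    obtain ⟨i, j, hij⟩ := hform _ x.2
    refine ⟨(⟨i % r, Nat.mod_lt _ (NeZero.pos r)⟩, ⟨j % r, Nat.mod_lt _ (NeZero.pos r)⟩), Subtype.ext ?_⟩
    show a ^ (i % r) * b ^ (j % r) = _
    rw [hij, ← pow_mod_orderOf a i, ← pow_mod_orderOf b j, ha, hb]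
  have hd : finrank (ZMod r) (Additive ↥E) = 2 := by
    refine le_antisymm ?_ ?_
    · rw [card_eq (p := r) (E := E), ← pow_two] at hcardE
      exact (Nat.pow_le_pow_iff_right (Fact.out : r.Prime).one_lt).1 hcardE
    · have h2 : Fintype.card (Fin 2) ≤ finrank (ZMod r) (Additive ↥E) :=
        (by convert @LinearIndependent.fintype_card_le_finrank (ZMod r) (Additive ↥E) _ _ _ _ _ _ _ _ hli)
      rwa [Fintype.card_fin] at h2
  have hgN : g ∈ normalizer (E : Set G) := mem_normalizer_of_conj fun x hx => by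
    obtain ⟨i, j, rfl⟩ := hform x hx
    rw [show g * (a ^ i * b ^ j) * g⁻¹ = g * a ^ i * g⁻¹ * (g * b ^ j * g⁻¹) by group, ← conj_pow, ← conj_pow, hga, hgb]
    exact mul_mem (pow_mem haE i) (pow_mem (inv_mem hbE) j)
  have hns : ¬ Lin.IsScalar (linOf (p := r) ⟨g, hgN⟩) := by
    intro hs
    obtain ⟨q, hq⟩ := scalar_pow hs
    have h1 := congrArg Subtype.val (hq ⟨a, haE⟩)
    have h2 := congrArg Subtype.val (hq ⟨b, hbE⟩)
    rw [linOf_apply, SubmonoidClass.coe_pow] at h1 h2
    change g * a * g⁻¹ = a ^ q at h1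
    change g * b * g⁻¹ = b ^ q at h2
    rw [hga] at h1
    rw [hgb] at h2
    have hq1 : b ^ q = b := by
      conv_rhs => rw [← pow_one b]
      rw [pow_eq_pow_iff_modEq, hb, ← ha, ← pow_eq_pow_iff_modEq, pow_one]
      exact h1.symm
    rw [hq1] at h2
    have h3 : b ^ 2 = 1 := by rw [pow_two]; nth_rewrite 1 [← h2]; rw [inv_mul_cancel]
    have h4 := orderOf_dvd_of_pow_eq_one h3
    rw [hb, Nat.prime_dvd_prime_iff_eq (Fact.out : r.Prime) Nat.prime_two] at h4
    exact hr2 h4
  have h2 : (2 : ZMod r) ≠ 0 := fun e => hr2 ((Nat.prime_dvd_prime_iff_eq (Fact.out : r.Prime) Nat.prime_two).1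
    ((ZMod.natCast_eq_zero_iff 2 r).1 (by exact_mod_cast e)))
  have h3 : (3 : ZMod r) ≠ 0 := fun e => hr3 ((Nat.prime_dvd_prime_iff_eq (Fact.out : r.Prime) Nat.prime_three).1
    ((ZMod.natCast_eq_zero_iff 3 r).1 (by exact_mod_cast e)))
  exact exists_torus_aux h h2 h3 E hd ⟨g, hgN⟩ hns ⟨a, haE⟩ ⟨b, hbE⟩ hli (by rw [← Nat.cast_mul]; exact hkl)

end CfsgLib.Homogeneous.SD
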