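import Cfsg.Agent.Lib.Homogeneous.SD.Five
import Cfsg.Agent.Lib.Homogeneous.SD.Torus

/-!
The involution centraliser has order `240·|O|`; no two commuting core-type elements of the same prime order exist.
-/

set_option autoImplicit false
set_option linter.unusedSectionVars false
set_option linter.style.haveILetI false

namespace CfsgLib.Homogeneous.SD

open Cfsg Subgroup
open scoped commutatorElement

universe u

namespace Model

set_option synthInstance.maxSize 2000

theorem all_nodup : all.Nodup := by decide +kernel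

end Model

variable {G : Type u} [Group G] [Finite G]

namespace Five

variable (D : Five G)

theorem card_quot : Nat.card (↥D.c.Cz ⧸ oddCore ↥D.c.Cz) = 240 := by
  let f : (↥D.c.Cz ⧸ oddCore ↥D.c.Cz) → {x : Model.El // x ∈ Model.all.toFinset} := fun q =>
    ⟨D.μ.μ q, List.mem_toFinset.2 (Model.all_eq ▸ D.μ.mem q)⟩
  have hf : Function.Bijective f := by
    refine ⟨fun a b h => D.μ.inj (congrArg Subtype.val h :), fun ⟨x, hx⟩ => ?_⟩
    obtain ⟨q, hq⟩ := D.μ.surj x (Model.all_eq ▸ List.mem_toFinset.1 hx)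
    exact ⟨q, Subtype.ext hq⟩
  rw [Nat.card_eq_of_bijective f hf, Nat.card_eq_fintype_card, Fintype.card_coe,
    List.toFinset_card_of_nodup Model.all_nodup, Model.all_count]

theorem card_Cz : Nat.card ↥D.c.Cz = 240 * Nat.card D.O := by
  rw [Subgroup.card_eq_card_quotient_mul_card_subgroup D.O, D.card_quot]

theorem card_S_le : Nat.card (D.c.S : Subgroup G) ≤ 16 := by
  haveI := Fact.mk Nat.prime_two
  obtain ⟨n, hn⟩ := IsPGroup.iff_card.1 D.c.S.2
  rw [hn]
  have h : 2 ^ n ∣ 240 * Nat.card D.O := by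
    rw [← hn, ← D.card_Cz]; exact card_dvd_of_le D.c.S_le
  have h' : 2 ^ n ∣ 240 := (Nat.Coprime.pow_left n (D.coprime_O 2 (Or.inl rfl))).dvd_of_dvd_mul_right h
  by_contra hlt
  push Not at hlt
  have h5 : 2 ^ 5 ∣ 2 ^ n := pow_dvd_pow 2 (by
    by_contra h4
    push Not at h4
    have := Nat.pow_le_pow_right (show 0 < 2 by norm_num) (show n ≤ 4 by omega)
    omega)
  have := h5.trans h'
  norm_num at this

/-- A two-group of the involution centraliser centralising a nontrivial core element has order at most eight. -/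
theorem cent_two_bound {u : ↥D.c.Cz} (hu : u ∈ D.O) (hu1 : u ≠ 1) {T : Subgroup G} (hT : IsPGroup 2 ↥T)
    (hTz : T ≤ D.c.Cz) (hTu : ∀ a ∈ T, a * (u : G) = (u : G) * a) : Nat.card ↥T ≤ 8 := by
  haveI := Fact.mk Nat.prime_two
  obtain ⟨k, hk⟩ := D.c.conj_into_S (T := T.subgroupOf D.c.Cz) hT.comap_subtype
  let f : ↥T → (D.c.S : Subgroup G) := fun a => ⟨_, hk ⟨a, hTz a.2⟩ a.2⟩
  have hf : Function.Injective f := fun a b h => by
    have h' : (k : G) * (a : G) * (k : G)⁻¹ = k * (b : G) * (k : G)⁻¹ := congrArg Subtype.val h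
    exact Subtype.ext ((MulAut.conj (k : G)).injective h')
  by_contra hlt
  push Not at hlt
  have hle := Nat.card_le_card_of_injective f hf
  have hS := D.card_S_le
  obtain ⟨n, hn⟩ := IsPGroup.iff_card.1 hT
  have h16 : 16 ≤ Nat.card ↥T := by
    rw [hn] at hlt ⊢
    have : 4 ≤ n := by
      by_contra h4
      push Not at h4
      have := Nat.pow_le_pow_right (show 0 < 2 by norm_num) (show n ≤ 3 by omega)
      omega
    calc 16 = 2 ^ 4 := by norm_num
      _ ≤ 2 ^ n := Nat.pow_le_pow_right (by norm_num) this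
  have hbij : Function.Bijective f := (Nat.bijective_iff_injective_and_card f).2 ⟨hf, by omega⟩
  obtain ⟨a, ha⟩ := hbij.2 D.c.d.y
  have ha' : (k : G) * (a : G) * (k : G)⁻¹ = (D.c.yC : G) := congrArg Subtype.val ha
  have hmem : k * u * k⁻¹ ∈ D.O := (inferInstance : D.O.Normal).conj_mem _ hu k
  have h1 := D.fix_y _ hmem (Subtype.ext (by
    show (D.c.yC : G) * ((k : G) * u * (k : G)⁻¹) = (k : G) * u * (k : G)⁻¹ * (D.c.yC : G)
    rw [← ha']
    calc (k : G) * a * (k : G)⁻¹ * ((k : G) * u * (k : G)⁻¹) = (k : G) * ((a : G) * u) * (k : G)⁻¹ := by group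
      _ = (k : G) * ((u : G) * a) * (k : G)⁻¹ := by rw [hTu a a.2]
      _ = _ := by group))
  exact hu1 (conj_eq_one_iff.1 h1)

/-- The centraliser of the involution fixes or inverts each element of the core. -/
theorem Cz_pm (x : ↥D.c.Cz) {u : ↥D.c.Cz} (hu : u ∈ D.O) : x * u * x⁻¹ = u ∨ x * u * x⁻¹ = u⁻¹ := by
  cases hx : (D.co x).2 with
  | false => exact Or.inl (by rw [D.L_cent_O hx u hu, mul_inv_cancel_right])
  | true =>
    have h : (D.co (x * D.c.yC)).2 = false := by
      rw [D.co_mul, D.co_yC]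
      show xor (D.co x).2 true = false
      rw [hx]; rfl
    right
    calc x * u * x⁻¹ = (x * D.c.yC) * (D.c.yC⁻¹ * u * D.c.yC) * (x * D.c.yC)⁻¹ := by group
      _ = (x * D.c.yC) * u⁻¹ * (x * D.c.yC)⁻¹ := by
        rw [inv_eq_of_mul_eq_one_right D.c.yC_sq, D.inverts u hu]
      _ = u⁻¹ := by rw [D.L_cent_O h _ (inv_mem hu), mul_inv_cancel_right]

/-- An element normalising the subgroup generated by a core element fixes or inverts it. -/
theorem pm_of_norm {u : ↥D.c.Cz} (hu : u ∈ D.O) (hu1 : u ≠ 1) {g : G} (hg : g * (u : G) * g⁻¹ ∈ zpowers (u : G)) :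
    g * (u : G) * g⁻¹ = u ∨ g * (u : G) * g⁻¹ = (u : G)⁻¹ := by
  haveI := Fact.mk Nat.prime_two
  obtain ⟨Q, hQ2, hQ8, hQz, hzQ, hQinv, hQO⟩ := D.quat
  set K := centralizer ({(u : G)} : Set G) with hK
  have hQK : Q ≤ K := fun a ha => mem_centralizer_singleton_iff.2 (hQO a ha u hu)
  obtain ⟨T, hT⟩ := (hQ2.comap_subtype (K := K)).exists_le_sylow
  set T' := (T : Subgroup K).map K.subtype with hT'
  have hQT : Q ≤ T' := fun a ha => ⟨⟨a, hQK ha⟩, hT ha, rfl⟩
  have hT'2 : IsPGroup 2 ↥T' := T.2.map _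
  have hT'u : ∀ a ∈ T', a * (u : G) = (u : G) * a := by
    rintro _ ⟨a, -, rfl⟩; exact mem_centralizer_singleton_iff.1 a.2
  have hTQ : T' = Q := by
    refine le_antisymm ?_ hQT
    haveI := hT'2.isNilpotent
    rw [← subgroupOf_eq_top]
    refine normalizerCondition_iff_only_full_group_self_normalizing.1 Group.normalizerCondition_of_isNilpotent _
      (le_antisymm (fun a ha => ?_) le_normalizer)
    have haQ : ∀ q ∈ Q, (a : G) * q * (a : G)⁻¹ ∈ Q := fun q hq => (mem_normalizer_iff.1 ha ⟨q, hQT hq⟩).1 hq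
    have haz : (a : G) * D.c.z * (a : G)⁻¹ = D.c.z := by
      refine (hQinv _ (haQ _ hzQ) ?_).resolve_left fun e => D.c.z_ne_one (conj_eq_one_iff.1 e)
      calc (a : G) * D.c.z * (a : G)⁻¹ * ((a : G) * D.c.z * (a : G)⁻¹) = (a : G) * (D.c.z * D.c.z) * (a : G)⁻¹ := by group
        _ = 1 := by rw [D.c.z_sq, mul_one, mul_inv_cancel]
    set T₂ := Q ⊔ zpowers (a : G) with hT₂
    have hle : T₂ ≤ T' := sup_le hQT (zpowers_le.2 a.2)
    have hT₂z : T₂ ≤ D.c.Cz := sup_le hQz
      (zpowers_le.2 (mem_centralizer_singleton_iff.2 (mul_inv_eq_iff_eq_mul.1 haz)))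
    have h8 := D.cent_two_bound hu hu1 (hT'2.to_le hle) hT₂z fun b hb => hT'u b (hle hb)
    have heq : Q = T₂ := eq_of_le_of_card_ge le_sup_left (by rw [hQ8]; exact h8)
    show (a : G) ∈ Q
    rw [heq]; exact mem_sup_right (mem_zpowers _)
  have hgN : g ∈ normalizer (K : Set G) := mem_normalizer_of_conj fun x hx => by
    rw [mem_centralizer_singleton_iff] at hx ⊢
    obtain ⟨b, hb⟩ := (mem_normalizer_iff''.1 (mem_normalizer_zpowers (isOfFinOrder_of_finite (u : G)) hg) (u : G)).1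
      (mem_zpowers _)
    have hc : Commute x (g⁻¹ * (u : G) * g) := by rw [← hb]; exact (show Commute x (u : G) from hx).zpow_right b
    calc g * x * g⁻¹ * (u : G) = g * (x * (g⁻¹ * (u : G) * g)) * g⁻¹ := by group
      _ = g * (g⁻¹ * (u : G) * g * x) * g⁻¹ := by rw [hc.eq]
      _ = (u : G) * (g * x * g⁻¹) := by group
  obtain ⟨k, hkK, hn⟩ := frattini T hgN
  rw [← hT', hTQ] at hn
  have hnz : k * g * D.c.z * (k * g)⁻¹ = D.c.z := by
    refine (hQinv _ ((mem_normalizer_iff.1 hn _).1 hzQ) ?_).resolve_left fun e => D.c.z_ne_one (conj_eq_one_iff.1 e)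
    calc k * g * D.c.z * (k * g)⁻¹ * (k * g * D.c.z * (k * g)⁻¹) = k * g * (D.c.z * D.c.z) * (k * g)⁻¹ := by group
      _ = 1 := by rw [D.c.z_sq, mul_one, mul_inv_cancel]
  have hnu : k * g * (u : G) * (k * g)⁻¹ = g * (u : G) * g⁻¹ := by
    obtain ⟨b, hb⟩ := hg
    have hc : Commute k ((u : G) ^ b) := (show Commute k (u : G) from mem_centralizer_singleton_iff.1 hkK).zpow_right b
    rw [show k * g * (u : G) * (k * g)⁻¹ = k * (g * (u : G) * g⁻¹) * k⁻¹ by group, ← hb, hc.eq, mul_inv_cancel_right]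
  have hmem : k * g ∈ D.c.Cz := mem_centralizer_singleton_iff.2 (mul_inv_eq_iff_eq_mul.1 hnz)
  rw [← hnu]
  rcases D.Cz_pm ⟨_, hmem⟩ hu with h | h
  · exact Or.inl (congrArg Subtype.val h :)
  · exact Or.inr (congrArg Subtype.val h :)

/-- An element of the core and a commuting element of the same order inverted by the involution do not exist. -/
theorem no_commuting {r : ℕ} [Fact r.Prime] {h : ↥D.c.Cz} (hh : h ∈ D.O) (ho : orderOf h = r) {h' : G}
    (ho' : orderOf h' = r) (hc : (h : G) * h' = h' * (h : G)) (hinv : D.c.z * h' * D.c.z⁻¹ = h'⁻¹) : False := by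
  have hne : r ≠ 2 ∧ r ≠ 3 := by
    have hd : r ∣ Nat.card D.O := ho ▸ Subgroup.orderOf_dvd_natCard D.O hh
    refine ⟨fun e => ?_, fun e => ?_⟩ <;> subst e
    · exact Nat.not_even_iff_odd.2 D.c.odd_O (even_iff_two_dvd.2 hd)
    · exact D.three_not_dvd_O hd
  have hh1 : h ≠ 1 := fun e => by
    rw [e, orderOf_one] at ho
    exact (Fact.out : r.Prime).one_lt.ne ho
  have hzh : D.c.z * (h : G) * D.c.z⁻¹ = h := by
    rw [mem_centralizer_singleton_iff.1 h.2 |>.symm, mul_inv_cancel_right]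
  have hba : h' ∉ zpowers (h : G) := by
    rintro ⟨i, hi⟩
    have h1 : D.c.z * h' * D.c.z⁻¹ = h' := by rw [← hi, ← conj_zpow, hzh]
    rw [hinv] at h1
    have h2 : h' ^ 2 = 1 := by rw [pow_two]; nth_rewrite 1 [← h1]; rw [inv_mul_cancel]
    have h3 := orderOf_dvd_of_pow_eq_one h2
    rw [ho', Nat.prime_dvd_prime_iff_eq (Fact.out : r.Prime) Nat.prime_two] at h3
    exact hne.1 h3
  have hodd : Odd r := (Fact.out : r.Prime).odd_of_ne_two hne.1
  obtain ⟨g, hga, -⟩ := exists_torus D.c.hom hne.1 hne.2 hc ((Subgroup.orderOf_coe h).trans ho) ho' hba hzh hinv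
    (k := 2) (l := (r + 1) / 2) (by
      rw [show 2 * ((r + 1) / 2) = r + 1 by obtain ⟨a, rfl⟩ := hodd; omega]
      simp)
  have hoG : orderOf (h : G) = r := (Subgroup.orderOf_coe h).trans ho
  have hh1' : (h : G) ≠ 1 := fun e => hh1 (Subtype.ext e)
  rcases D.pm_of_norm hh hh1 (g := g) (by rw [hga]; exact pow_mem (mem_zpowers _) 2) with h1 | h1
  · rw [hga, pow_two, mul_eq_left] at h1
    exact hh1' h1
  · rw [hga] at h1
    have h3 : (h : G) ^ 3 = 1 := by rw [pow_succ, h1, inv_mul_cancel]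
    have h4 := orderOf_dvd_of_pow_eq_one h3
    rw [hoG, Nat.prime_dvd_prime_iff_eq (Fact.out : r.Prime) Nat.prime_three] at h4
    exact hne.2 h4

end Five

end CfsgLib.Homogeneous.SD
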