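import Cfsg.Agent.Lib.Homogeneous.SD.Blocks

/-!
Counting the pairs of involutions by their products.
-/

set_option autoImplicit false
set_option linter.unusedSectionVars false
set_option linter.style.haveILetI false

namespace CfsgLib.Homogeneous.SD

open Cfsg Subgroup

universe u

namespace Model

set_option synthInstance.maxSize 2000

theorem invols_nodup : invols.Nodup := all_nodup.filter _

end Model

variable {G : Type u} [Group G] [Finite G]

/-- An involution inverting an element. -/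
def Inverts (g s : G) : Prop := orderOf s = 2 ∧ s * g * s⁻¹ = g⁻¹

/-- The number of pairs of involutions with product in a set. -/
noncomputable def pairs (P : G → Prop) : ℕ := Nat.card {p : G × G // P p.1 ∧ Inverts p.1 p.2 ∧ p.2 ≠ p.1}

theorem Inverts.ne {g s : G} (h : Inverts g s) (ho : Odd (orderOf g)) : s ≠ g := by
  rintro rfl
  rw [h.1] at ho
  exact absurd ho (by decide)

theorem Inverts.conj {g s : G} (h : Inverts g s) (k : G) : Inverts (k * g * k⁻¹) (k * s * k⁻¹) :=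
  ⟨(orderOf_conj k s).trans h.1, by
    calc k * s * k⁻¹ * (k * g * k⁻¹) * (k * s * k⁻¹)⁻¹ = k * (s * g * s⁻¹) * k⁻¹ := by group
      _ = _ := by rw [h.2]; group⟩

theorem pairs_split (P Q : G → Prop) : pairs P = pairs (fun g => P g ∧ Q g) + pairs (fun g => P g ∧ ¬ Q g) := by
  classical
  rw [pairs, pairs, pairs, ← Nat.card_sum]
  exact Nat.card_congr
    { toFun := fun p => if h : Q p.1.1 then Sum.inl ⟨p.1, ⟨p.2.1, h⟩, p.2.2⟩ else Sum.inr ⟨p.1, ⟨p.2.1, h⟩, p.2.2⟩
      invFun := fun x => x.elim (fun p => ⟨p.1, p.2.1.1, p.2.2⟩) (fun p => ⟨p.1, p.2.1.1, p.2.2⟩)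
      left_inv := fun p => by by_cases h : Q p.1.1 <;> simp [h]
      right_inv := fun x => by
        rcases x with p | p
        · simp [p.2.1.2]
        · simp [p.2.1.2] }

theorem pairs_congr {P Q : G → Prop} (h : ∀ g s, Inverts g s → s ≠ g → (P g ↔ Q g)) : pairs P = pairs Q :=
  Nat.card_congr (Equiv.subtypeEquivRight fun p =>
    ⟨fun ⟨a, b, c⟩ => ⟨(h _ _ b c).1 a, b, c⟩, fun ⟨a, b, c⟩ => ⟨(h _ _ b c).2 a, b, c⟩⟩)

theorem pairs_zero {P : G → Prop} (h : ∀ g s, P g → Inverts g s → s ≠ g → False) : pairs P = 0 := by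
  haveI : IsEmpty {p : G × G // P p.1 ∧ Inverts p.1 p.2 ∧ p.2 ≠ p.1} := ⟨fun ⟨_, a, b, c⟩ => h _ _ a b c⟩
  exact Nat.card_of_isEmpty

theorem pairs_uniform {P : G → Prop} {k : ℕ} (hodd : ∀ g, P g → Odd (orderOf g))
    (h : ∀ g, P g → Nat.card {s : G // Inverts g s} = k) : pairs P = Nat.card {g : G // P g} * k := by
  classical
  haveI := Fintype.ofFinite {g : G // P g}
  rw [pairs, Nat.card_congr (β := Σ g : {g : G // P g}, {s : G // Inverts (g : G) s})
    { toFun := fun p => ⟨⟨p.1.1, p.2.1⟩, ⟨p.1.2, p.2.2.1⟩⟩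
      invFun := fun x => ⟨(x.1.1, x.2.1), x.1.2, x.2.2, x.2.2.ne (hodd _ x.1.2)⟩
      left_inv := fun _ => rfl
      right_inv := fun _ => rfl }, Nat.card_sigma, Finset.sum_congr rfl fun (g : {g : G // P g}) _ => h _ g.2,
    Finset.sum_const, smul_eq_mul, Finset.card_univ, Nat.card_eq_fintype_card (α := {g : G // P g})]

theorem invert_card_conj (g k : G) :
    Nat.card {s : G // Inverts (k * g * k⁻¹) s} = Nat.card {s : G // Inverts g s} := by
  refine (Nat.card_congr (Equiv.subtypeEquiv (MulAut.conj k).toEquiv fun s => ⟨fun h => ?_, fun h => ?_⟩)).symm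
  · exact h.conj k
  · have h1 := h.conj k⁻¹
    simpa [mul_assoc] using h1

/-- The size of a conjugacy class. -/
theorem card_class (x : G) {P : G → Prop} (hP : ∀ y, P y ↔ ∃ g, g * x * g⁻¹ = y) :
    Nat.card {y : G // P y} = (centralizer ({x} : Set G)).index := by
  let f : G → {y : G // P y} := fun g => ⟨g * x * g⁻¹, (hP _).2 ⟨g, rfl⟩⟩
  have hf : ∀ a b : G, f a = f b ↔ a⁻¹ * b ∈ centralizer ({x} : Set G) := by
    intro a b
    rw [mem_centralizer_singleton_iff, ← mul_inv_eq_iff_eq_mul]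
    constructor
    · intro h
      have h1 : a * x * a⁻¹ = b * x * b⁻¹ := congrArg Subtype.val h
      calc a⁻¹ * b * x * (a⁻¹ * b)⁻¹ = a⁻¹ * (b * x * b⁻¹) * a := by group
        _ = x := by rw [← h1]; group
    · intro h
      refine Subtype.ext ?_
      show a * x * a⁻¹ = b * x * b⁻¹
      calc a * x * a⁻¹ = a * (a⁻¹ * b * x * (a⁻¹ * b)⁻¹) * a⁻¹ := by rw [h]
        _ = _ := by group
  refine (Nat.card_congr (Equiv.ofBijective (Quotient.lift f fun a b h => (hf a b).2
    (QuotientGroup.leftRel_apply.1 h)) ⟨?_, ?_⟩)).symm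
  · intro a b
    induction a using Quotient.inductionOn
    induction b using Quotient.inductionOn
    intro h
    exact Quotient.sound (QuotientGroup.leftRel_apply.2 ((hf _ _).1 h))
  · rintro ⟨y, hy⟩
    obtain ⟨g, hg⟩ := (hP y).1 hy
    exact ⟨Quotient.mk'' g, Subtype.ext hg⟩

namespace Five

variable (D : Five G) [IsSimpleGroup G]
include D

theorem card_invol : Nat.card {t : G // orderOf t = 2} = D.idx := by
  rw [card_class D.c.z (P := fun t => orderOf t = 2) fun y => ⟨fun h => D.c.exists_conj_z h, ?_⟩]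
  · rfl
  · rintro ⟨g, rfl⟩; rw [orderOf_conj, D.c.orderOf_z]

theorem pairs_all : pairs (fun _ : G => True) = D.idx * D.idx := by
  rw [← D.card_invol, ← Nat.card_prod, pairs]
  refine Nat.card_congr
    { toFun := fun p => (⟨p.1.2, p.2.2.1.1⟩, ⟨p.1.2 * p.1.1, ?_⟩)
      invFun := fun x => ⟨((x.1 : G) * x.2, x.1), trivial, ⟨x.1.2, ?_⟩, fun e => ?_⟩
      left_inv := fun p => Subtype.ext (Prod.ext ?_ rfl)
      right_inv := fun x => Prod.ext rfl (Subtype.ext ?_) }
  · obtain ⟨⟨g, s⟩, -, ⟨hs, hinv⟩, hne⟩ := p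
    change orderOf s = 2 at hs
    change s * g * s⁻¹ = g⁻¹ at hinv
    show orderOf (s * g) = 2
    have hss := CfsgLib.Involutions.mul_self_eq_one_of_orderOf hs
    refine orderOf_eq_prime ?_ fun e => hne ?_
    · rw [pow_two]
      calc s * g * (s * g) = s * g * s⁻¹ * (s * s) * g := by group
        _ = 1 := by rw [hinv, hss, mul_one, inv_mul_cancel]
    · show s = g
      rw [eq_inv_of_mul_eq_one_right (show s * g = 1 from e), inv_eq_of_mul_eq_one_right hss]
  · obtain ⟨⟨s, hs⟩, ⟨t, ht⟩⟩ := x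
    have hsi : s⁻¹ = s := inv_eq_of_mul_eq_one_right (CfsgLib.Involutions.mul_self_eq_one_of_orderOf hs)
    have hti : t⁻¹ = t := inv_eq_of_mul_eq_one_right (CfsgLib.Involutions.mul_self_eq_one_of_orderOf ht)
    show s * (s * t) * s⁻¹ = (s * t)⁻¹
    rw [mul_inv_rev, hti, hsi, ← mul_assoc s s, CfsgLib.Involutions.mul_self_eq_one_of_orderOf hs, one_mul]
  · have h1 : (x.2 : G) = 1 := mul_eq_left.1 e.symm
    have h2 := x.2.2
    rw [h1, orderOf_one] at h2
    omega
  · show p.1.2 * (p.1.2 * p.1.1) = p.1.1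
    rw [← mul_assoc, CfsgLib.Involutions.mul_self_eq_one_of_orderOf p.2.2.1.1, one_mul]
  · show (x.1 : G) * ((x.1 : G) * x.2) = x.2
    rw [← mul_assoc, CfsgLib.Involutions.mul_self_eq_one_of_orderOf x.1.2, one_mul]

theorem pairs_one : pairs (fun g : G => g = 1) = D.idx := by
  rw [← D.card_invol, pairs]
  exact Nat.card_congr
    { toFun := fun p => ⟨p.1.2, p.2.2.1.1⟩
      invFun := fun t => ⟨(1, t.1), rfl, ⟨t.2, by simp⟩, fun e => by
        have := t.2; rw [show t.1 = 1 from e, orderOf_one] at this; omega⟩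
      left_inv := fun p => Subtype.ext (Prod.ext p.2.1.symm rfl)
      right_inv := fun _ => rfl }

theorem card_Z_pairs : pairs (fun g : G => ∃ k, g ^ k = D.c.z) = 260 := by
  classical
  set L := (Model.invols.product Model.invols).filter fun uv =>
    (List.range 12).any fun k => Model.pw 5 3 (Model.mul 5 3 uv.1 uv.2) k == Model.zz 5 with hL
  have hLn : L.Nodup := (Model.invols_nodup.product Model.invols_nodup).filter _
  have hmemI : ∀ x : ↥D.c.Cz, x * x = 1 → x ≠ 1 → D.co x ∈ Model.invols := fun x h1 h2 =>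
    List.mem_filter.2 ⟨D.co_mem x, by
      simp only [Bool.and_eq_true, bne_iff_ne, beq_iff_eq]
      exact ⟨fun e => h2 (D.co_injective (e.trans D.co_one.symm)), by rw [← D.co_mul, h1, D.co_one]⟩⟩
  have hord : ∀ x : ↥D.c.Cz, orderOf x ∣ 120 := fun x => by
    rcases Model.order_dvd _ (D.co_mem x) with e | e | e <;> rw [← D.co_pow, ← D.co_one] at e
    · exact (orderOf_dvd_of_pow_eq_one (D.co_injective e)).trans (by norm_num)
    · exact (orderOf_dvd_of_pow_eq_one (D.co_injective e)).trans (by norm_num)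
    · exact (orderOf_dvd_of_pow_eq_one (D.co_injective e)).trans (by norm_num)
  have hle : ∀ x : ↥D.c.Cz, orderOf x ≤ 10 := fun x => by
    rcases Model.order_dvd _ (D.co_mem x) with e | e | e <;> rw [← D.co_pow, ← D.co_one] at e <;>
      have := Nat.le_of_dvd (by norm_num) (orderOf_dvd_of_pow_eq_one (D.co_injective e)) <;> omega
  have hin : ∀ p : {p : G × G // (∃ k, p.1 ^ k = D.c.z) ∧ Inverts p.1 p.2 ∧ p.2 ≠ p.1},
      ∃ s t : ↥D.c.Cz, (s : G) = p.1.2 ∧ ((s * t : ↥D.c.Cz) : G) = p.1.1 ∧ (D.co s, D.co t) ∈ L := by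
    rintro ⟨⟨g, s⟩, ⟨k, hk⟩, ⟨hs, hinv⟩, hne⟩
    have hgz : g * D.c.z = D.c.z * g := by rw [← hk]; exact ((Commute.refl g).pow_right k).eq
    have hss := CfsgLib.Involutions.mul_self_eq_one_of_orderOf hs
    have hsz : s * D.c.z = D.c.z * s := by
      refine mul_inv_eq_iff_eq_mul.1 ?_
      rw [← hk, ← conj_pow, hinv, inv_pow, hk, inv_eq_of_mul_eq_one_right D.c.z_sq]
    let sC : ↥D.c.Cz := ⟨s, mem_centralizer_singleton_iff.2 hsz⟩
    let tC : ↥D.c.Cz := sC * ⟨g, mem_centralizer_singleton_iff.2 hgz⟩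
    have hst : ((sC * tC : ↥D.c.Cz) : G) = g := by
      show s * (s * g) = g
      rw [← mul_assoc, hss, one_mul]
    refine ⟨sC, tC, rfl, hst, List.mem_filter.2 ⟨List.mem_product.2 ⟨hmemI sC (Subtype.ext hss) ?_,
      hmemI tC (Subtype.ext ?_) ?_⟩, ?_⟩⟩
    · intro e
      rw [show s = 1 from congrArg Subtype.val e, orderOf_one] at hs
      omega
    · show s * g * (s * g) = 1
      calc s * g * (s * g) = s * g * s⁻¹ * (s * s) * g := by group
        _ = 1 := by rw [hinv, hss, mul_one, inv_mul_cancel]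
    · intro e
      have e' : s * g = 1 := congrArg Subtype.val e
      exact hne (show s = g by rw [eq_inv_of_mul_eq_one_right e', inv_eq_of_mul_eq_one_right hss])
    · refine List.any_eq_true.2 ⟨k % orderOf (sC * tC), List.mem_range.2 ?_, ?_⟩
      · have := Nat.mod_lt k (orderOf_pos (sC * tC))
        have := hle (sC * tC)
        omega
      · rw [beq_iff_eq, ← D.co_mul, ← D.co_pow, ← D.co_zC, pow_mod_orderOf]
        congr 1
        exact Subtype.ext (by rw [SubmonoidClass.coe_pow, hst, hk]; rfl)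
  choose fs ft hfs hft hfL using hin
  rw [pairs, Nat.card_eq_of_bijective (β := {q : Model.El × Model.El // q ∈ L.toFinset})
    (fun p => ⟨(D.co (fs p), D.co (ft p)), List.mem_toFinset.2 (hfL p)⟩) ⟨?_, ?_⟩, Nat.card_eq_fintype_card,
    Fintype.card_coe, List.toFinset_card_of_nodup hLn, hL, Model.pair_count]
  · intro p q h
    have h1 := congrArg Subtype.val h
    have e1 := D.co_injective (congrArg Prod.fst h1)
    have e2 := D.co_injective (congrArg Prod.snd h1)
    exact Subtype.ext (Prod.ext (by rw [← hft p, ← hft q, e1, e2]) (by rw [← hfs p, ← hfs q, e1]))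
  · rintro ⟨⟨u, v⟩, huv⟩
    obtain ⟨huv', hk⟩ := List.mem_filter.1 (List.mem_toFinset.1 huv)
    obtain ⟨hu, hv⟩ := List.mem_product.1 huv'
    obtain ⟨k, -, hk⟩ := List.any_eq_true.1 hk
    have key : ∀ w, w ∈ Model.invols → ∃ x : ↥D.c.Cz, D.co x = w ∧ orderOf (x : G) = 2 := by
      intro w hw
      obtain ⟨hw1, hw2⟩ := List.mem_filter.1 hw
      simp only [Bool.and_eq_true, bne_iff_ne, beq_iff_eq] at hw2
      obtain ⟨x, rfl⟩ := D.exists_co hw1
      refine ⟨x, rfl, orderOf_eq_prime ?_ fun e => hw2.1 ?_⟩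
      · rw [pow_two, ← Subgroup.coe_mul, D.co_injective (a₁ := x * x) (a₂ := 1) (by rw [D.co_mul, hw2.2, D.co_one]),
          OneMemClass.coe_one]
      · rw [show x = 1 from Subtype.ext e, D.co_one]
    obtain ⟨s, rfl, hs⟩ := key u hu
    obtain ⟨t, rfl, ht⟩ := key v hv
    have hkz : ((s * t : ↥D.c.Cz) : G) ^ k = D.c.z := by
      rw [beq_iff_eq, ← D.co_mul, ← D.co_pow, ← D.co_zC] at hk
      rw [← SubmonoidClass.coe_pow, D.co_injective hk]
      rfl
    have hsi : (s : G)⁻¹ = s := inv_eq_of_mul_eq_one_right (CfsgLib.Involutions.mul_self_eq_one_of_orderOf hs)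
    have hti : (t : G)⁻¹ = t := inv_eq_of_mul_eq_one_right (CfsgLib.Involutions.mul_self_eq_one_of_orderOf ht)
    have hinv : Inverts ((s * t : ↥D.c.Cz) : G) (s : G) := by
      refine ⟨hs, ?_⟩
      rw [Subgroup.coe_mul, mul_inv_rev, hti, hsi, ← mul_assoc (s : G) s,
        CfsgLib.Involutions.mul_self_eq_one_of_orderOf hs, one_mul]
    have hne : (s : G) ≠ ((s * t : ↥D.c.Cz) : G) := fun e => by
      rw [Subgroup.coe_mul, eq_comm, mul_eq_left] at e
      rw [e, orderOf_one] at ht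
      omega
    let P : {p : G × G // (∃ k, p.1 ^ k = D.c.z) ∧ Inverts p.1 p.2 ∧ p.2 ≠ p.1} := ⟨(_, _), ⟨k, hkz⟩, hinv, hne⟩
    refine ⟨P, Subtype.ext ?_⟩
    have e1 : fs P = s := Subtype.ext (hfs P)
    have e2 : ft P = t := by
      have h := hft P
      rw [e1] at h
      exact mul_left_cancel (a := s) (Subtype.ext h)
    show (D.co (fs P), D.co (ft P)) = _
    rw [e1, e2]

theorem pairs_even : pairs (fun g : G => 2 ∣ orderOf g) = 260 * D.idx := by
  classical
  haveI := Fintype.ofFinite {t : G // orderOf t = 2}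
  have hfib : ∀ t : {t : G // orderOf t = 2}, pairs (fun g : G => ∃ k, g ^ k = (t : G)) = 260 := by
    rintro ⟨t, ht⟩
    obtain ⟨a, rfl⟩ := D.c.exists_conj_z ht
    rw [← D.card_Z_pairs, pairs, pairs]
    refine (Nat.card_congr (Equiv.subtypeEquiv ((MulAut.conj a).toEquiv.prodCongr (MulAut.conj a).toEquiv)
      fun p => ⟨?_, ?_⟩)).symm
    · rintro ⟨⟨k, hk⟩, hinv, hne⟩
      exact ⟨⟨k, by show (a * p.1 * a⁻¹) ^ k = _; rw [conj_pow, hk]⟩, hinv.conj a,
        fun e => hne ((MulAut.conj a).injective e)⟩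
    · rintro ⟨⟨k, hk⟩, hinv, hne⟩
      refine ⟨⟨k, (MulAut.conj a).injective ?_⟩, ?_, fun e => hne (congrArg (MulAut.conj a) e)⟩
      · rw [MulAut.conj_apply, MulAut.conj_apply, ← conj_pow]; exact hk
      · simpa [mul_assoc] using hinv.conj a⁻¹
  have huniq : ∀ {g t : G}, orderOf t = 2 → (∃ k, g ^ k = t) →
      2 ∣ orderOf g ∧ t = g ^ (orderOf g / 2) := by
    rintro g t ht ⟨k, rfl⟩
    have h2 : 2 ∣ orderOf g := ht ▸ orderOf_pow_dvd k
    have h1 : g ^ (k * 2) = 1 := by rw [pow_mul, ← ht, pow_orderOf_eq_one]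
    obtain ⟨j, hj⟩ := orderOf_dvd_of_pow_eq_one h1
    obtain ⟨h, hh⟩ := h2
    refine ⟨⟨h, hh⟩, ?_⟩
    have hk : k = h * j := by rw [hh] at hj; linarith
    have hd : g ^ (orderOf g / 2) = g ^ h := by rw [hh, Nat.mul_div_cancel_left _ (by norm_num)]
    rw [hd, hk, pow_mul]
    have hsq : (g ^ h) * (g ^ h) = 1 := by rw [← pow_add, ← two_mul, ← hh, pow_orderOf_eq_one]
    obtain ⟨i, rfl | rfl⟩ := Nat.even_or_odd' j
    · rw [hk, pow_mul g h, pow_mul, pow_two, hsq, one_pow, orderOf_one] at ht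
      omega
    · rw [pow_succ, pow_mul, pow_two, hsq, one_pow, one_mul]
  let Ψ : (Σ t : {t : G // orderOf t = 2},
      {p : G × G // (∃ k, p.1 ^ k = (t : G)) ∧ Inverts p.1 p.2 ∧ p.2 ≠ p.1}) →
      {p : G × G // 2 ∣ orderOf p.1 ∧ Inverts p.1 p.2 ∧ p.2 ≠ p.1} :=
    fun x => ⟨x.2.1, (huniq (g := x.2.1.1) x.1.2 x.2.2.1).1, x.2.2.2⟩
  have hΨ : Function.Bijective Ψ := by
    constructor
    · rintro ⟨⟨t, ht⟩, ⟨p, hk, hp⟩⟩ ⟨⟨t', ht'⟩, ⟨p', hk', hp'⟩⟩ h
      obtain rfl : p = p' := congrArg Subtype.val h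
      obtain rfl : t = t' := (huniq ht hk).2.trans (huniq ht' hk').2.symm
      rfl
    · rintro ⟨p, h2, hp⟩
      exact ⟨⟨⟨p.1 ^ (orderOf p.1 / 2), orderOf_pow_orderOf_div (orderOf_pos p.1).ne' h2⟩,
        ⟨p, ⟨orderOf p.1 / 2, rfl⟩, hp⟩⟩, rfl⟩
  rw [pairs, ← Nat.card_eq_of_bijective Ψ hΨ, Nat.card_sigma,
    Finset.sum_congr rfl fun (t : {t : G // orderOf t = 2}) _ =>
      show Nat.card {p : G × G // (∃ k, p.1 ^ k = (t : G)) ∧ Inverts p.1 p.2 ∧ p.2 ≠ p.1} = 260 from hfib t,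
    Finset.sum_const, smul_eq_mul, Finset.card_univ, ← Nat.card_eq_fintype_card, D.card_invol, mul_comm]

theorem invert_mem_X {s : G} (hs : Inverts D.m s) {v : G} (hv : v ∈ D.c.V) : s * v * s⁻¹ ∈ D.c.V := by
  have hsX : s * v * s⁻¹ ∈ D.X := by
    refine D.mem_X.2 ?_
    have h1 : Commute (s * v * s⁻¹) (s * D.m * s⁻¹) :=
      (show Commute v D.m from (D.m_V hv).symm).map (MulAut.conj s).toMonoidHom
    rw [hs.2] at h1
    exact (Commute.inv_right_iff.1 h1).eq
  have h2 : (s * v * s⁻¹) ^ 2 ^ 1 = 1 := by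
    rw [pow_one, conj_pow, pow_two, D.c.V_mul_self hv, mul_one, mul_inv_cancel]
  obtain ⟨x, hx, hxV⟩ := D.conj_into_V (zpowers_two _ h2) (zpowers_le.2 hsX)
  have h := D.cent_m_data.2.2 x⁻¹ (inv_mem hx) _ (hxV _ (mem_zpowers _))
  simpa [mul_assoc] using h

theorem invert_m : Nat.card {s : G // Inverts D.m s} = 18 := by
  classical
  have hz : Nat.card {s : G // Inverts D.m s ∧ s * D.c.z = D.c.z * s} = 6 := by
    set L := Model.invols.filter fun u => Model.mul 5 3 (Model.mul 5 3 u Model.m₀) u == Model.mul 5 3 Model.m₀ Model.m₀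
      with hL
    have hm2 : D.m⁻¹ = D.m * D.m := by
      refine (eq_inv_of_mul_eq_one_left ?_).symm
      rw [← pow_two, ← pow_succ, show 2 + 1 = orderOf D.m from D.orderOf_m.symm, pow_orderOf_eq_one]
    have hmem : ∀ x : ↥D.c.Cz, Inverts D.m (x : G) ↔ D.co x ∈ L := by
      intro x
      simp only [hL, Model.invols, List.mem_filter, Bool.and_eq_true, bne_iff_ne, beq_iff_eq]
      rw [← D.co_m, ← D.co_mul, ← D.co_mul, ← D.co_mul, ← D.co_mul, ← D.co_one]
      constructor
      · rintro ⟨ho, hi⟩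
        have hxx := CfsgLib.Involutions.mul_self_eq_one_of_orderOf ho
        refine ⟨⟨D.co_mem x, fun e => ?_, congrArg D.co (Subtype.ext hxx)⟩, congrArg D.co (Subtype.ext ?_)⟩
        · rw [D.co_injective e, OneMemClass.coe_one, orderOf_one] at ho
          omega
        · rw [inv_eq_of_mul_eq_one_right hxx, hm2] at hi
          exact hi
      · rintro ⟨⟨-, h1, h2⟩, h3⟩
        have hxx : (x : G) * x = 1 := congrArg Subtype.val (D.co_injective h2)
        refine ⟨orderOf_eq_prime (by rw [pow_two, hxx]) fun e => h1 (by rw [show x = 1 from Subtype.ext e]), ?_⟩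
        rw [inv_eq_of_mul_eq_one_right hxx, hm2]
        exact congrArg Subtype.val (D.co_injective h3)
    rw [Nat.card_eq_of_bijective (β := {q : Model.El // q ∈ L.toFinset})
      (fun s => ⟨D.co ⟨s.1, mem_centralizer_singleton_iff.2 s.2.2⟩,
        List.mem_toFinset.2 ((hmem _).1 s.2.1)⟩) ⟨?_, ?_⟩, Nat.card_eq_fintype_card, Fintype.card_coe,
      List.toFinset_card_of_nodup (Model.invols_nodup.filter _), Model.invert_count]
    · intro a b h
      exact Subtype.ext (congrArg Subtype.val (D.co_injective (congrArg Subtype.val h)) :)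
    · rintro ⟨q, hq⟩
      have hq' := List.mem_toFinset.1 hq
      obtain ⟨x, rfl⟩ := D.exists_co (List.mem_filter.1 (List.mem_filter.1 hq').1).1
      exact ⟨⟨x, (hmem x).2 hq', mem_centralizer_singleton_iff.1 x.2⟩, rfl⟩
  have hv : ∀ v : {v : ↥D.c.V // v ≠ 1}, Nat.card {s : G // Inverts D.m s ∧ s * (v.1 : G) = (v.1 : G) * s} = 6 := by
    rintro ⟨⟨v, hv⟩, hv1⟩
    obtain ⟨g, hgm, -, hgv⟩ := D.exists_norm hv (fun e => hv1 (Subtype.ext e))
    have hgm' : g * D.m * g⁻¹ = D.m := mul_inv_eq_iff_eq_mul.2 hgm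
    rw [← hz]
    refine Nat.card_congr (Equiv.subtypeEquiv (MulAut.conj g).toEquiv fun s => ⟨?_, ?_⟩)
    · rintro ⟨h1, h2⟩
      refine ⟨?_, ?_⟩
      · show Inverts D.m (g * s * g⁻¹)
        have h := h1.conj g
        rwa [hgm'] at h
      · show g * s * g⁻¹ * D.c.z = D.c.z * (g * s * g⁻¹)
        rw [← hgv]
        exact ((show Commute s v from h2).map (MulAut.conj g).toMonoidHom).eq
    · rintro ⟨h1, h2⟩
      refine ⟨?_, ?_⟩
      · have h := (show Inverts D.m (g * s * g⁻¹) from h1).conj g⁻¹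
        rw [inv_inv, show g⁻¹ * D.m * g = D.m by nth_rewrite 1 [← hgm']; group] at h
        simpa [mul_assoc] using h
      · change g * s * g⁻¹ * D.c.z = D.c.z * (g * s * g⁻¹) at h2
        show s * v = v * s
        rw [← hgv] at h2
        exact (MulAut.conj g).injective (by simpa [mul_assoc] using h2)
  haveI := Fintype.ofFinite {v : ↥D.c.V // v ≠ 1}
  have hcard : Nat.card {v : ↥D.c.V // v ≠ 1} = 3 := by
    haveI := D.c.klein_V
    haveI := Fintype.ofFinite ↥D.c.V
    rw [Nat.card_eq_fintype_card, Fintype.card_subtype_compl, Fintype.card_subtype_eq, ← Nat.card_eq_fintype_card,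
      IsKleinFour.card_four]
  let f : (Σ v : {v : ↥D.c.V // v ≠ 1}, {s : G // Inverts D.m s ∧ s * (v.1 : G) = (v.1 : G) * s}) →
      {s : G // Inverts D.m s} := fun x => ⟨x.2.1, x.2.2.1⟩
  have hf : Function.Bijective f := by
    constructor
    · rintro ⟨⟨⟨a, ha⟩, ha1⟩, ⟨s, hsi, hsa⟩⟩ ⟨⟨⟨b, hb⟩, hb1⟩, ⟨s', hsi', hsb⟩⟩ h
      obtain rfl : s = s' := congrArg Subtype.val h
      suffices hab : a = b by subst hab; rfl
      by_contra hab
      have hall : s * D.c.z = D.c.z * s ∧ s * D.c.yG = D.c.yG * s := by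
        have ha1' : a ≠ 1 := fun e => ha1 (Subtype.ext e)
        have hb1' : b ≠ 1 := fun e => hb1 (Subtype.ext e)
        have hzz := D.c.z_sq
        have e1 : D.c.z * (D.c.z * D.c.yG) = D.c.yG := by rw [← mul_assoc, hzz, one_mul]
        have e2 : D.c.z * D.c.yG * D.c.yG = D.c.z := by rw [mul_assoc, D.c.yG_sq, mul_one]
        have ca : Commute s a := hsa
        have cb : Commute s b := hsb
        rcases ha with rfl | rfl | rfl | rfl <;> rcases hb with rfl | rfl | rfl | rfl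
        all_goals first
          | exact absurd rfl ha1'
          | exact absurd rfl hb1'
          | exact absurd rfl hab
          | exact ⟨ca, cb⟩
          | exact ⟨cb, ca⟩
          | exact ⟨ca, e1 ▸ ca.mul_right cb⟩
          | exact ⟨cb, e1 ▸ cb.mul_right ca⟩
          | exact ⟨e2 ▸ ca.mul_right cb, cb⟩
          | exact ⟨e2 ▸ cb.mul_right ca, ca⟩
      obtain ⟨v, hv, i, rfl⟩ := D.cent_V hall.1 hall.2
      have h1 : v * D.m ^ i * D.m * (v * D.m ^ i)⁻¹ = D.m := by
        rw [mul_inv_eq_iff_eq_mul]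
        exact (((show Commute v D.m from (D.m_V hv).symm)).mul_left ((Commute.refl D.m).pow_left i)).eq
      rw [hsi.2] at h1
      have h2 : D.m ^ 2 = 1 := by rw [pow_two]; nth_rewrite 1 [← h1]; rw [inv_mul_cancel]
      have := orderOf_dvd_of_pow_eq_one h2
      rw [D.orderOf_m] at this
      norm_num at this
    · rintro ⟨s, hs⟩
      suffices h : ∃ v ∈ D.c.V, v ≠ 1 ∧ s * v = v * s by
        obtain ⟨v, hv, hv1, hsv⟩ := h
        exact ⟨⟨⟨⟨v, hv⟩, fun e => hv1 (congrArg Subtype.val e)⟩, ⟨s, hs, hsv⟩⟩, rfl⟩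
      have hsi : s⁻¹ = s := inv_eq_of_mul_eq_one_right (CfsgLib.Involutions.mul_self_eq_one_of_orderOf hs.1)
      have hback : ∀ a : G, s * (s * a * s⁻¹) * s⁻¹ = a := fun a => by
        nth_rewrite 2 [← hsi]; rw [hsi]
        calc s * (s * a * s) * s = (s * s) * a * (s * s) := by group
          _ = a := by rw [CfsgLib.Involutions.mul_self_eq_one_of_orderOf hs.1, one_mul, mul_one]
      have hinj : ∀ a b : G, s * a * s⁻¹ = s * b * s⁻¹ → a = b := fun a b e => (MulAut.conj s).injective e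
      rcases D.invert_mem_X hs D.c.z_mem_V with h | h | h | h
      · exact absurd (conj_eq_one_iff.1 h) D.c.z_ne_one
      · exact ⟨_, D.c.z_mem_V, D.c.z_ne_one, mul_inv_eq_iff_eq_mul.1 h⟩
      · refine ⟨_, mul_mem D.c.z_mem_V D.c.yG_mem_V, D.c.zy_ne_one, mul_inv_eq_iff_eq_mul.1 ?_⟩
        have h' : s * D.c.yG * s⁻¹ = D.c.z := by rw [← h]; exact hback _
        rw [show s * (D.c.z * D.c.yG) * s⁻¹ = s * D.c.z * s⁻¹ * (s * D.c.yG * s⁻¹) by group, h, h', D.c.z_yG]
      · refine ⟨_, D.c.yG_mem_V, D.c.yG_ne_one, mul_inv_eq_iff_eq_mul.1 ?_⟩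
        have h' : s * (D.c.z * D.c.yG) * s⁻¹ = D.c.z := by rw [← h]; exact hback _
        rw [show s * D.c.yG * s⁻¹ = (s * D.c.z * s⁻¹)⁻¹ * (s * (D.c.z * D.c.yG) * s⁻¹) by group, h, h']
        rw [inv_eq_of_mul_eq_one_right (D.c.V_mul_self (mul_mem D.c.z_mem_V D.c.yG_mem_V)), mul_assoc, ← D.c.z_yG,
          ← mul_assoc, D.c.z_sq, one_mul]
  rw [← Nat.card_eq_of_bijective f hf, Nat.card_sigma, Finset.sum_congr rfl fun v _ => hv v, Finset.sum_const,
    smul_eq_mul, Finset.card_univ, ← Nat.card_eq_fintype_card, hcard]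

theorem card_three : 36 * Nat.card {g : G // orderOf g = 3} = 240 * D.idx := by
  rw [card_class D.m (P := fun g => orderOf g = 3) fun y => ⟨fun h => D.three_conj h, ?_⟩, ← D.cent_m_data.2.1,
    Subgroup.card_mul_index, D.card_G]
  rintro ⟨g, rfl⟩
  rw [orderOf_conj, D.orderOf_m]

theorem pairs_three : pairs (fun g : G => orderOf g = 3) = 120 * D.idx := by
  rw [pairs_uniform (k := 18) (fun g h => by rw [h]; decide) fun g hg => ?_]
  · have := D.card_three
    omega
  · obtain ⟨k, rfl⟩ := D.three_conj hg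
    rw [invert_card_conj, D.invert_m]

end Five

end CfsgLib.Homogeneous.SD
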