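import Cfsg.Agent.Lib.Homogeneous.SD.Core

/-!
The four-group generated by the central and a noncentral involution of the Sylow subgroup.
-/

set_option autoImplicit false
set_option linter.unusedSectionVars false

namespace CfsgLib.Homogeneous.SD

open Cfsg Subgroup

universe u

variable {G : Type u} [Group G] [Finite G]

namespace Ctx

variable (c : Ctx G)

/-- The noncentral involution of the Sylow subgroup. -/
def yG : G := (c.yC : G)

theorem yG_sq : c.yG * c.yG = 1 := congrArg Subtype.val c.yC_sq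

theorem z_yG : c.z * c.yG = c.yG * c.z := congrArg Subtype.val (c.zC_comm c.yC)

theorem yG_mem : c.yG ∈ (c.S : Subgroup G) := c.d.y.2

theorem yG_ne_one : c.yG ≠ 1 := fun h =>
  CfsgLib.QD.y_not_mem c.d ((Subtype.ext h : c.d.y = 1) ▸ one_mem _)

theorem yG_ne_z : c.yG ≠ c.z := fun h =>
  CfsgLib.QD.y_not_mem c.d ((Subtype.ext h : c.d.y = c.d.z) ▸ CfsgLib.QD.z_mem_X c.d)

theorem zy_ne_one : c.z * c.yG ≠ 1 := fun h => c.yG_ne_z (by
  rw [← inv_eq_of_mul_eq_one_right h, inv_eq_of_mul_eq_one_right c.z_sq])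

/-- The four-group of the two noncentral involutions. -/
def V : Subgroup G where
  carrier := {g | g = 1 ∨ g = c.z ∨ g = c.yG ∨ g = c.z * c.yG}
  one_mem' := Or.inl rfl
  inv_mem' := by
    intro g hg
    have hz : c.z⁻¹ = c.z := inv_eq_of_mul_eq_one_right c.z_sq
    have hy : c.yG⁻¹ = c.yG := inv_eq_of_mul_eq_one_right c.yG_sq
    rcases hg with rfl | rfl | rfl | rfl
    · simp
    · exact Or.inr (Or.inl hz)
    · exact Or.inr (Or.inr (Or.inl hy))
    · exact Or.inr (Or.inr (Or.inr (by rw [mul_inv_rev, hz, hy, c.z_yG])))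
  mul_mem' := by
    intro a b ha hb
    have hz := c.z_sq
    have hy := c.yG_sq
    have hzy := c.z_yG
    rcases ha with rfl | rfl | rfl | rfl <;> rcases hb with rfl | rfl | rfl | rfl
    all_goals first
      | (simp only [one_mul, mul_one]; tauto)
      | exact Or.inl hz
      | exact Or.inl hy
      | exact Or.inr (Or.inr (Or.inr rfl))
      | exact Or.inr (Or.inr (Or.inr hzy.symm))
      | exact Or.inr (Or.inr (Or.inl (by rw [← mul_assoc, hz, one_mul])))
      | exact Or.inr (Or.inr (Or.inl (by rw [mul_assoc, ← hzy, ← mul_assoc, hz, one_mul])))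
      | exact Or.inr (Or.inl (by rw [mul_assoc, hy, mul_one]))
      | exact Or.inr (Or.inl (by rw [← mul_assoc, ← hzy, mul_assoc, hy, mul_one]))
      | exact Or.inl (by rw [mul_assoc, ← mul_assoc c.yG, ← hzy, mul_assoc c.z c.yG, hy, mul_one, hz])

theorem mem_V {g : G} : g ∈ c.V ↔ g = 1 ∨ g = c.z ∨ g = c.yG ∨ g = c.z * c.yG := Iff.rfl

theorem z_mem_V : c.z ∈ c.V := Or.inr (Or.inl rfl)

theorem yG_mem_V : c.yG ∈ c.V := Or.inr (Or.inr (Or.inl rfl))

theorem V_le_S : c.V ≤ (c.S : Subgroup G) := by
  rintro g (rfl | rfl | rfl | rfl)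
  exacts [one_mem _, c.z_mem, c.yG_mem, mul_mem c.z_mem c.yG_mem]

theorem V_mul_self {g : G} (hg : g ∈ c.V) : g * g = 1 := by
  rcases hg with rfl | rfl | rfl | rfl
  · simp
  · exact c.z_sq
  · exact c.yG_sq
  · rw [mul_assoc, ← mul_assoc c.yG, ← c.z_yG, mul_assoc c.z c.yG, c.yG_sq, mul_one, c.z_sq]

theorem klein_V : IsKleinFour ↥c.V := by
  classical
  haveI : Nontrivial ↥c.V := ⟨⟨⟨c.z, c.z_mem_V⟩, 1, fun h => c.z_ne_one (congrArg Subtype.val h)⟩⟩
  refine ⟨?_, ?_⟩
  · let f : Bool × Bool → ↥c.V := fun b =>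
      ⟨(if b.1 then c.z else 1) * (if b.2 then c.yG else 1), by
        obtain ⟨_ | _, _ | _⟩ := b <;> simp [mem_V]⟩
    have hb : Function.Bijective f := by
      constructor
      · intro a b hab
        have h : (f a : G) = f b := congrArg Subtype.val hab
        obtain ⟨_ | _, _ | _⟩ := a <;> obtain ⟨_ | _, _ | _⟩ := b <;> simp only [f, Bool.false_eq_true, if_true, if_false, one_mul, mul_one] at h
        all_goals first
          | rfl
          | exact absurd h c.z_ne_one
          | exact absurd h c.z_ne_one.symm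
          | exact absurd h c.yG_ne_one
          | exact absurd h c.yG_ne_one.symm
          | exact absurd h c.yG_ne_z
          | exact absurd h c.yG_ne_z.symm
          | exact absurd h c.zy_ne_one
          | exact absurd h c.zy_ne_one.symm
          | exact absurd (mul_eq_left.1 h) c.yG_ne_one
          | exact absurd (mul_eq_left.1 h.symm) c.yG_ne_one
          | exact absurd (mul_eq_right.1 h) c.z_ne_one
          | exact absurd (mul_eq_right.1 h.symm) c.z_ne_one
      · rintro ⟨g, rfl | rfl | rfl | rfl⟩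
        · exact ⟨(false, false), Subtype.ext (by simp [f])⟩
        · exact ⟨(true, false), Subtype.ext (by simp [f])⟩
        · exact ⟨(false, true), Subtype.ext (by simp [f])⟩
        · exact ⟨(true, true), Subtype.ext (by simp [f])⟩
    rw [← Nat.card_eq_of_bijective f hb]
    simp
  · refine (Monoid.exponent_eq_prime_iff Nat.prime_two).2 fun g hg => orderOf_eq_prime ?_ hg
    exact Subtype.ext (by rw [SubmonoidClass.coe_pow, pow_two]; exact c.V_mul_self g.2)

theorem V_comm {a b : G} (ha : a ∈ c.V) (hb : b ∈ c.V) : a * b = b * a := by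
  have h := c.V_mul_self (mul_mem ha hb)
  calc a * b = a * b * (a * b * (a * b))⁻¹ := by rw [h, inv_one, mul_one]
    _ = (a * b)⁻¹ := by group
    _ = b * a := by rw [mul_inv_rev, inv_eq_of_mul_eq_one_right (c.V_mul_self ha), inv_eq_of_mul_eq_one_right (c.V_mul_self hb)]

end Ctx

end CfsgLib.Homogeneous.SD
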