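import Cfsg.Agent.Lib.Homogeneous.SD.Iso
import Cfsg.Agent.Lib.Homogeneous.SD.Klein

/-!
The field with five elements: the derived part centralises the core, whose order is prime to thirty; an element of
order three fixed by the four-group, its centraliser in the involution centraliser, and fusion in it.
-/

set_option autoImplicit false
set_option linter.unusedSectionVars false
set_option linter.style.haveILetI false

namespace CfsgLib.Homogeneous.SD

open Cfsg Subgroup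
open scoped commutatorElement MatrixGroups

universe u

namespace Model

set_option synthInstance.maxSize 2000

/-- An element of order four. -/
def i₀ : El := ((0, 1, 4, 0), false)

/-- An element of order four inverting both `m₀` and `c₀`. -/
def t₀ : El := ((2, 0, 0, 3), false)

theorem four_conj : ∀ x ∈ all, x.2 = false → mul 5 3 x x = zz 5 → ∃ g ∈ all, mul 5 3 g i₀ = mul 5 3 x g := by
  decide +kernel

theorem four_prod : ∀ x ∈ all, x.2 = false → ∃ a ∈ all, a.2 = false ∧ mul 5 3 a a = zz 5 ∧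
    mul 5 3 (mul 5 3 (pw 5 3 a 3) x) (mul 5 3 (pw 5 3 a 3) x) = zz 5 := by decide +kernel

theorem t₀_facts : t₀ ∈ all ∧ i₀ ∈ all ∧ m₀ ∈ all ∧ c₀ ∈ all ∧ mul 5 3 t₀ t₀ = zz 5 ∧ mul 5 3 i₀ i₀ = zz 5 ∧
    mul 5 3 t₀ m₀ = mul 5 3 (mul 5 3 m₀ m₀) t₀ ∧ mul 5 3 t₀ c₀ = mul 5 3 (pw 5 3 c₀ 4) t₀ := by decide +kernel

theorem five_h : ((3 : ℕ) : ZMod 5) * ((3 : ℕ) : ZMod 5) ^ 3 = 1 := by decide

theorem five_s : ((3 : ℕ) : ZMod 5) ^ 3 = 2 := by decide

end Model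

variable {G : Type u} [Group G] [Finite G]

/-- The data in the case of five elements. -/
structure Five (G : Type u) [Group G] [Finite G] where
  c : Ctx G
  μ : c.Coord 5 3
  fix_y : ∀ u ∈ oddCore ↥c.Cz, c.yC * u = u * c.yC → u = 1
  inverts : ∀ u ∈ oddCore ↥c.Cz, c.yC * u * c.yC = u⁻¹
  comm : ∀ u ∈ oddCore ↥c.Cz, ∀ v ∈ oddCore ↥c.Cz, u * v = v * u
  lift : ∀ w : ↥c.Cz, c.π w * c.ybar = c.ybar * c.π w → ∃ w', c.π w' = c.π w ∧ w' * c.yC = c.yC * w'
  four : ∃ w : ↥c.Cz, (∀ u ∈ oddCore ↥c.Cz, w * u = u * w) ∧ (μ.μ (c.π w)).2 = false ∧ w * w = c.zC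
  quat : ∃ Q : Subgroup G, IsPGroup 2 ↥Q ∧ Nat.card ↥Q = 8 ∧ Q ≤ c.Cz ∧ c.z ∈ Q ∧
    (∀ g ∈ Q, g * g = 1 → g = 1 ∨ g = c.z) ∧ ∀ g ∈ Q, ∀ u ∈ oddCore ↥c.Cz, g * (u : G) = (u : G) * g

theorem Ctx.exists_five [IsSimpleGroup G] (c : Ctx G) {F : Type} [Field F] [Fintype F]
    (e : ↥c.L ≃* Matrix.SpecialLinearGroup (Fin 2) F) (h5 : Fintype.card F = 5) : Nonempty (Five G) := by
  haveI : Fact (Nat.Prime 5) := ⟨Nat.prime_five⟩
  have hF : Odd (Fintype.card F) := by rw [h5]; decide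
  obtain ⟨μ⟩ := c.exists_coord (p := 5) (h := 3) e h5 (by norm_num) Model.five_h
    (fun d hd => by rw [Model.five_s]; exact five_scale d hd)
  obtain ⟨hM, hx2, -, -, -⟩ := c.sixteen e hF
  refine ⟨⟨c, μ, fun u hu => c.fix_y_trivial e hF hu, fun u hu => (c.y_inverts e hF u hu).2,
    fun u hu v hv => c.O_comm e hF hu hv, fun w hw => c.exists_fixed_lift e hF hw,
    ⟨c.incl (c.d.x ^ (2 : ℤ)), fun u hu => c.Qs_cent_O e hF hx2 hu, (μ.mem_L _).1 hx2, ?_⟩,
    c.Qs.map (c.S : Subgroup G).subtype, (c.S.2.to_subgroup c.Qs).map _, ?_, ?_, ?_, ?_, ?_⟩⟩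
  swap
  · rw [card_map_of_injective (c.S : Subgroup G).subtype_injective, (c.Qs_data e hF).1]
  swap
  · exact (map_subtype_le _).trans c.S_le
  swap
  · exact ⟨c.d.z, c.zC_mem_PL e hF, rfl⟩
  swap
  · rintro _ ⟨g, hg, rfl⟩ hgg
    rcases (c.Qs_data e hF).2.1 g hg (Subtype.ext hgg) with h | h <;> rw [h]
    · exact Or.inl rfl
    · exact Or.inr rfl
  swap
  · rintro _ ⟨g, hg, rfl⟩ u hu
    exact congrArg Subtype.val (c.Qs_cent_O e hF hg hu)
  rw [← map_mul, ← zpow_add]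
  show c.incl _ = c.incl c.d.z
  congr 1
  rw [CfsgLib.QD.Data.z, hM]
  norm_num

namespace Five

variable (D : Five G)

/-- The core of the centraliser. -/
abbrev O : Subgroup ↥D.c.Cz := oddCore ↥D.c.Cz

/-- The coordinates of an element of the centraliser. -/
def co (x : ↥D.c.Cz) : Model.El := D.μ.μ (D.c.π x)

theorem co_mul (x y : ↥D.c.Cz) : D.co (x * y) = Model.mul 5 3 (D.co x) (D.co y) := by
  rw [co, map_mul, D.μ.map_mul]; rfl

theorem co_one : D.co 1 = Model.one := by rw [co, map_one, D.μ.map_one]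

theorem co_zC : D.co D.c.zC = Model.zz 5 := D.μ.map_z

theorem co_yC : D.co D.c.yC = Model.yy := D.μ.map_y

theorem co_mem (x : ↥D.c.Cz) : D.co x ∈ Model.all := Model.all_eq ▸ D.μ.mem _

theorem co_pow (x : ↥D.c.Cz) (n : ℕ) : D.co (x ^ n) = Model.pw 5 3 (D.co x) n := by
  induction n with
  | zero => rw [pow_zero, D.co_one]; rfl
  | succ n ih => rw [pow_succ, D.co_mul, ih]; rfl

theorem exists_co {m : Model.El} (hm : m ∈ Model.all) : ∃ x : ↥D.c.Cz, D.co x = m := by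
  obtain ⟨q, hq⟩ := D.μ.surj m (Model.all_eq ▸ hm)
  obtain ⟨x, rfl⟩ := D.c.π_surjective q
  exact ⟨x, hq⟩

theorem π_eq_of_co {x y : ↥D.c.Cz} (h : D.co x = D.co y) : D.c.π x = D.c.π y := D.μ.inj h

theorem co_eq_one {x : ↥D.c.Cz} : D.co x = Model.one ↔ x ∈ D.O :=
  ⟨fun h => D.c.π_eq_one.1 (by rw [D.π_eq_of_co (h.trans D.co_one.symm), map_one]),
    fun h => by rw [co, D.c.π_eq_one.2 h, D.μ.map_one]⟩

theorem mem_L_iff {x : ↥D.c.Cz} : D.c.π x ∈ D.c.L ↔ (D.co x).2 = false := D.μ.mem_L _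

/-- The derived part centralises the core. -/
theorem L_cent_O {x : ↥D.c.Cz} (hx : (D.co x).2 = false) : ∀ u ∈ D.O, x * u = u * x := by
  set K := centralizer (D.O : Set ↥D.c.Cz) with hK
  set N := K.map D.c.π with hN
  haveI : N.Normal := (inferInstance : K.Normal).map _ D.c.π_surjective
  obtain ⟨w, hw, hw2, hwz⟩ := D.four
  have hwN : D.c.π w ∈ N := ⟨w, mem_centralizer_iff.2 fun u hu => (hw u hu).symm, rfl⟩
  obtain ⟨-, hi, -, -, -, hi2, -⟩ := Model.t₀_facts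
  have hwsq : Model.mul 5 3 (D.co w) (D.co w) = Model.zz 5 := by rw [← D.co_mul, hwz, D.co_zC]
  obtain ⟨i, hi'⟩ := D.exists_co hi
  have hiN : D.c.π i ∈ N := by
    obtain ⟨g, hg, hge⟩ := Model.four_conj _ (D.co_mem w) hw2 hwsq
    obtain ⟨g, rfl⟩ := D.exists_co hg
    rw [← hi', ← D.co_mul, ← D.co_mul] at hge
    have h := D.π_eq_of_co hge
    rw [map_mul, map_mul] at h
    rw [show D.c.π i = (D.c.π g)⁻¹ * D.c.π w * (D.c.π g)⁻¹⁻¹ by rw [mul_assoc, inv_inv, ← h]; group]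
    exact (inferInstance : N.Normal).conj_mem _ hwN _
  have hfour : ∀ a : ↥D.c.Cz, (D.co a).2 = false → Model.mul 5 3 (D.co a) (D.co a) = Model.zz 5 → D.c.π a ∈ N := by
    intro a ha ha2
    obtain ⟨g, hg, hge⟩ := Model.four_conj _ (D.co_mem a) ha ha2
    obtain ⟨g, rfl⟩ := D.exists_co hg
    rw [← hi', ← D.co_mul, ← D.co_mul] at hge
    have h := D.π_eq_of_co hge
    rw [map_mul, map_mul] at h
    rw [show D.c.π a = D.c.π g * D.c.π i * (D.c.π g)⁻¹ by rw [h]; group]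
    exact (inferInstance : N.Normal).conj_mem _ hiN _
  have hxN : D.c.π x ∈ N := by
    obtain ⟨a, ha, ha2, haz, hab⟩ := Model.four_prod _ (D.co_mem x) hx
    obtain ⟨a, rfl⟩ := D.exists_co ha
    rw [← D.co_pow, ← D.co_mul] at hab
    have h3 : (D.co (a ^ 3 * x)).2 = false := by
      rw [← D.mem_L_iff, map_mul, map_pow]
      exact mul_mem (pow_mem (D.mem_L_iff.2 ha2) 3) (D.mem_L_iff.2 hx)
    have hz : D.c.π a ^ 3 * D.c.π x ∈ N := by rw [← map_pow, ← map_mul]; exact hfour _ h3 hab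
    have h := mul_mem (inv_mem (pow_mem (hfour a ha2 haz) 3)) hz
    rwa [inv_mul_cancel_left] at h
  obtain ⟨k, hk, hkx⟩ := hxN
  intro u hu
  have ho := D.c.π_eq.1 hkx
  have h1 : Commute k u := (mem_centralizer_iff.1 hk u hu).symm
  rw [show x = k * (k⁻¹ * x) by group]
  exact (h1.mul_left (D.comm _ ho u hu)).eq

/-- An odd prime of a subgroup inverted inside the derived part does not divide the order of the core. -/
theorem not_dvd_O {r : ℕ} [Fact r.Prime] (hr2 : r ≠ 2) {u t : ↥D.c.Cz} (hu : (D.co u).2 = false)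
    (ht : (D.co t).2 = false) (hord : orderOf (D.c.π u) = r)
    (hinv : D.c.π t * D.c.π u * (D.c.π t)⁻¹ = (D.c.π u)⁻¹) : ¬ r ∣ Nat.card D.O := by
  intro hr
  set U := zpowers (D.c.π u) with hU
  have hUp : IsPGroup r U := IsPGroup.of_card (n := 1) (by rw [Nat.card_zpowers, hord, pow_one])
  have hab : ∀ a ∈ U, ∀ b ∈ U, a * b = b * a := by
    rintro _ ⟨i, rfl⟩ _ ⟨l, rfl⟩; exact ((Commute.refl _).zpow_zpow i l).eq
  have htU : D.c.π t ∈ normalizer (U : Set (↥D.c.Cz ⧸ oddCore ↥D.c.Cz)) := mem_normalizer_of_conj (by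
    rintro _ ⟨i, rfl⟩
    rw [← conj_zpow, hinv]
    exact zpow_mem (inv_mem (mem_zpowers _)) i)
  obtain ⟨R, w, j, k, hRp, hRU, hwN, hj, hw, hact, hex, hL⟩ := D.c.exists_two_lift hUp hab htU
  obtain ⟨x, hxR, hx1, hxO⟩ := hex hr
  have hwL : (D.co w).2 = false := D.mem_L_iff.1 (hL _ (zpowers_le.2 (D.mem_L_iff.2 hu)) (D.mem_L_iff.2 ht))
  obtain ⟨n, hn⟩ := hRp ⟨x, hxR⟩
  have hn' : x ^ r ^ n = 1 := congrArg Subtype.val hn
  obtain ⟨i, -, hi⟩ := (Nat.dvd_prime_pow (Fact.out : r.Prime)).1 (orderOf_dvd_of_pow_eq_one hn')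
  have hi0 : i ≠ 0 := fun e => hx1 (by rwa [e, pow_zero, orderOf_eq_one_iff] at hi)
  set x₀ := x ^ r ^ (i - 1) with hx₀
  have hx0O : x₀ ∈ D.O := pow_mem hxO _
  have hz : x₀ ∈ omegaZ r R := by
    refine ⟨pow_mem hxR _, fun y hy => ?_, ?_⟩
    · refine (D.L_cent_O ?_ _ hx0O).symm
      refine D.mem_L_iff.1 (zpowers_le.2 (D.mem_L_iff.2 hu) ?_)
      have h1 : D.c.π y ∈ R.map D.c.π := ⟨y, hy, rfl⟩
      rwa [hRU] at h1
    · rw [hx₀, ← pow_mul, ← pow_succ, show i - 1 + 1 = i by omega, ← hi, pow_orderOf_eq_one]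
  have hx01 : x₀ ≠ 1 := fun e => by
    have h1 := orderOf_dvd_of_pow_eq_one e
    rw [hi] at h1
    have := Nat.pow_dvd_pow_iff_le_right (Fact.out : r.Prime).one_lt |>.1 h1
    omega
  have hfix : w * x₀ * w⁻¹ = x₀ := by rw [D.L_cent_O hwL _ hx0O, mul_inv_cancel_right]
  have hcent := D.c.two_fixesC hr2 hRp hz hx01 k w hw hwN hfix
  obtain ⟨y, hy, hyu⟩ : D.c.π u ∈ R.map D.c.π := hRU ▸ mem_zpowers _
  have h1 := congrArg D.c.π (hcent y hy)
  rw [map_mul, map_mul, map_inv, hyu, hact _ (mem_zpowers _)] at h1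
  have h2 : ∀ a : ℕ, D.c.π t ^ (2 * a + 1) * D.c.π u * (D.c.π t ^ (2 * a + 1))⁻¹ = (D.c.π u)⁻¹ := by
    intro a
    induction a with
    | zero => rw [Nat.mul_zero, Nat.zero_add, pow_one]; exact hinv
    | succ a ih =>
      calc _ = D.c.π t * (D.c.π t * (D.c.π t ^ (2 * a + 1) * D.c.π u * (D.c.π t ^ (2 * a + 1))⁻¹) * (D.c.π t)⁻¹) *
            (D.c.π t)⁻¹ := by rw [show 2 * (a + 1) + 1 = (2 * a + 1) + 1 + 1 by omega, pow_succ', pow_succ']; group
        _ = D.c.π t * (D.c.π t * D.c.π u * (D.c.π t)⁻¹)⁻¹ * (D.c.π t)⁻¹ := by rw [ih]; group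
        _ = _ := by rw [hinv, inv_inv, hinv]
  obtain ⟨a, rfl⟩ := hj
  rw [h2] at h1
  have h3 : D.c.π u ^ 2 = 1 := by rw [pow_two]; nth_rewrite 1 [← h1]; rw [inv_mul_cancel]
  have h4 := orderOf_dvd_of_pow_eq_one h3
  rw [hord, Nat.prime_dvd_prime_iff_eq (Fact.out : r.Prime) Nat.prime_two] at h4
  exact hr2 h4

theorem orderOf_π_eq_prime {r : ℕ} [Fact r.Prime] {u : ↥D.c.Cz} (h1 : D.co u ≠ Model.one)
    (hp : Model.pw 5 3 (D.co u) r = Model.one) : orderOf (D.c.π u) = r := by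
  refine orderOf_eq_prime ?_ fun h => h1 (by rw [co, h, D.μ.map_one])
  rw [← map_pow]
  exact D.c.π_eq_one.2 (D.co_eq_one.1 (by rw [D.co_pow, hp]))

theorem inv_π {u : ↥D.c.Cz} {n : ℕ} (h : Model.pw 5 3 (D.co u) (n + 1) = Model.one) :
    D.c.π (u ^ n) = (D.c.π u)⁻¹ := by
  refine eq_inv_of_mul_eq_one_left ?_
  rw [← map_mul, ← pow_succ]
  exact D.c.π_eq_one.2 (D.co_eq_one.1 (by rw [D.co_pow, h]))

theorem three_not_dvd_O : ¬ 3 ∣ Nat.card D.O := by
  haveI : Fact (Nat.Prime 3) := ⟨Nat.prime_three⟩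
  obtain ⟨ht, -, hm, -, -, -, htm, -⟩ := Model.t₀_facts
  obtain ⟨-, hm1, hm3, -⟩ := Model.m₀_order
  obtain ⟨t, hte⟩ := D.exists_co ht
  obtain ⟨u, hue⟩ := D.exists_co hm
  refine D.not_dvd_O (r := 3) (u := u) (t := t) (by norm_num) (by rw [hue]; rfl) (by rw [hte]; rfl)
    (D.orderOf_π_eq_prime (by rw [hue]; exact hm1) (by rw [hue]; exact hm3)) ?_
  rw [mul_inv_eq_iff_eq_mul, ← D.inv_π (n := 2) (by rw [hue]; exact hm3), ← map_mul, ← map_mul]
  refine D.μ.inj ?_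
  show D.co _ = D.co _
  rw [D.co_mul, D.co_mul, pow_two, D.co_mul, hte, hue, htm]

theorem five_not_dvd_O : ¬ 5 ∣ Nat.card D.O := by
  haveI : Fact (Nat.Prime 5) := ⟨Nat.prime_five⟩
  obtain ⟨ht, -, -, hc, -, -, -, htc⟩ := Model.t₀_facts
  obtain ⟨-, hc1, hc5⟩ := Model.c₀_order
  obtain ⟨t, hte⟩ := D.exists_co ht
  obtain ⟨u, hue⟩ := D.exists_co hc
  refine D.not_dvd_O (r := 5) (u := u) (t := t) (by norm_num) (by rw [hue]; rfl) (by rw [hte]; rfl)
    (D.orderOf_π_eq_prime (by rw [hue]; exact hc1) (by rw [hue]; exact hc5)) ?_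
  rw [mul_inv_eq_iff_eq_mul, ← D.inv_π (n := 4) (by rw [hue]; exact hc5), ← map_mul, ← map_mul]
  refine D.μ.inj ?_
  show D.co _ = D.co _
  rw [D.co_mul, D.co_mul, D.co_pow, hte, hue, htc]

theorem coprime_O (p : ℕ) (hp : p = 2 ∨ p = 3 ∨ p = 5) : p.Coprime (Nat.card D.O) := by
  rcases hp with rfl | rfl | rfl
  · exact Nat.coprime_two_left.2 D.c.odd_O
  · exact Nat.prime_three.coprime_iff_not_dvd.2 D.three_not_dvd_O
  · exact Nat.prime_five.coprime_iff_not_dvd.2 D.five_not_dvd_O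

theorem eq_one_of_pow {u : ↥D.c.Cz} (hu : u ∈ D.O) {p n : ℕ} (hp : p = 2 ∨ p = 3 ∨ p = 5) (h : u ^ p ^ n = 1) :
    u = 1 :=
  orderOf_eq_one_iff.1 (Nat.eq_one_of_dvd_coprimes ((D.coprime_O p hp).pow_left n)
    (orderOf_dvd_of_pow_eq_one h) (Subgroup.orderOf_dvd_natCard D.O hu))

theorem exists_m : ∃ m : ↥D.c.Cz, orderOf m = 3 ∧ D.co m = Model.m₀ ∧ m * D.c.yC = D.c.yC * m := by
  haveI : Fact (Nat.Prime 3) := ⟨Nat.prime_three⟩
  obtain ⟨-, hm1, hm3, hmy⟩ := Model.m₀_order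
  obtain ⟨w, hw⟩ := D.exists_co Model.t₀_facts.2.2.1
  obtain ⟨m, hm, hmy'⟩ := D.lift w (by
    show D.c.π w * D.c.π D.c.yC = D.c.π D.c.yC * D.c.π w
    rw [← map_mul, ← map_mul]
    exact D.π_eq_of_co (by rw [D.co_mul, D.co_mul, hw, D.co_yC, hmy]))
  have hco : D.co m = Model.m₀ := by rw [← hw]; exact congrArg D.μ.μ hm
  refine ⟨m, orderOf_eq_prime ?_ fun h => hm1 (by rw [← hco, h, D.co_one]), hco, hmy'⟩
  refine D.fix_y _ (D.co_eq_one.1 (by rw [D.co_pow, hco, hm3])) ?_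
  exact ((show Commute m D.c.yC from hmy').pow_left 3).symm

/-- The element of order three fixed by the four-group. -/
noncomputable def mC : ↥D.c.Cz := D.exists_m.choose

/-- The same in the group. -/
noncomputable def m : G := (D.mC : G)

theorem orderOf_mC : orderOf D.mC = 3 := D.exists_m.choose_spec.1

theorem co_m : D.co D.mC = Model.m₀ := D.exists_m.choose_spec.2.1

theorem mC_y : D.mC * D.c.yC = D.c.yC * D.mC := D.exists_m.choose_spec.2.2

theorem orderOf_m : orderOf D.m = 3 := (Subgroup.orderOf_coe _).trans D.orderOf_mC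

theorem m_ne_one : D.m ≠ 1 := fun h => by
  have := D.orderOf_m
  rw [h, orderOf_one] at this
  omega

theorem m_z : D.m * D.c.z = D.c.z * D.m := (congrArg Subtype.val (D.c.zC_comm D.mC)).symm

theorem m_y : D.m * D.c.yG = D.c.yG * D.m := congrArg Subtype.val D.mC_y

theorem m_cent_O : ∀ u ∈ D.O, D.mC * u = u * D.mC := D.L_cent_O (by rw [D.co_m]; rfl)

theorem m_V {v : G} (hv : v ∈ D.c.V) : D.m * v = v * D.m := by
  rcases hv with rfl | rfl | rfl | rfl
  · simp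
  · exact D.m_z
  · exact D.m_y
  · exact (show Commute D.m D.c.z from D.m_z).mul_right D.m_y

/-- The elements of the centraliser of the four-group. -/
theorem exists_rep {x : ↥D.c.Cz} (h : D.co x ∈ Model.twelve) :
    ∃ v : ↥D.c.Cz, (v : G) ∈ D.c.V ∧ ∃ i : ℕ, D.c.π x = D.c.π (v * D.mC ^ i) := by
  have hb : ∀ a b : Bool, ((D.c.zC ^ a.toNat * D.c.yC ^ b.toNat : ↥D.c.Cz) : G) ∈ D.c.V := fun a b => by
    push_cast
    exact mul_mem (pow_mem D.c.z_mem_V _) (pow_mem D.c.yG_mem_V _)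
  have key : ∃ (a b : Bool) (i : Fin 3), D.co x =
      Model.mul 5 3 (Model.mul 5 3 (Model.pw 5 3 (Model.zz 5) a.toNat) (Model.pw 5 3 Model.yy b.toNat))
        (Model.pw 5 3 Model.m₀ i) := by
    have hall : ∀ q ∈ Model.twelve, ∃ (a b : Bool) (i : Fin 3), q =
        Model.mul 5 3 (Model.mul 5 3 (Model.pw 5 3 (Model.zz 5) a.toNat) (Model.pw 5 3 Model.yy b.toNat))
          (Model.pw 5 3 Model.m₀ i) := by decide +kernel
    exact hall _ h
  obtain ⟨a, b, i, hab⟩ := key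
  refine ⟨_, hb a b, i, D.π_eq_of_co ?_⟩
  rw [hab, D.co_mul, D.co_mul, D.co_pow, D.co_pow, D.co_pow, D.co_zC, D.co_yC, D.co_m]

/-- The centraliser of the four-group. -/
theorem cent_V {x : G} (hz : x * D.c.z = D.c.z * x) (hy : x * D.c.yG = D.c.yG * x) :
    ∃ v ∈ D.c.V, ∃ i : ℕ, x = v * D.m ^ i := by
  let xC : ↥D.c.Cz := ⟨x, mem_centralizer_singleton_iff.2 hz⟩
  have hxy : xC * D.c.yC = D.c.yC * xC := Subtype.ext hy
  have hco := congrArg D.co hxy
  rw [D.co_mul, D.co_mul, D.co_yC] at hco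
  obtain ⟨v, hv, i, hi⟩ := D.exists_rep (Model.cent_y _ (D.co_mem xC) hco)
  have hvy : v * D.c.yC = D.c.yC * v := Subtype.ext (D.c.V_comm hv D.c.yG_mem_V)
  have hc : Commute D.c.yC ((v * D.mC ^ i)⁻¹ * xC) :=
    ((show Commute v D.c.yC from hvy).mul_left ((show Commute D.mC D.c.yC from D.mC_y).pow_left i)).symm.inv_right.mul_right
      (show Commute xC D.c.yC from hxy).symm
  have h1 := D.fix_y _ (D.c.π_eq.1 hi.symm) hc.eq
  rw [inv_mul_eq_one] at h1
  exact ⟨v, hv, i, (congrArg Subtype.val h1).symm.trans (by push_cast; rfl)⟩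

/-- The centraliser of the element of order three in the centraliser of the involution. -/
theorem cent_zm {x : ↥D.c.Cz} (hm : x * D.mC = D.mC * x) :
    ∃ v : ↥D.c.Cz, (v : G) ∈ D.c.V ∧ ∃ i : ℕ, ∃ o ∈ D.O, x = v * D.mC ^ i * o := by
  have hco := congrArg D.co hm
  rw [D.co_mul, D.co_mul, D.co_m] at hco
  obtain ⟨v, hv, i, hi⟩ := D.exists_rep (Model.cent_m _ (D.co_mem x) hco)
  exact ⟨v, hv, i, _, D.c.π_eq.1 hi.symm, by group⟩

theorem vC_m {v : ↥D.c.Cz} (hv : (v : G) ∈ D.c.V) : v * D.mC = D.mC * v := Subtype.ext (D.m_V hv).symm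

theorem V_cases {v : ↥D.c.Cz} (hv : (v : G) ∈ D.c.V) :
    v = 1 ∨ v = D.c.zC ∨ v = D.c.yC ∨ v = D.c.zC * D.c.yC := by
  rcases hv with h | h | h | h
  · exact Or.inl (Subtype.ext h)
  · exact Or.inr (Or.inl (Subtype.ext h))
  · exact Or.inr (Or.inr (Or.inl (Subtype.ext h)))
  · exact Or.inr (Or.inr (Or.inr (Subtype.ext h)))

/-- An involution of the centraliser commuting with the element of order three. -/
theorem invol_zm {x : ↥D.c.Cz} (hm : x * D.mC = D.mC * x) (hx : x * x = 1) :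
    x = 1 ∨ x = D.c.zC ∨ ∃ o ∈ D.O, o * x * o⁻¹ = D.c.yC ∨ o * x * o⁻¹ = D.c.zC * D.c.yC := by
  obtain ⟨v, hv, i, o, ho, rfl⟩ := D.cent_zm hm
  -- the exponent of the element of order three vanishes
  have hmi : D.mC ^ i = 1 := by
    have hvv : v * v = 1 := Subtype.ext (D.c.V_mul_self hv)
    have hvm : Commute v (D.mC ^ i) := (show Commute v D.mC from D.vC_m hv).pow_right i
    have h2 : D.co (D.mC ^ (2 * i)) = Model.one := by
      rw [← D.co_one, ← hx]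
      refine congrArg D.μ.μ ?_
      rw [map_mul D.c.π (v * D.mC ^ i * o), map_mul D.c.π (v * D.mC ^ i) o, D.c.π_eq_one.2 ho, mul_one, ← map_mul, two_mul, pow_add]
      congr 1
      symm
      calc v * D.mC ^ i * (v * D.mC ^ i) = v * (D.mC ^ i * v) * D.mC ^ i := by group
        _ = v * (v * D.mC ^ i) * D.mC ^ i := by rw [hvm.eq]
        _ = _ := by rw [← mul_assoc v v, hvv, one_mul]
    have h3 : D.mC ^ (2 * i) = 1 := D.eq_one_of_pow (D.co_eq_one.1 h2) (p := 3) (n := 1) (Or.inr (Or.inl rfl))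
      (by rw [← pow_mul, pow_one, mul_comm, pow_mul, show D.mC ^ 3 = 1 from D.orderOf_mC ▸ pow_orderOf_eq_one _, one_pow])
    have h4 := orderOf_dvd_of_pow_eq_one h3
    rw [D.orderOf_mC] at h4
    exact orderOf_dvd_iff_pow_eq_one.1 (D.orderOf_mC ▸ (Nat.Coprime.dvd_of_dvd_mul_left (by norm_num) h4))
  rw [hmi, mul_one] at hx ⊢
  rcases D.V_cases hv with rfl | rfl | rfl | rfl
  · left
    rw [one_mul] at hx ⊢
    exact D.eq_one_of_pow ho (p := 2) (n := 1) (Or.inl rfl) (by rw [pow_one, pow_two, hx])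
  · right; left
    have ho2 : o * o = 1 := by
      have hzz : D.c.zC * D.c.zC = 1 := Subtype.ext D.c.z_sq
      calc o * o = D.c.zC * D.c.zC * (o * o) := by rw [hzz, one_mul]
        _ = D.c.zC * (D.c.zC * o) * o := by group
        _ = D.c.zC * (o * D.c.zC) * o := by rw [D.c.zC_comm o]
        _ = 1 := by rw [← hx]; group
    rw [D.eq_one_of_pow ho (p := 2) (n := 1) (Or.inl rfl) (by rw [pow_one, pow_two, ho2]), mul_one]
  all_goals
    right; right
    obtain ⟨k, hk⟩ := D.c.odd_of_mem_O ho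
    have ho' : o ^ (k + 1) ∈ D.O := pow_mem ho _
    refine ⟨o ^ (k + 1), ho', ?_⟩
    have h2 : (o ^ (k + 1)) ^ 2 = o := by
      rw [← pow_mul, show (k + 1) * 2 = orderOf o + 1 by omega, pow_succ, pow_orderOf_eq_one, one_mul]
    have h3 : o ^ (k + 1) * D.c.yC = D.c.yC * (o ^ (k + 1))⁻¹ := by
      rw [← D.inverts _ ho', ← mul_assoc, ← mul_assoc, D.c.yC_sq, one_mul]
  · left
    rw [← mul_assoc, h3]
    calc D.c.yC * (o ^ (k + 1))⁻¹ * o * (o ^ (k + 1))⁻¹ =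
        D.c.yC * ((o ^ (k + 1))⁻¹ * (o ^ (k + 1)) ^ 2 * (o ^ (k + 1))⁻¹) := by rw [h2]; group
      _ = _ := by group
  · right
    rw [← mul_assoc, ← mul_assoc, ← D.c.zC_comm (o ^ (k + 1)), mul_assoc D.c.zC, h3]
    calc D.c.zC * (D.c.yC * (o ^ (k + 1))⁻¹) * o * (o ^ (k + 1))⁻¹ =
        D.c.zC * D.c.yC * ((o ^ (k + 1))⁻¹ * (o ^ (k + 1)) ^ 2 * (o ^ (k + 1))⁻¹) := by rw [h2]; group
      _ = _ := by group

/-- Every element of order three of the centraliser is conjugate there to the chosen one. -/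
theorem conj_mC {x : ↥D.c.Cz} (hx : orderOf x = 3) : ∃ g : ↥D.c.Cz, g * D.mC * g⁻¹ = x := by
  have hx3 : x ^ 3 = 1 := hx ▸ pow_orderOf_eq_one x
  rcases Model.conj_m _ (D.co_mem x) (by rw [← D.co_pow, hx3, D.co_one]) with h | ⟨g, hg, hge⟩
  · have h1 := D.eq_one_of_pow (D.co_eq_one.1 h) (p := 3) (n := 1) (Or.inr (Or.inl rfl)) (by rw [pow_one, hx3])
    rw [h1, orderOf_one] at hx
    omega
  obtain ⟨g, rfl⟩ := D.exists_co hg
  refine ⟨g, ?_⟩
  rw [← D.co_m, ← D.co_mul, ← D.co_mul] at hge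
  have h1 := D.π_eq_of_co hge
  set x' := g⁻¹ * x * g with hx'
  set o := D.mC⁻¹ * x' with ho
  have hoO : o ∈ D.O := D.c.π_eq.1 (by
    rw [hx', map_mul, map_mul, map_inv, mul_assoc, ← map_mul D.c.π x g, ← h1, map_mul, inv_mul_cancel_left])
  have hxo : x' ^ 3 = 1 := by
    have h := conj_pow (a := g⁻¹) (b := x) (i := 3)
    rw [inv_inv] at h
    rw [hx', h, hx3, mul_one, inv_mul_cancel]
  have ho3 : o ^ 3 = 1 := by
    rw [show x' = D.mC * o by rw [ho]; group, (show Commute D.mC o from D.m_cent_O _ hoO).mul_pow,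
      show D.mC ^ 3 = 1 from D.orderOf_mC ▸ pow_orderOf_eq_one _, one_mul] at hxo
    exact hxo
  have h2 := D.eq_one_of_pow hoO (p := 3) (n := 1) (Or.inr (Or.inl rfl)) (by rw [pow_one, ho3])
  rw [ho, inv_mul_eq_one] at h2
  rw [h2, hx']
  group

variable [IsSimpleGroup G]

/-- Involutions commuting with the element of order three are fused in its centraliser. -/
theorem fuse {t : G} (ht : orderOf t = 2) (htm : t * D.m = D.m * t) :
    ∃ h : G, h * D.m * h⁻¹ = D.m ∧ h * t * h⁻¹ = D.c.z := by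
  obtain ⟨g, hg⟩ := D.c.exists_conj_z ht
  have hgm : g⁻¹ * D.m * g * D.c.z = D.c.z * (g⁻¹ * D.m * g) := by
    rw [← hg] at htm
    calc g⁻¹ * D.m * g * D.c.z = g⁻¹ * (D.m * (g * D.c.z * g⁻¹)) * g := by group
      _ = g⁻¹ * (g * D.c.z * g⁻¹ * D.m) * g := by rw [htm]
      _ = _ := by group
  obtain ⟨k, hk⟩ := D.conj_mC (x := ⟨g⁻¹ * D.m * g, mem_centralizer_singleton_iff.2 hgm⟩) (by
    rw [← Subgroup.orderOf_coe]
    show orderOf (g⁻¹ * D.m * g) = 3
    rw [← D.orderOf_m]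
    have := (MulAut.conj g⁻¹).orderOf_eq D.m
    simpa using this)
  have hk' : (k : G) * D.m * (k : G)⁻¹ = g⁻¹ * D.m * g := congrArg Subtype.val hk
  have hkz : (k : G) * D.c.z = D.c.z * k := mem_centralizer_singleton_iff.1 k.2
  refine ⟨(k : G)⁻¹ * g⁻¹, ?_, ?_⟩
  · calc (k : G)⁻¹ * g⁻¹ * D.m * ((k : G)⁻¹ * g⁻¹)⁻¹ = (k : G)⁻¹ * (g⁻¹ * D.m * g) * k := by group
      _ = _ := by rw [← hk']; group
  · calc (k : G)⁻¹ * g⁻¹ * t * ((k : G)⁻¹ * g⁻¹)⁻¹ = (k : G)⁻¹ * (g⁻¹ * (g * D.c.z * g⁻¹) * g) * k := by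
          rw [hg]; group
      _ = (k : G)⁻¹ * (D.c.z * k) := by group
      _ = _ := by rw [← hkz, inv_mul_cancel_left]

/-- Every involution of the four-group moves to the central one by an element normalising it. -/
theorem exists_norm {v : G} (hv : v ∈ D.c.V) (hv1 : v ≠ 1) :
    ∃ g : G, g * D.m = D.m * g ∧ g ∈ normalizer (D.c.V : Set G) ∧ g * v * g⁻¹ = D.c.z := by
  obtain ⟨h, hm, hz⟩ := D.fuse (orderOf_eq_prime (by rw [pow_two, D.c.V_mul_self hv]) hv1) (D.m_V hv).symm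
  -- another involution of the four-group
  obtain ⟨w, hw, hw1, hwv, hall⟩ : ∃ w ∈ D.c.V, w ≠ 1 ∧ w ≠ v ∧ ∀ a ∈ D.c.V, a = 1 ∨ a = v ∨ a = w ∨ a = v * w := by
    haveI := D.c.klein_V
    have hgen : ∀ w ∈ D.c.V, w ≠ 1 → w ≠ v → ∀ a ∈ D.c.V, a = 1 ∨ a = v ∨ a = w ∨ a = v * w := by
      intro w hw hw1 hwv a ha
      by_contra hc
      push Not at hc
      refine hc.2.2.2 (congrArg Subtype.val (IsKleinFour.eq_mul_of_ne_all (x := (⟨v, hv⟩ : ↥D.c.V))
        (y := ⟨w, hw⟩) (z := ⟨a, ha⟩) ?_ ?_ ?_ ?_ ?_ ?_) :)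
      · exact fun e => hv1 (congrArg Subtype.val e)
      · exact fun e => hw1 (congrArg Subtype.val e)
      · exact fun e => hwv (congrArg Subtype.val e).symm
      · exact fun e => hc.1 (congrArg Subtype.val e)
      · exact fun e => hc.2.1 (congrArg Subtype.val e)
      · exact fun e => hc.2.2.1 (congrArg Subtype.val e)
    by_cases hvz : v = D.c.z
    · exact ⟨_, D.c.yG_mem_V, D.c.yG_ne_one, fun e => D.c.yG_ne_z (e.trans hvz),
        hgen _ D.c.yG_mem_V D.c.yG_ne_one fun e => D.c.yG_ne_z (e.trans hvz)⟩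
    · exact ⟨_, D.c.z_mem_V, D.c.z_ne_one, Ne.symm hvz, hgen _ D.c.z_mem_V D.c.z_ne_one (Ne.symm hvz)⟩
  set w' := h * w * h⁻¹ with hw'
  have hw'z : w' * D.c.z = D.c.z * w' := by
    rw [← hz, hw']
    calc h * w * h⁻¹ * (h * v * h⁻¹) = h * (w * v) * h⁻¹ := by group
      _ = h * (v * w) * h⁻¹ := by rw [D.c.V_comm hw hv]
      _ = _ := by group
  have hw'm : w' * D.m = D.m * w' := by
    rw [hw']
    calc h * w * h⁻¹ * D.m = h * w * h⁻¹ * (h * D.m * h⁻¹) := by rw [hm]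
      _ = h * (w * D.m) * h⁻¹ := by group
      _ = h * (D.m * w) * h⁻¹ := by rw [D.m_V hw]
      _ = h * D.m * h⁻¹ * (h * w * h⁻¹) := by group
      _ = _ := by rw [hm]
  have hw'2 : w' * w' = 1 := by
    rw [hw', show h * w * h⁻¹ * (h * w * h⁻¹) = h * (w * w) * h⁻¹ by group, D.c.V_mul_self hw, mul_one, mul_inv_cancel]
  rcases D.invol_zm (x := ⟨w', mem_centralizer_singleton_iff.2 hw'z⟩) (Subtype.ext hw'm) (Subtype.ext hw'2) with
    h1 | h1 | ⟨o, ho, ho'⟩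
  · exact absurd (conj_eq_one_iff.1 (congrArg Subtype.val h1)) hw1
  · exact absurd ((MulAut.conj h).injective (show MulAut.conj h w = MulAut.conj h v by
      rw [MulAut.conj_apply, MulAut.conj_apply, ← hw', hz]; exact congrArg Subtype.val h1)) hwv
  · have hoz : (o : G) * D.c.z = D.c.z * o := mem_centralizer_singleton_iff.1 o.2
    have hom : (o : G) * D.m = D.m * o := (congrArg Subtype.val (D.m_cent_O o ho)).symm
    have hoV : (o : G) * w' * (o : G)⁻¹ ∈ D.c.V := by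
      rcases ho' with h1 | h1
      · exact (show (o : G) * w' * (o : G)⁻¹ = D.c.yG from congrArg Subtype.val h1) ▸ D.c.yG_mem_V
      · exact (show (o : G) * w' * (o : G)⁻¹ = D.c.z * D.c.yG from congrArg Subtype.val h1) ▸
          mul_mem D.c.z_mem_V D.c.yG_mem_V
    have hvz : (o : G) * h * v * ((o : G) * h)⁻¹ = D.c.z := by
      calc (o : G) * h * v * ((o : G) * h)⁻¹ = (o : G) * (h * v * h⁻¹) * (o : G)⁻¹ := by group
        _ = _ := by rw [hz, hoz, mul_inv_cancel_right]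
    have hwV : (o : G) * h * w * ((o : G) * h)⁻¹ ∈ D.c.V := by
      rw [show (o : G) * h * w * ((o : G) * h)⁻¹ = (o : G) * w' * (o : G)⁻¹ by rw [hw']; group]; exact hoV
    refine ⟨(o : G) * h, ?_, mem_normalizer_of_conj fun a ha => ?_, hvz⟩
    · exact ((show Commute (o : G) D.m from hom).mul_left (mul_inv_eq_iff_eq_mul.1 hm)).eq
    · rcases hall a ha with rfl | rfl | rfl | rfl
      · simp
      · rw [hvz]; exact D.c.z_mem_V
      · exact hwV
      · rw [show (o : G) * h * (v * w) * ((o : G) * h)⁻¹ =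
          (o : G) * h * v * ((o : G) * h)⁻¹ * ((o : G) * h * w * ((o : G) * h)⁻¹) by group, hvz]
        exact mul_mem D.c.z_mem_V hwV

/-- A two-group containing the four-group in the centraliser of the element of order three equals it. -/
theorem two_le_V {T : Subgroup G} (hT : IsPGroup 2 T) (hTm : ∀ a ∈ T, a * D.m = D.m * a) (hVT : D.c.V ≤ T) :
    T ≤ D.c.V := by
  haveI := Fact.mk Nat.prime_two
  haveI := hT.isNilpotent
  set V' := D.c.V.subgroupOf T with hV'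
  suffices hN : normalizer (V' : Set ↥T) ≤ V' by
    rw [← subgroupOf_eq_top, ← hV']
    refine normalizerCondition_iff_only_full_group_self_normalizing.1 Group.normalizerCondition_of_isNilpotent V'
      (le_antisymm hN le_normalizer)
  intro g hg
  show (g : G) ∈ D.c.V
  have hgV : ∀ a ∈ D.c.V, (g : G) * a * (g : G)⁻¹ ∈ D.c.V := fun a ha =>
    (mem_normalizer_iff.1 hg ⟨a, hVT ha⟩).1 ha
  -- a fixed involution
  obtain ⟨j, hj⟩ := hT g
  obtain ⟨v, hv, hv1, hgv⟩ : ∃ v ∈ D.c.V, v ≠ 1 ∧ (g : G) * v * (g : G)⁻¹ = v := by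
    let gN : normalizer (D.c.V : Set G) := ⟨g, mem_normalizer_of_conj hgV⟩
    haveI := D.c.klein_V
    have h4 : Nat.card ↥D.c.V = 4 := IsKleinFour.card_four
    letI : MulAction ↥(zpowers gN) ↥D.c.V :=
      MulAction.compHom ↥D.c.V ((D.c.V.normalizerMonoidHom).comp (zpowers gN).subtype)
    have hP : IsPGroup 2 ↥(zpowers gN) := zpowers_two gN (k := j) (Subtype.ext (by
      rw [SubmonoidClass.coe_pow]; exact congrArg Subtype.val hj))
    have h1 : (1 : ↥D.c.V) ∈ MulAction.fixedPoints ↥(zpowers gN) ↥D.c.V := fun a =>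
      map_one (D.c.V.normalizerMonoidHom (a : normalizer (D.c.V : Set G)))
    obtain ⟨v, hv, hv1⟩ := hP.exists_fixed_point_of_prime_dvd_card_of_fixed_point ↥D.c.V (by rw [h4]; norm_num) h1
    exact ⟨v, v.2, fun e => hv1 (Subtype.ext e).symm, congrArg Subtype.val (hv ⟨gN, mem_zpowers _⟩)⟩
  obtain ⟨h, hhm, hhN, hhz⟩ := D.exists_norm hv hv1
  set g' := h * (g : G) * h⁻¹ with hg'
  have hg'z : g' * D.c.z = D.c.z * g' := by
    rw [← hhz, hg']
    calc h * (g : G) * h⁻¹ * (h * v * h⁻¹) = h * ((g : G) * v) * h⁻¹ := by group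
      _ = h * (v * (g : G)) * h⁻¹ := by rw [mul_inv_eq_iff_eq_mul.1 hgv]
      _ = _ := by group
  have hg'm : g' * D.m = D.m * g' :=
    (((show Commute h D.m from hhm).mul_left (hTm g g.2)).mul_left (show Commute h D.m from hhm).inv_left).eq
  have hg'V : ∀ a ∈ D.c.V, g' * a * g'⁻¹ ∈ D.c.V := by
    intro a ha
    have h1 := (mem_normalizer_iff.1 hhN _).1 (hgV _ ((mem_normalizer_iff''.1 hhN a).1 ha))
    rwa [show g' * a * g'⁻¹ = h * ((g : G) * (h⁻¹ * a * h) * (g : G)⁻¹) * h⁻¹ by rw [hg']; group]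
  suffices hres : g' ∈ D.c.V by
    have h1 := (mem_normalizer_iff''.1 hhN g').1 hres
    rwa [show h⁻¹ * g' * h = (g : G) by rw [hg']; group] at h1
  obtain ⟨u, hu, i, o, ho, huo⟩ := D.cent_zm (x := ⟨g', mem_centralizer_singleton_iff.2 hg'z⟩) (Subtype.ext hg'm)
  set gC : ↥D.c.Cz := ⟨g', mem_centralizer_singleton_iff.2 hg'z⟩ with hgC
  have hy' : gC * D.c.yC * gC⁻¹ = D.c.yC * (o⁻¹ * o⁻¹) ∨ gC * D.c.yC * gC⁻¹ = D.c.yC * (o * o) := by
    have hc1 : Commute (u * D.mC ^ i) D.c.yC :=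
      (show Commute u D.c.yC from Subtype.ext (D.c.V_comm hu D.c.yG_mem_V)).mul_left
        ((show Commute D.mC D.c.yC from D.mC_y).pow_left i)
    have hu' : u * D.mC ^ i * (D.c.yC * (o⁻¹ * o⁻¹)) * (u * D.mC ^ i)⁻¹ ∈ ({D.c.yC * (o⁻¹ * o⁻¹), D.c.yC * (o * o)} : Set ↥D.c.Cz) := by
      have hoo : o⁻¹ * o⁻¹ ∈ D.O := mul_mem (inv_mem ho) (inv_mem ho)
      have hmc : Commute (D.mC ^ i) (o⁻¹ * o⁻¹) := (show Commute D.mC _ from D.m_cent_O _ hoo).pow_left i
      have : u * (o⁻¹ * o⁻¹) * u⁻¹ = o⁻¹ * o⁻¹ ∨ u * (o⁻¹ * o⁻¹) * u⁻¹ = o * o := by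
        rcases D.V_cases hu with rfl | rfl | rfl | rfl
        · left; simp
        · left; rw [D.c.zC_comm, mul_inv_cancel_right]
        · right
          rw [inv_eq_of_mul_eq_one_right D.c.yC_sq, D.inverts _ hoo]
          group
          exact zpow_two o
        · right
          rw [mul_inv_rev, ← mul_assoc, mul_assoc D.c.zC D.c.yC, mul_assoc D.c.zC, inv_eq_of_mul_eq_one_right D.c.yC_sq,
            D.inverts _ hoo, D.c.zC_comm, mul_inv_cancel_right]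
          group
          exact zpow_two o
      have hsplit : u * D.mC ^ i * (D.c.yC * (o⁻¹ * o⁻¹)) * (u * D.mC ^ i)⁻¹ = D.c.yC * (u * (o⁻¹ * o⁻¹) * u⁻¹) := by
        calc u * D.mC ^ i * (D.c.yC * (o⁻¹ * o⁻¹)) * (u * D.mC ^ i)⁻¹
            = (u * D.mC ^ i * D.c.yC) * (o⁻¹ * o⁻¹) * (D.mC ^ i)⁻¹ * u⁻¹ := by group
          _ = (D.c.yC * (u * D.mC ^ i)) * (o⁻¹ * o⁻¹) * (D.mC ^ i)⁻¹ * u⁻¹ := by rw [hc1.eq]
          _ = D.c.yC * u * (D.mC ^ i * (o⁻¹ * o⁻¹)) * (D.mC ^ i)⁻¹ * u⁻¹ := by group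
          _ = _ := by rw [hmc.eq]; group
      rw [hsplit]
      rcases this with h1 | h1 <;> rw [h1]
      · exact Or.inl rfl
      · exact Or.inr rfl
    have hoy : o * D.c.yC * o⁻¹ = D.c.yC * (o⁻¹ * o⁻¹) := by
      rw [← mul_assoc]
      congr 1
      rw [← D.inverts o ho, ← mul_assoc, ← mul_assoc, D.c.yC_sq, one_mul]
    have : gC * D.c.yC * gC⁻¹ = u * D.mC ^ i * (o * D.c.yC * o⁻¹) * (u * D.mC ^ i)⁻¹ := by rw [huo]; group
    rw [this, hoy]
    exact hu'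
  have hkey : ∀ w ∈ D.O, ((D.c.yC * w : ↥D.c.Cz) : G) ∈ D.c.V → w = 1 := by
    intro w hw hV
    have hw2 : w ^ 2 = 1 := by
      have hwV : (w : G) ∈ D.c.V := by
        have h1 := mul_mem D.c.yG_mem_V hV
        rwa [Subgroup.coe_mul, ← mul_assoc, show (D.c.yC : G) = D.c.yG from rfl, D.c.yG_sq, one_mul] at h1
      exact Subtype.ext (by rw [SubmonoidClass.coe_pow, pow_two]; exact D.c.V_mul_self hwV)
    exact D.eq_one_of_pow hw (p := 2) (n := 1) (Or.inl rfl) (by rw [pow_one, hw2])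
  have hmem : ((gC * D.c.yC * gC⁻¹ : ↥D.c.Cz) : G) ∈ D.c.V := hg'V _ D.c.yG_mem_V
  have ho1 : o = 1 := by
    have : o * o = 1 := by
      rcases hy' with h1 | h1 <;> rw [h1] at hmem
      · have := hkey _ (mul_mem (inv_mem ho) (inv_mem ho)) hmem
        rw [← mul_inv_rev, inv_eq_one] at this
        exact this
      · exact hkey _ (mul_mem ho ho) hmem
    exact D.eq_one_of_pow ho (p := 2) (n := 1) (Or.inl rfl) (by rw [pow_one, pow_two, this])
  rw [ho1, mul_one] at huo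
  have hg'e : g' = (u : G) * D.m ^ i := congrArg Subtype.val huo
  have hpow : g' ^ 2 ^ j = 1 := by
    rw [hg', conj_pow, show (g : G) ^ 2 ^ j = 1 from congrArg Subtype.val hj, mul_one, mul_inv_cancel]
  rw [hg'e]
  refine mul_mem hu ?_
  have hmi : (D.m ^ i) ^ 2 ^ (j + 1) = 1 := by
    have h1 : g' ^ 2 ^ (j + 1) = 1 := by rw [pow_succ, pow_mul, hpow, one_pow]
    rw [hg'e, (show Commute (u : G) (D.m ^ i) from ((show Commute D.m (u : G) from D.m_V hu).symm.pow_right i)).mul_pow,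
      pow_succ', pow_mul, pow_two, D.c.V_mul_self hu, one_pow, one_mul, ← pow_succ'] at h1
    exact h1
  have h3 : (D.m ^ i) ^ 3 = 1 := by
    rw [← pow_mul, mul_comm, pow_mul, show D.m ^ 3 = 1 from D.orderOf_m ▸ pow_orderOf_eq_one _, one_pow]
  rw [orderOf_eq_one_iff.1 (Nat.eq_one_of_dvd_coprimes (show (2 ^ (j + 1)).Coprime 3 from Nat.Coprime.pow_left _ (by norm_num))
    (orderOf_dvd_of_pow_eq_one hmi) (orderOf_dvd_of_pow_eq_one h3))]
  exact one_mem _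

/-- One class of elements of order three. -/
theorem three_conj {x : G} (hx : orderOf x = 3) : ∃ g : G, g * D.m * g⁻¹ = x := by
  obtain ⟨φ, hφ⟩ := D.c.hom.exists_map (x := D.m) (y := x) (by rw [hx, D.orderOf_m])
  have ht : orderOf (φ D.c.z) = 2 := by rw [φ.orderOf_eq, D.c.orderOf_z]
  obtain ⟨g, hg⟩ := D.c.exists_conj_z ht
  have hc : φ D.c.z * x = x * φ D.c.z := by rw [← hφ, ← map_mul, ← map_mul, D.m_z]
  have hgx : g⁻¹ * x * g * D.c.z = D.c.z * (g⁻¹ * x * g) := by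
    rw [← hg] at hc
    calc g⁻¹ * x * g * D.c.z = g⁻¹ * (x * (g * D.c.z * g⁻¹)) * g := by group
      _ = g⁻¹ * (g * D.c.z * g⁻¹ * x) * g := by rw [hc]
      _ = _ := by group
  obtain ⟨k, hk⟩ := D.conj_mC (x := ⟨g⁻¹ * x * g, mem_centralizer_singleton_iff.2 hgx⟩) (by
    rw [← Subgroup.orderOf_coe]
    show orderOf (g⁻¹ * x * g) = 3
    rw [← hx]
    have := (MulAut.conj g⁻¹).orderOf_eq x
    simpa using this)
  refine ⟨g * k, ?_⟩
  have hk' : (k : G) * D.m * (k : G)⁻¹ = g⁻¹ * x * g := congrArg Subtype.val hk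
  calc g * (k : G) * D.m * (g * (k : G))⁻¹ = g * ((k : G) * D.m * (k : G)⁻¹) * g⁻¹ := by group
    _ = x := by rw [hk']; group

end Five

end CfsgLib.Homogeneous.SD
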