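import Mathlib

/-!
A concrete model of the quotient of the involution centraliser: `SL₂(p)` extended by the action of `[[0,s],[1,0]]`.
-/

set_option autoImplicit false

namespace CfsgLib.Homogeneous.SD.Model

set_option synthInstance.maxSize 2000

/-- A two by two matrix as a tuple of residues. -/
abbrev T : Type := ℕ × ℕ × ℕ × ℕ

/-- Elements of the model. -/
abbrev El : Type := T × Bool

variable (p : ℕ)

/-- Matrix product. -/
def tmul (A B : T) : T :=
  ((A.1 * B.1 + A.2.1 * B.2.2.1) % p, (A.1 * B.2.1 + A.2.1 * B.2.2.2) % p,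
    (A.2.2.1 * B.1 + A.2.2.2 * B.2.2.1) % p, (A.2.2.1 * B.2.1 + A.2.2.2 * B.2.2.2) % p)

/-- Conjugation by `[[0,s],[1,0]]`; `h` is the inverse of `s`, and `s = h ^ 3`. -/
def tw (h : ℕ) (A : T) : T := (A.2.2.2, (h * h * h * A.2.2.1) % p, (h * A.2.1) % p, A.1)

/-- The product of the model. -/
def mul (h : ℕ) (x y : El) : El :=
  (tmul p x.1 (if x.2 then tw p h y.1 else y.1), xor x.2 y.2)

/-- The determinant is one. -/
def DetOne (A : T) : Prop := (A.1 * A.2.2.2) % p = (A.2.1 * A.2.2.1 + 1) % p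

instance (A : T) : Decidable (DetOne p A) := inferInstanceAs (Decidable (_ = _))

/-- The unit. -/
def one : El := ((1, 0, 0, 1), false)

/-- The central involution. -/
def zz : El := ((p - 1, 0, 0, p - 1), false)

/-- The outer involution. -/
def yy : El := ((1, 0, 0, 1), true)

/-- Powers. -/
def pw (h : ℕ) (x : El) : ℕ → El
  | 0 => one
  | n + 1 => mul p h (pw h x n) x

/-- The matrix as a tuple. -/
def ofMat (A : Matrix (Fin 2) (Fin 2) (ZMod p)) : T := ((A 0 0).val, (A 0 1).val, (A 1 0).val, (A 1 1).val)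

variable {p} [NeZero p]

theorem ofMat_injective : Function.Injective (ofMat p) := by
  intro A B h
  simp only [ofMat, Prod.mk.injEq] at h
  ext i j
  fin_cases i <;> fin_cases j <;> apply ZMod.val_injective <;> simp [h.1, h.2.1, h.2.2.1, h.2.2.2]

theorem val_mul_add (a b c d : ZMod p) : (a * b + c * d).val = (a.val * b.val + c.val * d.val) % p := by
  rw [ZMod.val_add, ZMod.val_mul, ZMod.val_mul, ← Nat.add_mod]

theorem ofMat_mul (A B : Matrix (Fin 2) (Fin 2) (ZMod p)) : ofMat p (A * B) = tmul p (ofMat p A) (ofMat p B) := by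
  simp [ofMat, tmul, Matrix.mul_apply, Fin.sum_univ_two, val_mul_add]

theorem detOne_ofMat [Fact (1 < p)] {A : Matrix (Fin 2) (Fin 2) (ZMod p)} (h : A.det = 1) :
    DetOne p (ofMat p A) := by
  rw [Matrix.det_fin_two, sub_eq_iff_eq_add'] at h
  have h' := congrArg ZMod.val h
  rw [ZMod.val_mul, ZMod.val_add, ZMod.val_mul, ZMod.val_one, Nat.mod_add_mod] at h'
  exact h'

/-! ### The field with three elements -/

/-- The residues as a list. -/
def raw (p : ℕ) : List El :=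
  ((List.range p).flatMap fun a => (List.range p).flatMap fun b => (List.range p).flatMap fun c =>
    (List.range p).flatMap fun d => [((a, b, c, d), false), ((a, b, c, d), true)]).filter fun x => decide (DetOne p x.1)

theorem mem_raw {p a b c d : ℕ} {t : Bool} (ha : a < p) (hb : b < p) (hc : c < p) (hd : d < p)
    (h : DetOne p (a, b, c, d)) : ((a, b, c, d), t) ∈ raw p := by
  refine List.mem_filter.2 ⟨List.mem_flatMap.2 ⟨a, List.mem_range.2 ha, List.mem_flatMap.2 ⟨b, List.mem_range.2 hb,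
    List.mem_flatMap.2 ⟨c, List.mem_range.2 hc, List.mem_flatMap.2 ⟨d, List.mem_range.2 hd, ?_⟩⟩⟩⟩, by simpa using h⟩
  cases t
  · exact List.mem_cons_self
  · exact List.mem_cons_of_mem _ List.mem_cons_self

theorem three_cent_y : ∀ x ∈ raw 3, mul 3 1 x yy = mul 3 1 yy x →
    x = one ∨ x = zz 3 ∨ x = yy ∨ x = mul 3 1 (zz 3) yy := by decide +kernel

/-! ### The field with five elements -/

/-- An element of order three centralised by the outer involution. -/
def m₀ : El := ((2, 4, 2, 2), false)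

/-- An element of order five. -/
def c₀ : El := ((1, 1, 0, 1), false)

/-- The twelve elements commuting with the outer involution. -/
def twelve : List (El) :=
  [one, (zz 5), yy, mul 5 3 (zz 5) yy, m₀, mul 5 3 (zz 5) m₀, mul 5 3 m₀ yy, mul 5 3 (mul 5 3 (zz 5) m₀) yy, mul 5 3 m₀ m₀,
    mul 5 3 (zz 5) (mul 5 3 m₀ m₀), mul 5 3 (mul 5 3 m₀ m₀) yy, mul 5 3 (mul 5 3 (zz 5) (mul 5 3 m₀ m₀)) yy]

/-- The model as a list. -/
def all : List (El) :=
  [((0, 1, 4, 0), false), ((0, 1, 4, 0), true), ((0, 1, 4, 1), false), ((0, 1, 4, 1), true), ((0, 1, 4, 2), false),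
    ((0, 1, 4, 2), true), ((0, 1, 4, 3), false), ((0, 1, 4, 3), true), ((0, 1, 4, 4), false), ((0, 1, 4, 4), true),
    ((0, 2, 2, 0), false), ((0, 2, 2, 0), true), ((0, 2, 2, 1), false), ((0, 2, 2, 1), true), ((0, 2, 2, 2), false),
    ((0, 2, 2, 2), true), ((0, 2, 2, 3), false), ((0, 2, 2, 3), true), ((0, 2, 2, 4), false), ((0, 2, 2, 4), true),
    ((0, 3, 3, 0), false), ((0, 3, 3, 0), true), ((0, 3, 3, 1), false), ((0, 3, 3, 1), true), ((0, 3, 3, 2), false),
    ((0, 3, 3, 2), true), ((0, 3, 3, 3), false), ((0, 3, 3, 3), true), ((0, 3, 3, 4), false), ((0, 3, 3, 4), true),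
    ((0, 4, 1, 0), false), ((0, 4, 1, 0), true), ((0, 4, 1, 1), false), ((0, 4, 1, 1), true), ((0, 4, 1, 2), false),
    ((0, 4, 1, 2), true), ((0, 4, 1, 3), false), ((0, 4, 1, 3), true), ((0, 4, 1, 4), false), ((0, 4, 1, 4), true),
    ((1, 0, 0, 1), false), ((1, 0, 0, 1), true), ((1, 0, 1, 1), false), ((1, 0, 1, 1), true), ((1, 0, 2, 1), false),
    ((1, 0, 2, 1), true), ((1, 0, 3, 1), false), ((1, 0, 3, 1), true), ((1, 0, 4, 1), false), ((1, 0, 4, 1), true),
    ((1, 1, 0, 1), false), ((1, 1, 0, 1), true), ((1, 1, 1, 2), false), ((1, 1, 1, 2), true), ((1, 1, 2, 3), false),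
    ((1, 1, 2, 3), true), ((1, 1, 3, 4), false), ((1, 1, 3, 4), true), ((1, 1, 4, 0), false), ((1, 1, 4, 0), true),
    ((1, 2, 0, 1), false), ((1, 2, 0, 1), true), ((1, 2, 1, 3), false), ((1, 2, 1, 3), true), ((1, 2, 2, 0), false),
    ((1, 2, 2, 0), true), ((1, 2, 3, 2), false), ((1, 2, 3, 2), true), ((1, 2, 4, 4), false), ((1, 2, 4, 4), true),
    ((1, 3, 0, 1), false), ((1, 3, 0, 1), true), ((1, 3, 1, 4), false), ((1, 3, 1, 4), true), ((1, 3, 2, 2), false),
    ((1, 3, 2, 2), true), ((1, 3, 3, 0), false), ((1, 3, 3, 0), true), ((1, 3, 4, 3), false), ((1, 3, 4, 3), true),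
    ((1, 4, 0, 1), false), ((1, 4, 0, 1), true), ((1, 4, 1, 0), false), ((1, 4, 1, 0), true), ((1, 4, 2, 4), false),
    ((1, 4, 2, 4), true), ((1, 4, 3, 3), false), ((1, 4, 3, 3), true), ((1, 4, 4, 2), false), ((1, 4, 4, 2), true),
    ((2, 0, 0, 3), false), ((2, 0, 0, 3), true), ((2, 0, 1, 3), false), ((2, 0, 1, 3), true), ((2, 0, 2, 3), false),
    ((2, 0, 2, 3), true), ((2, 0, 3, 3), false), ((2, 0, 3, 3), true), ((2, 0, 4, 3), false), ((2, 0, 4, 3), true),
    ((2, 1, 0, 3), false), ((2, 1, 0, 3), true), ((2, 1, 1, 1), false), ((2, 1, 1, 1), true), ((2, 1, 2, 4), false),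
    ((2, 1, 2, 4), true), ((2, 1, 3, 2), false), ((2, 1, 3, 2), true), ((2, 1, 4, 0), false), ((2, 1, 4, 0), true),
    ((2, 2, 0, 3), false), ((2, 2, 0, 3), true), ((2, 2, 1, 4), false), ((2, 2, 1, 4), true), ((2, 2, 2, 0), false),
    ((2, 2, 2, 0), true), ((2, 2, 3, 1), false), ((2, 2, 3, 1), true), ((2, 2, 4, 2), false), ((2, 2, 4, 2), true),
    ((2, 3, 0, 3), false), ((2, 3, 0, 3), true), ((2, 3, 1, 2), false), ((2, 3, 1, 2), true), ((2, 3, 2, 1), false),
    ((2, 3, 2, 1), true), ((2, 3, 3, 0), false), ((2, 3, 3, 0), true), ((2, 3, 4, 4), false), ((2, 3, 4, 4), true),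
    ((2, 4, 0, 3), false), ((2, 4, 0, 3), true), ((2, 4, 1, 0), false), ((2, 4, 1, 0), true), ((2, 4, 2, 2), false),
    ((2, 4, 2, 2), true), ((2, 4, 3, 4), false), ((2, 4, 3, 4), true), ((2, 4, 4, 1), false), ((2, 4, 4, 1), true),
    ((3, 0, 0, 2), false), ((3, 0, 0, 2), true), ((3, 0, 1, 2), false), ((3, 0, 1, 2), true), ((3, 0, 2, 2), false),
    ((3, 0, 2, 2), true), ((3, 0, 3, 2), false), ((3, 0, 3, 2), true), ((3, 0, 4, 2), false), ((3, 0, 4, 2), true),
    ((3, 1, 0, 2), false), ((3, 1, 0, 2), true), ((3, 1, 1, 4), false), ((3, 1, 1, 4), true), ((3, 1, 2, 1), false),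
    ((3, 1, 2, 1), true), ((3, 1, 3, 3), false), ((3, 1, 3, 3), true), ((3, 1, 4, 0), false), ((3, 1, 4, 0), true),
    ((3, 2, 0, 2), false), ((3, 2, 0, 2), true), ((3, 2, 1, 1), false), ((3, 2, 1, 1), true), ((3, 2, 2, 0), false),
    ((3, 2, 2, 0), true), ((3, 2, 3, 4), false), ((3, 2, 3, 4), true), ((3, 2, 4, 3), false), ((3, 2, 4, 3), true),
    ((3, 3, 0, 2), false), ((3, 3, 0, 2), true), ((3, 3, 1, 3), false), ((3, 3, 1, 3), true), ((3, 3, 2, 4), false),
    ((3, 3, 2, 4), true), ((3, 3, 3, 0), false), ((3, 3, 3, 0), true), ((3, 3, 4, 1), false), ((3, 3, 4, 1), true),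
    ((3, 4, 0, 2), false), ((3, 4, 0, 2), true), ((3, 4, 1, 0), false), ((3, 4, 1, 0), true), ((3, 4, 2, 3), false),
    ((3, 4, 2, 3), true), ((3, 4, 3, 1), false), ((3, 4, 3, 1), true), ((3, 4, 4, 4), false), ((3, 4, 4, 4), true),
    ((4, 0, 0, 4), false), ((4, 0, 0, 4), true), ((4, 0, 1, 4), false), ((4, 0, 1, 4), true), ((4, 0, 2, 4), false),
    ((4, 0, 2, 4), true), ((4, 0, 3, 4), false), ((4, 0, 3, 4), true), ((4, 0, 4, 4), false), ((4, 0, 4, 4), true),
    ((4, 1, 0, 4), false), ((4, 1, 0, 4), true), ((4, 1, 1, 3), false), ((4, 1, 1, 3), true), ((4, 1, 2, 2), false),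
    ((4, 1, 2, 2), true), ((4, 1, 3, 1), false), ((4, 1, 3, 1), true), ((4, 1, 4, 0), false), ((4, 1, 4, 0), true),
    ((4, 2, 0, 4), false), ((4, 2, 0, 4), true), ((4, 2, 1, 2), false), ((4, 2, 1, 2), true), ((4, 2, 2, 0), false),
    ((4, 2, 2, 0), true), ((4, 2, 3, 3), false), ((4, 2, 3, 3), true), ((4, 2, 4, 1), false), ((4, 2, 4, 1), true),
    ((4, 3, 0, 4), false), ((4, 3, 0, 4), true), ((4, 3, 1, 1), false), ((4, 3, 1, 1), true), ((4, 3, 2, 3), false),
    ((4, 3, 2, 3), true), ((4, 3, 3, 0), false), ((4, 3, 3, 0), true), ((4, 3, 4, 2), false), ((4, 3, 4, 2), true),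
    ((4, 4, 0, 4), false), ((4, 4, 0, 4), true), ((4, 4, 1, 0), false), ((4, 4, 1, 0), true), ((4, 4, 2, 1), false),
    ((4, 4, 2, 1), true), ((4, 4, 3, 2), false), ((4, 4, 3, 2), true), ((4, 4, 4, 3), false), ((4, 4, 4, 3), true)]

theorem all_eq : all = raw 5 := by decide +kernel

theorem m₀_order : DetOne 5 m₀.1 ∧ m₀ ≠ one ∧ pw 5 3 m₀ 3 = one ∧ mul 5 3 m₀ yy = mul 5 3 yy m₀ := by decide +kernel

theorem cent_y : ∀ x ∈ all, mul 5 3 x yy = mul 5 3 yy x → x ∈ twelve := by decide +kernel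

theorem cent_m : ∀ x ∈ all, mul 5 3 x m₀ = mul 5 3 m₀ x → x ∈ twelve := by decide +kernel

theorem twelve_comm : ∀ x ∈ twelve, mul 5 3 x m₀ = mul 5 3 m₀ x ∧ mul 5 3 x yy = mul 5 3 yy x := by decide +kernel

theorem conj_m : ∀ x ∈ all, pw 5 3 x 3 = one → x = one ∨ ∃ g ∈ all, mul 5 3 g m₀ = mul 5 3 x g := by decide +kernel

theorem c₀_order : DetOne 5 c₀.1 ∧ c₀ ≠ one ∧ pw 5 3 c₀ 5 = one := by decide +kernel

theorem conj_c : ∀ x ∈ all, pw 5 3 x 5 = one → x = one ∨ ∃ g ∈ all, mul 5 3 g c₀ = mul 5 3 x g := by decide +kernel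

theorem cent_c : ∀ x ∈ all, mul 5 3 x c₀ = mul 5 3 c₀ x →
    pw 5 3 x 10 = one ∧ (pw 5 3 x 5 = one ∨ pw 5 3 x 5 = (zz 5)) ∧ (pw 5 3 x 6 = one ∨ pw 5 3 x 6 = c₀ ∨
      pw 5 3 x 6 = pw 5 3 c₀ 2 ∨ pw 5 3 x 6 = pw 5 3 c₀ 3 ∨ pw 5 3 x 6 = pw 5 3 c₀ 4) := by decide +kernel

theorem exists_eight : ∃ g ∈ all, mul 5 3 g c₀ = mul 5 3 (pw 5 3 c₀ 2) g ∧ pw 5 3 g 4 = (zz 5) := by decide +kernel

theorem invol_outer : ∀ x ∈ all, mul 5 3 x x = one → x = one ∨ x = (zz 5) ∨ x.2 = true := by decide +kernel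

theorem odd_orders : ∀ x ∈ all, pw 5 3 x 15 = one → pw 5 3 x 3 = one ∨ pw 5 3 x 5 = one := by decide +kernel

/-- The involutions. -/
def invols : List (El) := all.filter fun x => x != one && mul 5 3 x x == one

/-- Pairs of involutions whose product has the central involution among its powers. -/
theorem pair_count :
    ((invols.product invols).filter fun uv => (List.range 12).any fun k => pw 5 3 (mul 5 3 uv.1 uv.2) k == (zz 5)).length =
      260 := by decide +kernel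

theorem order_dvd : ∀ x ∈ all, pw 5 3 x 8 = one ∨ pw 5 3 x 10 = one ∨ pw 5 3 x 6 = one := by decide +kernel

theorem invert_count : (invols.filter fun u => mul 5 3 (mul 5 3 u m₀) u == mul 5 3 m₀ m₀).length = 6 := by decide +kernel

theorem invols_count : invols.length = 21 := by decide +kernel

theorem all_count : all.length = 240 := by decide +kernel

end CfsgLib.Homogeneous.SD.Model
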