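import Cfsg.Agent.Lib.Homogeneous.SD.Core
import Cfsg.Agent.Lib.Homogeneous.SD.Model

/-!
The quotient of the involution centraliser in coordinates.
-/

set_option autoImplicit false
set_option linter.unusedSectionVars false
set_option linter.style.haveILetI false

namespace CfsgLib.Homogeneous.SD

open Cfsg Subgroup
open scoped commutatorElement MatrixGroups

universe u

theorem exists_sigma {F : Type} [Field F] [Fintype F] {p : ℕ} [Fact p.Prime] (h : Fintype.card F = p) :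
    Nonempty (F ≃+* ZMod p) := by
  exact ⟨(ZMod.ringEquivOfPrime F (Fact.out : p.Prime) h).symm⟩

theorem three_scale : ∀ d : ZMod 3, (∀ r : ZMod 3, r * r ≠ d) → ∃ r : ZMod 3, r ≠ 0 ∧ r * r * (-d) = 1 := by decide

theorem five_scale : ∀ d : ZMod 5, (∀ r : ZMod 5, r * r ≠ d) → ∃ r : ZMod 5, r ≠ 0 ∧ r * r * (-d) = 2 := by decide

/-- Normal form of a trace-zero matrix. -/
theorem exists_normal_form {F : Type*} [Field F] (h2 : (2 : F) ≠ 0) {g : Matrix (Fin 2) (Fin 2) F}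
    (htr : g 1 1 = -g 0 0) (hns : ¬ IsSquare g.det) {r s : F} (hr : r ≠ 0) (hs : r * r * (-g.det) = s) :
    ∃ h : GL (Fin 2) F, (r • g) * h.1 = h.1 * !![0, s; 1, 0] := by
  rw [Matrix.det_fin_two, htr] at hns hs
  set a := g 0 0
  set b := g 0 1
  set c := g 1 0
  obtain ⟨v0, v1, hdet⟩ : ∃ v0 v1 : F, v0 * (c * v0 + -a * v1) - v1 * (a * v0 + b * v1) ≠ 0 := by
    by_cases hc : c = 0
    · by_cases hb : b = 0
      · refine ⟨1, 1, ?_⟩
        rw [hb, hc]
        intro h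
        have ha : a = 0 := (mul_eq_zero.1 (show (2 : F) * a = 0 by linear_combination (-1 : F) * h)).resolve_left h2
        exact hns ⟨0, by rw [ha, hb, hc]; ring⟩
      · exact ⟨0, 1, by simp [hb]⟩
    · exact ⟨1, 0, by simp [hc]⟩
  let hM : Matrix (Fin 2) (Fin 2) F := !![v0, r * (a * v0 + b * v1); v1, r * (c * v0 + -a * v1)]
  have hMd : hM.det ≠ 0 := by
    simp only [hM, Matrix.det_fin_two_of]
    intro h
    refine hdet ((mul_eq_zero.1 (show r * (v0 * (c * v0 + -a * v1) - v1 * (a * v0 + b * v1)) = 0 by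
      linear_combination h)).resolve_left hr)
  refine ⟨Matrix.GeneralLinearGroup.mkOfDetNeZero hM hMd, ?_⟩
  show (r • g) * hM = hM * !![0, s; 1, 0]
  rw [Matrix.eta_fin_two g, htr]
  ext i j
  fin_cases i <;> fin_cases j <;> simp [hM, Matrix.mul_apply, Fin.sum_univ_two, ← hs, a, b, c] <;> ring

/-- The coordinates of a conjugate by the normal form. -/
theorem ofMat_tw {p : ℕ} [Fact p.Prime] {h : ℕ} (hh : (h : ZMod p) * ((h : ZMod p) ^ 3) = 1)
    {X A : Matrix (Fin 2) (Fin 2) (ZMod p)}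
    (hXA : X * !![0, (h : ZMod p) ^ 3; 1, 0] = !![0, (h : ZMod p) ^ 3; 1, 0] * A) :
    Model.ofMat p X = Model.tw p h (Model.ofMat p A) := by
  haveI : NeZero p := ⟨(Fact.out : p.Prime).ne_zero⟩
  have h00 := congrFun (congrFun hXA 0) 0
  have h01 := congrFun (congrFun hXA 0) 1
  have h10 := congrFun (congrFun hXA 1) 0
  have h11 := congrFun (congrFun hXA 1) 1
  simp [Matrix.mul_apply, Fin.sum_univ_two] at h00 h01 h10 h11
  have hs0 : (h : ZMod p) ^ 3 ≠ 0 := fun e => by rw [e, mul_zero] at hh; exact zero_ne_one hh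
  have e00 : X 0 0 = A 1 1 := mul_right_cancel₀ hs0 (h01.trans (mul_comm _ _))
  have e10 : X 1 0 = (h : ZMod p) * A 0 1 := by
    refine mul_right_cancel₀ hs0 (h11.trans ?_)
    linear_combination (-(A 0 1)) * hh
  simp only [Model.ofMat, Model.tw, e00, e10, h00, h10, Prod.mk.injEq, true_and, and_true]
  refine ⟨?_, ?_⟩
  · rw [pow_succ, pow_two, ← Nat.cast_mul, ← Nat.cast_mul, ZMod.val_mul, ZMod.val_natCast, Nat.mod_mul_mod]
  · rw [ZMod.val_mul, ZMod.val_natCast, Nat.mod_mul_mod]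

variable {G : Type u} [Group G] [Finite G]

namespace Ctx

variable (c : Ctx G)

theorem ybar_sq : c.ybar * c.ybar = 1 := by rw [ybar, ← map_mul, ← map_mul, CfsgLib.QD.hyy, map_one, map_one]

/-- Coordinates in the model. -/
structure Coord (p h : ℕ) where
  μ : ↥c.Cz ⧸ oddCore ↥c.Cz → Model.El
  inj : Function.Injective μ
  map_mul : ∀ x y, μ (x * y) = Model.mul p h (μ x) (μ y)
  map_one : μ 1 = Model.one
  map_y : μ c.ybar = Model.yy
  map_z : μ (c.π c.zC) = Model.zz p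
  mem : ∀ x, μ x ∈ Model.raw p
  surj : ∀ m ∈ Model.raw p, ∃ x, μ x = m
  mem_L : ∀ x, x ∈ c.L ↔ (μ x).2 = false

variable {F : Type} [Field F] [Fintype F] (e : ↥c.L ≃* Matrix.SpecialLinearGroup (Fin 2) F)
include e

theorem exists_std {p : ℕ} [Fact p.Prime] (hp : Fintype.card F = p) (hp2 : p ≠ 2) (s : ZMod p)
    (hsc : ∀ d : ZMod p, (∀ r : ZMod p, r * r ≠ d) → ∃ r : ZMod p, r ≠ 0 ∧ r * r * (-d) = s) :
    ∃ e' : ↥c.L ≃* Matrix.SpecialLinearGroup (Fin 2) (ZMod p), ∀ l : ↥c.L,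
      (e' (MulAut.conjNormal c.ybar l)).1 * !![0, s; 1, 0] = !![0, s; 1, 0] * (e' l).1 := by
  classical
  obtain ⟨σ⟩ := exists_sigma hp
  let ms : Matrix.SpecialLinearGroup (Fin 2) F ≃* Matrix.SpecialLinearGroup (Fin 2) (ZMod p) :=
    { toFun := Matrix.SpecialLinearGroup.map σ.toRingHom
      invFun := Matrix.SpecialLinearGroup.map σ.symm.toRingHom
      left_inv := fun A => Subtype.ext (by ext i j; simp)
      right_inv := fun A => Subtype.ext (by ext i j; simp)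
      map_mul' := fun A B => _root_.map_mul _ A B }
  let e2 := e.trans ms
  have hF : Odd (Fintype.card (ZMod p)) := by
    rw [ZMod.card]; exact (Fact.out : p.Prime).odd_of_ne_two hp2
  have h2 : (2 : ZMod p) ≠ 0 := CfsgLib.SL2Orders.two_ne_zero_of_odd hF
  obtain ⟨g, hg⟩ := c.exists_gl e2 hF c.ybar
  have hns : ¬ IsSquare g.1.det := fun h => c.ybar_not_mem e2 hF (c.mem_L_of_square e2 hF _ g hg h)
  have hsq : ∀ A : Matrix.SpecialLinearGroup (Fin 2) (ZMod p), A.1 * (g.1 * g.1) = g.1 * g.1 * A.1 := by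
    intro A
    have h1 := hg (MulAut.conjNormal c.ybar (e2.symm A))
    rw [← MulAut.mul_apply, ← _root_.map_mul, c.ybar_sq, _root_.map_one, MulAut.one_apply, e2.apply_symm_apply] at h1
    have h3 := hg (e2.symm A)
    rw [e2.apply_symm_apply] at h3
    rw [← Matrix.mul_assoc, h1, Matrix.mul_assoc, h3, Matrix.mul_assoc]
  have hu := hsq (CfsgLib.PSL2.uSL 1)
  have hv := hsq (CfsgLib.PSL2.vSL 1)
  rw [CfsgLib.PSL2.coe_uSL] at hu
  rw [CfsgLib.PSL2.coe_vSL] at hv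
  have u00 := congrFun (congrFun hu 0) 0
  have u01 := congrFun (congrFun hu 0) 1
  have v00 := congrFun (congrFun hv 0) 0
  simp [Matrix.mul_apply, Fin.sum_univ_two] at u00 u01 v00
  have htr : g.1 1 1 = -g.1 0 0 := by
    by_contra hne
    have ht : g.1 0 0 + g.1 1 1 ≠ 0 := fun e0 => hne (eq_neg_of_add_eq_zero_right e0)
    have hc0 : g.1 1 0 = 0 := (mul_eq_zero.1 (show (g.1 0 0 + g.1 1 1) * g.1 1 0 = 0 by
      linear_combination u00)).resolve_left ht
    have hb0 : g.1 0 1 = 0 := (mul_eq_zero.1 (show (g.1 0 0 + g.1 1 1) * g.1 0 1 = 0 by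
      linear_combination v00)).resolve_left ht
    have had : g.1 0 0 = g.1 1 1 := sub_eq_zero.1 ((mul_eq_zero.1 (show (g.1 0 0 + g.1 1 1) * (g.1 0 0 - g.1 1 1) = 0 by
      linear_combination (-1 : ZMod p) * u01)).resolve_left ht)
    exact hns ⟨g.1 0 0, by rw [Matrix.det_fin_two, hb0, hc0, ← had]; ring⟩
  obtain ⟨r, hr, hrs⟩ := hsc g.1.det fun r hr => hns ⟨r, hr.symm⟩
  obtain ⟨h, hh⟩ := exists_normal_form h2 htr hns hr hrs
  refine ⟨e2.trans (CfsgLib.PSL2.conjSL h⁻¹), fun l => ?_⟩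
  show (h⁻¹).1 * (e2 (MulAut.conjNormal c.ybar l)).1 * (h⁻¹⁻¹).1 * !![0, s; 1, 0] =
    !![0, s; 1, 0] * ((h⁻¹).1 * (e2 l).1 * (h⁻¹⁻¹).1)
  rw [inv_inv]
  have hW : (h⁻¹).1 * (r • g.1) = !![0, s; 1, 0] * (h⁻¹).1 := by
    calc (h⁻¹).1 * (r • g.1) = (h⁻¹).1 * ((r • g.1) * h.1) * (h⁻¹).1 := by
          simp only [Matrix.mul_assoc]
          rw [← Units.val_mul, mul_inv_cancel, Units.val_one, Matrix.mul_one]
      _ = _ := by rw [hh, ← Matrix.mul_assoc (h⁻¹).1, ← Units.val_mul, inv_mul_cancel, Units.val_one, Matrix.one_mul]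
  calc (h⁻¹).1 * (e2 (MulAut.conjNormal c.ybar l)).1 * h.1 * !![0, s; 1, 0]
      = (h⁻¹).1 * (e2 (MulAut.conjNormal c.ybar l)).1 * ((r • g.1) * h.1) := by rw [hh, Matrix.mul_assoc]
    _ = (h⁻¹).1 * ((e2 (MulAut.conjNormal c.ybar l)).1 * (r • g.1)) * h.1 := by simp only [Matrix.mul_assoc]
    _ = (h⁻¹).1 * ((r • g.1) * (e2 l).1) * h.1 := by rw [Matrix.mul_smul, hg l, Matrix.smul_mul]
    _ = ((h⁻¹).1 * (r • g.1)) * ((e2 l).1 * h.1) := by simp only [Matrix.mul_assoc]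
    _ = _ := by rw [hW]; simp only [Matrix.mul_assoc]

theorem exists_coord {p h : ℕ} [Fact p.Prime] (hp : Fintype.card F = p) (hp2 : p ≠ 2)
    (hh : (h : ZMod p) * ((h : ZMod p) ^ 3) = 1)
    (hsc : ∀ d : ZMod p, (∀ r : ZMod p, r * r ≠ d) → ∃ r : ZMod p, r ≠ 0 ∧ r * r * (-d) = (h : ZMod p) ^ 3) :
    Nonempty (c.Coord p h) := by
  classical
  haveI : NeZero p := ⟨(Fact.out : p.Prime).ne_zero⟩
  haveI : Fact (1 < p) := ⟨(Fact.out : p.Prime).one_lt⟩
  obtain ⟨e', he'⟩ := c.exists_std e hp hp2 _ hsc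
  have hF : Odd (Fintype.card (ZMod p)) := by rw [ZMod.card]; exact (Fact.out : p.Prime).odd_of_ne_two hp2
  have hy : c.ybar ∉ c.L := c.ybar_not_mem e' hF
  have hcases := c.cases_quot e' hF
  let mk : ↥c.L → Bool → ↥c.Cz ⧸ oddCore ↥c.Cz := fun l b => if b then (l : ↥c.Cz ⧸ oddCore ↥c.Cz) * c.ybar else l
  let μ : ↥c.Cz ⧸ oddCore ↥c.Cz → Model.El := fun x =>
    if hx : x ∈ c.L then (Model.ofMat p (e' ⟨x, hx⟩).1, false)
    else (Model.ofMat p (e' ⟨x * c.ybar, (hcases x).resolve_left hx⟩).1, true)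
  have hmk : ∀ l b, μ (mk l b) = (Model.ofMat p (e' l).1, b) := by
    intro l b
    cases b
    · simp [μ, mk]
    · have hn : (l : ↥c.Cz ⧸ oddCore ↥c.Cz) * c.ybar ∉ c.L := fun h1 => hy ((mul_mem_cancel_left l.2).1 h1)
      simp only [μ, mk, if_true, dif_neg hn]
      congr 4
      exact Subtype.ext (by rw [Subtype.coe_mk, mul_assoc, c.ybar_sq, mul_one])
  have hall : ∀ x, ∃ l b, x = mk l b := fun x => by
    rcases hcases x with hx | hx
    · exact ⟨⟨x, hx⟩, false, by simp [mk]⟩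
    · exact ⟨⟨_, hx⟩, true, by simp only [mk, if_true]; rw [mul_assoc, c.ybar_sq, mul_one]⟩
  obtain ⟨hzL, hze⟩ := c.exists_π_z e' hF
  refine ⟨⟨μ, ?_, ?_, ?_, ?_, ?_, ?_, ?_, ?_⟩⟩
  · intro x y hxy
    obtain ⟨l, b, rfl⟩ := hall x
    obtain ⟨l', b', rfl⟩ := hall y
    rw [hmk, hmk, Prod.mk.injEq] at hxy
    obtain ⟨h1, rfl⟩ := hxy
    rw [e'.injective (Subtype.ext (Model.ofMat_injective h1))]
  · intro x y
    obtain ⟨l, b, rfl⟩ := hall x
    obtain ⟨l', b', rfl⟩ := hall y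
    let l2 : ↥c.L := if b then MulAut.conjNormal c.ybar l' else l'
    have hyi : c.ybar⁻¹ = c.ybar := inv_eq_of_mul_eq_one_right c.ybar_sq
    have hprod : mk l b * mk l' b' = mk (l * l2) (xor b b') := by
      cases b <;> cases b' <;>
        simp only [mk, l2, Bool.false_eq_true, if_true, if_false, Bool.xor_false, Bool.false_xor, Bool.true_xor,
          Bool.not_true, Bool.not_false, Subgroup.coe_mul, MulAut.conjNormal_apply, hyi, mul_assoc, c.ybar_sq, mul_one]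
    rw [hprod, hmk, hmk, hmk, Model.mul, _root_.map_mul, Matrix.SpecialLinearGroup.coe_mul, Model.ofMat_mul]
    cases b
    · simp [l2]
    · simp only [l2, if_true]
      rw [ofMat_tw hh (he' l')]
  · have := hmk 1 false
    simp only [mk, Bool.false_eq_true, if_false, OneMemClass.coe_one, _root_.map_one] at this
    rw [this]
    simp [Model.ofMat, Model.one, ZMod.val_one, Matrix.one_apply]
  · have := hmk 1 true
    simp only [mk, if_true, OneMemClass.coe_one, one_mul, _root_.map_one] at this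
    rw [this]
    simp [Model.ofMat, Model.yy, ZMod.val_one, Matrix.one_apply]
  · have := hmk ⟨_, hzL⟩ false
    simp only [mk, Bool.false_eq_true, if_false, hze] at this
    rw [this]
    simp [Model.ofMat, Model.zz, ZMod.neg_val, ZMod.val_one]
  · intro x
    obtain ⟨l, b, rfl⟩ := hall x
    rw [hmk]
    exact Model.mem_raw (ZMod.val_lt _) (ZMod.val_lt _) (ZMod.val_lt _) (ZMod.val_lt _)
      (Model.detOne_ofMat (e' l).2)
  · intro m hm
    obtain ⟨⟨a, b, c', d⟩, t⟩ := m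
    obtain ⟨hmem, hdet⟩ := List.mem_filter.1 hm
    simp only [List.mem_flatMap, List.mem_range, List.mem_cons, List.not_mem_nil, or_false, Prod.mk.injEq] at hmem
    obtain ⟨a', ha, b', hb, c'', hc, d', hd, hmem⟩ := hmem
    have hlt : a < p ∧ b < p ∧ c' < p ∧ d < p := by
      rcases hmem with ⟨⟨rfl, rfl, rfl, rfl⟩, -⟩ | ⟨⟨rfl, rfl, rfl, rfl⟩, -⟩ <;> exact ⟨ha, hb, hc, hd⟩
    have hdet' : (a * d) % p = (b * c' + 1) % p := of_decide_eq_true hdet
    let A : Matrix.SpecialLinearGroup (Fin 2) (ZMod p) := ⟨!![(a : ZMod p), b; c', d], by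
      rw [Matrix.det_fin_two_of, sub_eq_iff_eq_add', ← Nat.cast_mul, ← Nat.cast_mul, ← Nat.cast_one,
        ← Nat.cast_add, ZMod.natCast_eq_natCast_iff']
      exact hdet'⟩
    refine ⟨mk (e'.symm A) t, ?_⟩
    rw [hmk, e'.apply_symm_apply]
    simp [A, Model.ofMat, ZMod.val_natCast, Nat.mod_eq_of_lt hlt.1, Nat.mod_eq_of_lt hlt.2.1,
      Nat.mod_eq_of_lt hlt.2.2.1, Nat.mod_eq_of_lt hlt.2.2.2]
  · intro x
    refine ⟨fun hx => by simp [μ, hx], fun hx => ?_⟩
    by_contra hxL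
    simp [μ, hxL] at hx

end Ctx

end CfsgLib.Homogeneous.SD
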