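import Cfsg.Agent.Lib.Homogeneous.SD.Setup
import Cfsg.Agent.Lib.A8Classes.Cores

/-!
Odd `p`-subgroups of the centraliser of the central involution: 2-elements fixing a central element of order `p`
centralise; the field of nine elements is impossible.
-/

set_option autoImplicit false
set_option linter.unusedSectionVars false
set_option linter.style.haveILetI false

namespace CfsgLib.Homogeneous.SD

open Cfsg Subgroup
open scoped commutatorElement MatrixGroups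

universe u

variable {G : Type u} [Group G] [Finite G]

theorem three_sq : ∀ b : ZMod 3, b ≠ 0 → b * b = 1 := by decide

theorem mem_normalizer_map {H : Subgroup G} (R : Subgroup H) {g : H} (hg : g ∈ normalizer (R : Set H)) :
    (g : G) ∈ normalizer (R.map H.subtype : Set G) :=
  mem_normalizer_of_conj (by
    rintro _ ⟨x, hx, rfl⟩
    exact ⟨g * x * g⁻¹, (mem_normalizer_iff.1 hg x).1 hx, rfl⟩)

namespace Ctx

variable (c : Ctx G) {p : ℕ} [Fact p.Prime]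

theorem z_mem_centralizer (R : Subgroup ↥c.Cz) : c.z ∈ centralizer (R.map c.Cz.subtype : Set G) :=
  mem_centralizer_iff.2 (by rintro _ ⟨x, -, rfl⟩; exact mem_centralizer_singleton_iff.1 x.2)

/-- Scalar action on central elements of prime order. -/
theorem scalarC (hp2 : p ≠ 2) {R : Subgroup ↥c.Cz} {g : ↥c.Cz} (hg : g ∈ normalizer (R : Set ↥c.Cz)) :
    ∃ k : ℕ, ∀ z₀ ∈ omegaZ p R, g * z₀ * g⁻¹ = z₀ ^ k := by
  set E := (omegaZ p R).map c.Cz.subtype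
  haveI : IsMulCommutative ↥E := ⟨⟨by
    rintro ⟨_, x, hx, rfl⟩ ⟨_, y, hy, rfl⟩
    exact Subtype.ext (show (x : G) * y = y * x from congrArg Subtype.val (hx.2.1 y hy.1))⟩⟩
  obtain ⟨k, hk⟩ := scalar_of_cent c.hom c.S c.hQD hp2 (E := E)
    (by rintro _ ⟨x, hx, rfl⟩; rw [← map_pow, hx.2.2, map_one])
    c.orderOf_z (c.z_mem_centralizer _) (mem_normalizer_map _ (normalizer_le_omegaZ R hg))
  exact ⟨k, fun z₀ hz => Subtype.ext (by rw [SubmonoidClass.coe_pow]; exact hk _ ⟨z₀, hz, rfl⟩)⟩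

/-- A 2-element fixing a central element of order `p` centralises. -/
theorem two_fixesC (hp2 : p ≠ 2) {R : Subgroup ↥c.Cz} (hR : IsPGroup p R) {z₀ : ↥c.Cz} (hz : z₀ ∈ omegaZ p R)
    (hz1 : z₀ ≠ 1) : ∀ (j : ℕ) (g : ↥c.Cz), g ^ 2 ^ j = 1 → g ∈ normalizer (R : Set ↥c.Cz) →
      g * z₀ * g⁻¹ = z₀ → ∀ x ∈ R, g * x * g⁻¹ = x := by
  intro j
  induction j with
  | zero => intro g hg _ _ x _; rw [pow_zero, pow_one] at hg; simp [hg]
  | succ j ih =>
    intro g hg hgN hfix x hx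
    have h2 := ih (g * g) (by rw [← pow_two, ← pow_mul, ← pow_succ', hg]) (mul_mem hgN hgN)
      (by rw [show g * g * z₀ * (g * g)⁻¹ = g * (g * z₀ * g⁻¹) * g⁻¹ by group, hfix, hfix])
    refine Subtype.ext (fixes_of_sq c.hom c.S c.hQD hp2 (hR.map c.Cz.subtype) c.orderOf_z (c.z_mem_centralizer _)
      (mem_normalizer_map _ hgN) ?_ (z₀ := (z₀ : G)) ⟨z₀, hz.1, rfl⟩ (fun e => hz1 (Subtype.ext e))
      (by rw [← SubmonoidClass.coe_pow, hz.2.2]; rfl)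
      (by rintro _ ⟨y, hy, rfl⟩; exact congrArg Subtype.val (hz.2.1 y hy))
      (congrArg Subtype.val hfix) _ ⟨x, hx, rfl⟩)
    rintro _ ⟨y, hy, rfl⟩
    have h3 := h2 y hy
    rw [show g * g * y * (g * g)⁻¹ = g * (g * y * g⁻¹) * g⁻¹ by group] at h3
    exact congrArg Subtype.val h3

/-- A 2-element of the normaliser lifting the action of a given element on an abelian subgroup of the quotient. -/
theorem exists_two_lift {U : Subgroup (↥c.Cz ⧸ oddCore ↥c.Cz)} (hU : IsPGroup p U)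
    (hab : ∀ a ∈ U, ∀ b ∈ U, a * b = b * a) {t : ↥c.Cz ⧸ oddCore ↥c.Cz}
    (ht : t ∈ normalizer (U : Set (↥c.Cz ⧸ oddCore ↥c.Cz))) :
    ∃ (R : Subgroup ↥c.Cz) (w : ↥c.Cz) (j k : ℕ), IsPGroup p R ∧ R.map c.π = U ∧ w ∈ normalizer (R : Set ↥c.Cz) ∧
      Odd j ∧ w ^ 2 ^ k = 1 ∧ (∀ u ∈ U, c.π w * u * (c.π w)⁻¹ = t ^ j * u * (t ^ j)⁻¹) ∧
      (p ∣ Nat.card (oddCore ↥c.Cz) → ∃ x ∈ R, x ≠ 1 ∧ x ∈ oddCore ↥c.Cz) ∧
      (∀ L' : Subgroup (↥c.Cz ⧸ oddCore ↥c.Cz), U ≤ L' → t ∈ L' → c.π w ∈ L') := by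
  set PU := U.comap c.π with hPU
  let P : Sylow p ↥PU := default
  set R := (P : Subgroup ↥PU).map PU.subtype with hR
  have hsur : Function.Surjective (c.π.subgroupComap U) := fun u => by
    obtain ⟨x, hx⟩ := c.π_surjective u
    exact ⟨⟨x, show c.π x ∈ U by rw [hx]; exact u.2⟩, Subtype.ext hx⟩
  have hRmap : R.map c.π = U := by
    refine le_antisymm ?_ fun u hu => ?_
    · rintro _ ⟨_, ⟨x, -, rfl⟩, rfl⟩; exact x.2
    · have htop : ((P.mapSurjective hsur : Sylow p ↥U) : Subgroup ↥U) = ⊤ :=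
        (P.mapSurjective hsur).3 (hU.of_equiv (Subgroup.topEquiv (G := ↥U)).symm) le_top |>.symm
      have h1 : (⟨u, hu⟩ : ↥U) ∈ ((P.mapSurjective hsur : Sylow p ↥U) : Subgroup ↥U) := htop ▸ mem_top _
      rw [Sylow.coe_mapSurjective, Subgroup.mem_map] at h1
      obtain ⟨x, hx, hxu⟩ := h1
      exact ⟨x, ⟨x, hx, rfl⟩, congrArg Subtype.val hxu⟩
  obtain ⟨w₁, hw₁⟩ := c.π_surjective t
  have hw₁N : w₁ ∈ normalizer (PU : Set ↥c.Cz) := mem_normalizer_of_conj fun x hx => by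
    show c.π (w₁ * x * w₁⁻¹) ∈ U
    rw [map_mul, map_mul, map_inv, hw₁]
    exact (mem_normalizer_iff.1 ht _).1 hx
  have hle : R.map (MulAut.conj w₁).toMonoidHom ≤ PU := by
    rintro _ ⟨x, hx, rfl⟩
    exact (mem_normalizer_iff.1 hw₁N x).1 (map_subtype_le _ hx)
  have hc : Nat.card ↥((R.map (MulAut.conj w₁).toMonoidHom).subgroupOf PU) = p ^ (Nat.card PU).factorization p := by
    rw [Nat.card_congr (Subgroup.subgroupOfEquivOfLe hle).toEquiv,
      Subgroup.card_map_of_injective (MulAut.conj w₁).injective,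
      Subgroup.card_map_of_injective PU.subtype_injective, P.card_eq_multiplicity]
  obtain ⟨u₀, hu₀⟩ := MulAction.exists_smul_eq ↥PU (Sylow.ofCard _ hc) P
  set w₂ := (u₀ : ↥c.Cz) * w₁ with hw₂
  have hw₂N : w₂ ∈ normalizer (R : Set ↥c.Cz) := mem_normalizer_of_conj fun x hx => by
    have hm : w₁ * x * w₁⁻¹ ∈ PU := hle ⟨x, hx, rfl⟩
    refine ⟨u₀ * ⟨_, hm⟩ * u₀⁻¹, ?_, by simp [hw₂, mul_assoc]⟩
    rw [← hu₀, Sylow.coe_subgroup_smul]
    exact ⟨⟨_, hm⟩, ⟨x, hx, rfl⟩, rfl⟩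
  have hact : ∀ u ∈ U, c.π w₂ * u * (c.π w₂)⁻¹ = t * u * t⁻¹ := fun u hu => by
    have h1 := hab _ u₀.2 _ ((mem_normalizer_iff.1 ht u).1 hu)
    rw [hw₂, map_mul, hw₁]
    calc c.π u₀ * t * u * (c.π u₀ * t)⁻¹ = (c.π u₀ * (t * u * t⁻¹)) * (c.π u₀)⁻¹ := by group
      _ = (t * u * t⁻¹ * c.π u₀) * (c.π u₀)⁻¹ := by rw [h1]
      _ = t * u * t⁻¹ := by group
  have hactn : ∀ n : ℕ, ∀ u ∈ U, c.π (w₂ ^ n) * u * (c.π (w₂ ^ n))⁻¹ = t ^ n * u * (t ^ n)⁻¹ := by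
    intro n
    induction n with
    | zero => intro u _; simp
    | succ n ih =>
      intro u hu
      have hmem := (mem_normalizer_iff.1 (pow_mem ht n) u).1 hu
      calc c.π (w₂ ^ (n + 1)) * u * (c.π (w₂ ^ (n + 1)))⁻¹ =
          c.π w₂ * (c.π (w₂ ^ n) * u * (c.π (w₂ ^ n))⁻¹) * (c.π w₂)⁻¹ := by rw [pow_succ', map_mul]; group
        _ = t * (t ^ n * u * (t ^ n)⁻¹) * t⁻¹ := by rw [ih u hu, hact _ hmem]
        _ = _ := by rw [pow_succ']; group
  obtain ⟨k, j, hj, hord⟩ := Nat.exists_eq_two_pow_mul_odd (orderOf_pos w₂).ne'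
  refine ⟨R, w₂ ^ j, j, k, P.2.map _, hRmap, pow_mem hw₂N j, hj,
    by rw [← pow_mul, mul_comm, ← hord, pow_orderOf_eq_one], hactn j, fun hp => ?_, fun L' hUL htL => ?_⟩
  swap
  · rw [map_pow, hw₂, map_mul, hw₁]
    exact pow_mem (mul_mem (hUL u₀.2) htL) j
  obtain ⟨o, ho⟩ := exists_prime_orderOf_dvd_card' (G := ↥(oddCore ↥c.Cz)) p hp
  have hoPU : (o : ↥c.Cz) ∈ PU := by
    show c.π o ∈ U
    rw [c.π_eq_one.2 o.2]; exact one_mem U
  have hop : IsPGroup p (zpowers (⟨o, hoPU⟩ : ↥PU)) := by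
    refine IsPGroup.of_card (n := 1) ?_
    rw [Nat.card_zpowers, ← Subgroup.orderOf_coe, pow_one]
    exact (Subgroup.orderOf_coe o).trans ho
  obtain ⟨P', hP'⟩ := hop.exists_le_sylow
  obtain ⟨v, hv⟩ := MulAction.exists_smul_eq ↥PU P' P
  refine ⟨v * (o : ↥c.Cz) * (v : ↥c.Cz)⁻¹, ⟨v * ⟨o, hoPU⟩ * v⁻¹, ?_, rfl⟩, fun e => ?_,
    (inferInstance : (oddCore ↥c.Cz).Normal).conj_mem _ o.2 _⟩
  · rw [← hv, Sylow.coe_subgroup_smul]
    exact ⟨_, hP' (mem_zpowers _), rfl⟩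
  · have h1 : o = 1 := Subtype.ext (conj_eq_one_iff.1 e)
    rw [h1, orderOf_one] at ho
    exact (Fact.out : p.Prime).one_lt.ne ho

variable {F : Type} [Field F] [Fintype F] (e : ↥c.L ≃* Matrix.SpecialLinearGroup (Fin 2) F)
include e

/-- The field with nine elements is impossible. -/
theorem card_ne_nine (hF : Odd (Fintype.card F)) : Fintype.card F ≠ 9 := by
  intro h9
  classical
  have h2 : (2 : F) ≠ 0 := CfsgLib.SL2Orders.two_ne_zero_of_odd hF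
  haveI : Fact (Nat.Prime 3) := ⟨Nat.prime_three⟩
  haveI : CharP F 3 := by
    obtain ⟨q, hq⟩ := CharP.exists F
    haveI : Fact q.Prime := ⟨CharP.char_is_prime F q⟩
    obtain ⟨f, -, hf⟩ := FiniteField.card F q
    rw [h9] at hf
    have : q ∣ 3 ^ 2 := by norm_num; rw [hf]; exact dvd_pow_self q f.ne_zero
    obtain rfl := (Nat.prime_dvd_prime_iff_eq (Fact.out : q.Prime) Nat.prime_three).1
      ((Fact.out : q.Prime).dvd_of_dvd_pow this)
    exact hq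
  obtain ⟨a, ha⟩ := IsCyclic.exists_generator (α := Fˣ)
  have hao : orderOf a = 8 := by
    rw [orderOf_eq_card_of_forall_mem_zpowers ha, Nat.card_eq_fintype_card, Fintype.card_units, h9]
  let ι : Matrix.SpecialLinearGroup (Fin 2) F →* ↥c.Cz ⧸ oddCore ↥c.Cz := c.L.subtype.comp e.symm.toMonoidHom
  have hι : Function.Injective ι := c.L.subtype_injective.comp e.symm.injective
  let φ : Multiplicative F →* Matrix.SpecialLinearGroup (Fin 2) F :=
    MonoidHom.mk' (fun s => CfsgLib.PSL2.uSL (Multiplicative.toAdd s)) fun s s' => (uSL_add _ _).symm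
  set U := (ι.comp φ).range with hUdef
  have hU : IsPGroup 3 U := by
    rintro ⟨_, s, rfl⟩
    refine ⟨1, Subtype.ext ?_⟩
    show (ι.comp φ s) ^ 3 ^ 1 = 1
    rw [pow_one, ← map_pow]
    have : s ^ 3 = 1 := Multiplicative.toAdd.injective (by
      rw [toAdd_pow, toAdd_one, nsmul_eq_mul, CharP.cast_eq_zero, zero_mul])
    rw [this, map_one]
  have hab : ∀ x ∈ U, ∀ y ∈ U, x * y = y * x := by
    rintro _ ⟨s, rfl⟩ _ ⟨s', rfl⟩
    rw [← map_mul, ← map_mul, mul_comm]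
  have hd : ∀ (b : Fˣ) (s : F), ι (CfsgLib.PSL2.dSL (b : F) b.ne_zero) * ι (CfsgLib.PSL2.uSL s) *
      (ι (CfsgLib.PSL2.dSL (b : F) b.ne_zero))⁻¹ = ι (CfsgLib.PSL2.uSL ((b : F) * b * s)) := by
    intro b s
    rw [mul_inv_eq_iff_eq_mul, ← map_mul, ← map_mul]
    congr 1
    refine Subtype.ext ?_
    rw [Matrix.SpecialLinearGroup.coe_mul, Matrix.SpecialLinearGroup.coe_mul, CfsgLib.PSL2.coe_dSL,
      CfsgLib.PSL2.coe_uSL, CfsgLib.PSL2.coe_uSL]
    ext i l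
    fin_cases i <;> fin_cases l <;> simp [Matrix.mul_apply, Fin.sum_univ_two]
    field_simp
  set t := ι (CfsgLib.PSL2.dSL (a : F) a.ne_zero) with htdef
  have htU : t ∈ normalizer (U : Set (↥c.Cz ⧸ oddCore ↥c.Cz)) := mem_normalizer_of_conj (by
    rintro _ ⟨s, rfl⟩
    exact ⟨Multiplicative.ofAdd ((a : F) * a * Multiplicative.toAdd s), (hd a _).symm⟩)
  obtain ⟨R, w, j, k, hR, hRU, hwN, hj, hw, hact, -⟩ := c.exists_two_lift hU hab htU
  have hR1 : R ≠ ⊥ := by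
    intro hb
    rw [hb, Subgroup.map_bot] at hRU
    have h1 : ι (CfsgLib.PSL2.uSL 1) ∈ U := ⟨Multiplicative.ofAdd 1, rfl⟩
    rw [← hRU, mem_bot, ← map_one ι] at h1
    have h01 := congrArg (fun B : Matrix.SpecialLinearGroup (Fin 2) F => B.1 0 1) (hι h1)
    simp [CfsgLib.PSL2.coe_uSL] at h01
  obtain ⟨z₀, hz, hz1⟩ := exists_omegaZ hR hR1
  obtain ⟨m, hm⟩ := c.scalarC (p := 3) (by norm_num) hwN
  have hz3 : orderOf z₀ = 3 := orderOf_eq_prime hz.2.2 hz1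
  have hfix : (w * w) * z₀ * (w * w)⁻¹ = z₀ := by
    rw [show w * w * z₀ * (w * w)⁻¹ = w * (w * z₀ * w⁻¹) * w⁻¹ by group, hm z₀ hz,
      hm _ (pow_mem hz m), ← pow_mul]
    conv_rhs => rw [← pow_one z₀]
    rw [pow_eq_pow_iff_modEq, hz3, ← ZMod.natCast_eq_natCast_iff, Nat.cast_mul, Nat.cast_one]
    have hm0 : ((m : ℕ) : ZMod 3) ≠ 0 := by
      rw [Ne, ZMod.natCast_eq_zero_iff]
      intro hd'
      refine hz1 ?_
      have h1 := hm z₀ hz
      rw [orderOf_dvd_iff_pow_eq_one.1 (hz3 ▸ hd'), conj_eq_one_iff] at h1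
      exact h1
    exact three_sq _ hm0
  have hcent := c.two_fixesC (by norm_num) hR hz hz1 k (w * w)
    (by rw [← pow_two, ← pow_mul, mul_comm, pow_mul, hw, one_pow]) (mul_mem hwN hwN) hfix
  obtain ⟨x, hx, hx1⟩ : ι (CfsgLib.PSL2.uSL 1) ∈ R.map c.π := hRU ▸ ⟨Multiplicative.ofAdd 1, rfl⟩
  have h1 := congrArg c.π (hcent x hx)
  simp only [map_mul, map_inv] at h1
  have hmem : ι (CfsgLib.PSL2.uSL 1) ∈ U := ⟨Multiplicative.ofAdd 1, rfl⟩
  have hpowd : ∀ n : ℕ, t ^ n = ι (CfsgLib.PSL2.dSL ((a ^ n : Fˣ) : F) (a ^ n).ne_zero) := by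
    intro n
    induction n with
    | zero =>
      rw [pow_zero, ← map_one ι]
      congr 1
      exact Subtype.ext (by simp [CfsgLib.PSL2.coe_dSL, Matrix.one_fin_two])
    | succ n ih =>
      rw [pow_succ, ih, htdef, ← map_mul]
      congr 1
      refine Subtype.ext ?_
      rw [Matrix.SpecialLinearGroup.coe_mul, CfsgLib.PSL2.coe_dSL, CfsgLib.PSL2.coe_dSL, CfsgLib.PSL2.coe_dSL]
      ext i l
      fin_cases i <;> fin_cases l <;> simp [Matrix.mul_apply, Fin.sum_univ_two, pow_succ, mul_comm]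
  have htj : ∀ s : F, c.π w * ι (CfsgLib.PSL2.uSL s) * (c.π w)⁻¹ =
      ι (CfsgLib.PSL2.uSL (((a ^ j : Fˣ) : F) * (a ^ j : Fˣ) * s)) := fun s => by
    rw [hact (ι (CfsgLib.PSL2.uSL s)) ⟨Multiplicative.ofAdd s, rfl⟩, hpowd, hd]
  rw [hx1, show c.π w * c.π w * ι (CfsgLib.PSL2.uSL 1) * (c.π w * c.π w)⁻¹ =
    c.π w * (c.π w * ι (CfsgLib.PSL2.uSL 1) * (c.π w)⁻¹) * (c.π w)⁻¹ by group, htj, htj] at h1
  have h01 := congrArg (fun B : Matrix.SpecialLinearGroup (Fin 2) F => B.1 0 1) (hι h1)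
  simp [CfsgLib.PSL2.coe_uSL] at h01
  have h4 : a ^ (j * 4) = 1 := Units.ext (by
    rw [Units.val_pow_eq_pow_val, Units.val_one]
    linear_combination h01)
  have := orderOf_dvd_of_pow_eq_one h4
  rw [hao] at this
  obtain ⟨i, hi⟩ := hj
  omega

end Ctx

end CfsgLib.Homogeneous.SD
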