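import Cfsg.Agent.Lib.Homogeneous.SD.ThreePerfect
import Cfsg.Agent.Lib.Homogeneous.SD.Burnside

/-!
The involution centraliser has order 240; elements of order five form one class, none is inverted by an involution,
and the Sylow 5-subgroups have order five.
-/

set_option autoImplicit false
set_option linter.unusedSectionVars false
set_option linter.style.haveILetI false

namespace CfsgLib.Homogeneous.SD

open Cfsg Subgroup
open scoped commutatorElement

universe u

namespace Model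

set_option synthInstance.maxSize 2000

theorem cent_c_ten : ∀ x ∈ all, mul 5 3 x c₀ = mul 5 3 c₀ x →
    ∃ (a : Bool) (b : Fin 5), x = mul 5 3 (pw 5 3 (zz 5) a.toNat) (pw 5 3 c₀ b) := by decide +kernel

end Model

variable {G : Type u} [Group G] [Finite G]

theorem sixteen_mod_five : ((4 * 4 : ℕ) : ZMod 5) = 1 := by decide

/-- The power with exponent one modulo the order. -/
theorem pow_eq_self {x : G} {n : ℕ} (h : n ≡ 1 [MOD orderOf x]) : x ^ n = x := by
  conv_rhs => rw [← pow_one x]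
  exact pow_eq_pow_iff_modEq.2 h

namespace Five

variable (D : Five G) [IsSimpleGroup G]
include D

theorem O_eq_one {u : ↥D.c.Cz} (hu : u ∈ D.O) : u = 1 := D.cent_m_data.1 u hu

theorem co_injective : Function.Injective D.co := fun x y h =>
  inv_mul_eq_one.1 (D.O_eq_one (D.c.π_eq.1 (D.π_eq_of_co h)))

theorem card_Cz' : Nat.card ↥D.c.Cz = 240 := by
  have h1 : D.O = ⊥ := (Subgroup.eq_bot_iff_forall _).2 fun u hu => D.O_eq_one hu
  rw [D.card_Cz, h1, card_bot, mul_one]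

/-- The index of the involution centraliser. -/
noncomputable def idx : ℕ := D.c.Cz.index

theorem card_G : Nat.card G = 240 * D.idx := by rw [← D.c.Cz.card_mul_index, D.card_Cz', idx]

theorem three_dvd_idx : 3 ∣ D.idx := by
  have h := card_subgroup_dvd_card D.X
  rw [D.cent_m_data.2.1, D.card_G] at h
  omega

/-- The element of order five. -/
noncomputable def cC : ↥D.c.Cz := (D.exists_co Model.t₀_facts.2.2.2.1).choose

theorem co_c : D.co D.cC = Model.c₀ := (D.exists_co Model.t₀_facts.2.2.2.1).choose_spec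

/-- The same in the group. -/
noncomputable def cG : G := (D.cC : G)

theorem orderOf_cC : orderOf D.cC = 5 := by
  haveI : Fact (Nat.Prime 5) := ⟨Nat.prime_five⟩
  obtain ⟨-, hc1, hc5⟩ := Model.c₀_order
  refine orderOf_eq_prime (D.co_injective ?_) fun h => hc1 ?_
  · rw [D.co_pow, D.co_c, hc5, D.co_one]
  · rw [← D.co_c, h, D.co_one]

theorem orderOf_c : orderOf D.cG = 5 := (Subgroup.orderOf_coe _).trans D.orderOf_cC

theorem c_z : D.cG * D.c.z = D.c.z * D.cG := (congrArg Subtype.val (D.c.zC_comm D.cC)).symm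

/-- One class of elements of order five. -/
theorem five_conj {x : G} (hx : orderOf x = 5) : ∃ g : G, g * D.cG * g⁻¹ = x := by
  obtain ⟨φ, hφ⟩ := D.c.hom.exists_map (x := D.cG) (y := x) (by rw [hx, D.orderOf_c])
  obtain ⟨g, hg⟩ := D.c.exists_conj_z (t := φ D.c.z) (by rw [φ.orderOf_eq, D.c.orderOf_z])
  have hc : φ D.c.z * x = x * φ D.c.z := by rw [← hφ, ← map_mul, ← map_mul, D.c_z]
  have hgx : g⁻¹ * x * g * D.c.z = D.c.z * (g⁻¹ * x * g) := by
    rw [← hg] at hc
    calc g⁻¹ * x * g * D.c.z = g⁻¹ * (x * (g * D.c.z * g⁻¹)) * g := by group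
      _ = g⁻¹ * (g * D.c.z * g⁻¹ * x) * g := by rw [hc]
      _ = _ := by group
  set xC : ↥D.c.Cz := ⟨g⁻¹ * x * g, mem_centralizer_singleton_iff.2 hgx⟩ with hxC
  have hxo : orderOf xC = 5 := by
    rw [← Subgroup.orderOf_coe]
    show orderOf (g⁻¹ * x * g) = 5
    rw [← hx]
    have := (MulAut.conj g⁻¹).orderOf_eq x
    simpa using this
  rcases Model.conj_c _ (D.co_mem xC) (by rw [← D.co_pow, ← hxo, pow_orderOf_eq_one, D.co_one]) with h | ⟨k, hk, hke⟩
  · rw [D.co_injective (h.trans D.co_one.symm), orderOf_one] at hxo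
    omega
  obtain ⟨k, rfl⟩ := D.exists_co hk
  rw [← D.co_c, ← D.co_mul, ← D.co_mul] at hke
  have h1 : (k : G) * D.cG = g⁻¹ * x * g * k := congrArg Subtype.val (D.co_injective hke)
  refine ⟨g * k, ?_⟩
  calc g * (k : G) * D.cG * (g * (k : G))⁻¹ = g * ((k : G) * D.cG) * (k : G)⁻¹ * g⁻¹ := by group
    _ = x := by rw [h1]; group

theorem cent_cz {x : G} (hz : x * D.c.z = D.c.z * x) (hc : x * D.cG = D.cG * x) :
    ∃ a b : ℕ, x = D.c.z ^ a * D.cG ^ b := by
  let xC : ↥D.c.Cz := ⟨x, mem_centralizer_singleton_iff.2 hz⟩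
  have h := congrArg D.co (show xC * D.cC = D.cC * xC from Subtype.ext hc)
  rw [D.co_mul, D.co_mul, D.co_c] at h
  obtain ⟨a, b, hab⟩ := Model.cent_c_ten _ (D.co_mem xC) h
  refine ⟨a.toNat, b, ?_⟩
  have h1 : xC = D.c.zC ^ a.toNat * D.cC ^ (b : ℕ) := D.co_injective (by
    rw [hab, D.co_mul, D.co_pow, D.co_pow, D.co_zC, D.co_c])
  exact (congrArg Subtype.val h1).trans (by push_cast; rfl)

theorem z_max : ∀ g ∈ centralizer ({D.cG} : Set G), (∀ t ∈ zpowers D.c.z, g * t * g⁻¹ ∈ zpowers D.c.z) →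
    (∃ k : ℕ, g ^ 2 ^ k = 1) → g ∈ zpowers D.c.z := by
  intro g hg hgn ⟨k, hk⟩
  obtain ⟨i, hi⟩ := hgn _ (mem_zpowers _)
  have hgz : g * D.c.z * g⁻¹ = D.c.z := by
    obtain ⟨j, rfl | rfl⟩ := Int.even_or_odd' i
    · simp only [zpow_mul, zpow_two, D.c.z_sq, one_zpow] at hi
      exact absurd (conj_eq_one_iff.1 hi.symm) D.c.z_ne_one
    · simp only [zpow_add, zpow_mul, zpow_two, D.c.z_sq, one_zpow, one_mul, zpow_one] at hi
      exact hi.symm
  obtain ⟨a, b, rfl⟩ := D.cent_cz (mul_inv_eq_iff_eq_mul.1 hgz) (mem_centralizer_singleton_iff.1 hg)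
  have hc : Commute (D.c.z ^ a) (D.cG ^ b) := (show Commute D.cG D.c.z from D.c_z).symm.pow_pow a b
  have h1 : (D.cG ^ b) ^ 2 ^ (k + 1) = 1 := by
    have h := hk
    rw [hc.mul_pow] at h
    have h' := congrArg (· ^ 2) h
    simp only [one_pow] at h'
    rw [((hc.pow_pow _ _)).mul_pow] at h'
    have e1 : ((D.c.z ^ a) ^ 2 ^ k) ^ 2 = 1 := by
      rw [← pow_mul, ← pow_mul, show a * (2 ^ k * 2) = 2 * (a * 2 ^ k) by ring, pow_mul, pow_two, D.c.z_sq, one_pow]
    rw [e1, one_mul, ← pow_mul _ (2 ^ k) 2, ← pow_succ] at h'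
    exact h'
  have h5 : (D.cG ^ b) ^ 5 = 1 := by
    rw [← pow_mul, mul_comm, pow_mul, show D.cG ^ 5 = 1 from D.orderOf_c ▸ pow_orderOf_eq_one _, one_pow]
  rw [orderOf_eq_one_iff.1 (Nat.eq_one_of_dvd_coprimes (show (2 ^ (k + 1)).Coprime 5 from Nat.Coprime.pow_left _ (by norm_num))
    (orderOf_dvd_of_pow_eq_one h1) (orderOf_dvd_of_pow_eq_one h5)), mul_one]
  exact pow_mem (mem_zpowers _) a

theorem z_zpowers_two : IsPGroup 2 ↥(zpowers D.c.z) := zpowers_two _ (k := 1) (by rw [pow_one, pow_two, D.c.z_sq])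

theorem zpowers_z_le : zpowers D.c.z ≤ centralizer ({D.cG} : Set G) :=
  zpowers_le.2 (mem_centralizer_singleton_iff.2 D.c_z.symm)

/-- No involution inverts the element of order five. -/
theorem c_not_inverted {t : G} (ht : orderOf t = 2) : t * D.cG * t⁻¹ ≠ D.cG⁻¹ := by
  intro hinv
  haveI := Fact.mk Nat.prime_two
  set M := normalizer ((zpowers D.cG : Subgroup G) : Set G) with hM
  obtain ⟨g, hg, hgc, hg4⟩ := Model.exists_eight
  obtain ⟨g, rfl⟩ := D.exists_co hg
  have hgC : (g : G) * D.cG * (g : G)⁻¹ = D.cG ^ 2 := by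
    rw [← D.co_c, ← D.co_pow, ← D.co_mul, ← D.co_mul] at hgc
    have h1 : (g : G) * D.cG = D.cG ^ 2 * (g : G) := congrArg Subtype.val (D.co_injective hgc)
    rw [h1, mul_inv_cancel_right]
  have hg4' : (g : G) ^ 4 = D.c.z := by
    rw [← D.co_pow, ← D.co_zC] at hg4
    exact congrArg Subtype.val (D.co_injective hg4)
  have hgM : (g : G) ∈ M := mem_normalizer_zpowers (isOfFinOrder_of_finite _) (hgC ▸ pow_mem (mem_zpowers _) 2)
  have htM : t ∈ M := mem_normalizer_zpowers (isOfFinOrder_of_finite _) (hinv ▸ inv_mem (mem_zpowers _))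
  have hgo : orderOf (g : G) = 8 := by
    refine orderOf_eq_prime_pow (p := 2) (n := 2) ?_ ?_
    · rw [show 2 ^ 2 = 4 by rfl, hg4']; exact D.c.z_ne_one
    · rw [show 2 ^ 3 = 4 * 2 by rfl, pow_mul, hg4', pow_two, D.c.z_sq]
  -- a Sylow subgroup of the normaliser
  have hg2 : IsPGroup 2 ↥(zpowers (⟨(g : G), hgM⟩ : ↥M)) := IsPGroup.of_card (n := 3) (by
    rw [Nat.card_zpowers, Subgroup.orderOf_mk, hgo]; rfl)
  obtain ⟨T, hT⟩ := hg2.exists_le_sylow
  let f : ↥(T : Subgroup ↥M) →* MulAut ↥(zpowers D.cG) :=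
    ((zpowers D.cG).normalizerMonoidHom).comp (T : Subgroup ↥M).subtype
  have hker : Nat.card f.ker ≤ 2 := by
    have hle : (f.ker.map (T : Subgroup ↥M).subtype).map M.subtype ≤ zpowers D.c.z := by
      refine fun a ha => ?_
      have hX : ∀ b ∈ (f.ker.map (T : Subgroup ↥M).subtype).map M.subtype, b ∈ centralizer ({D.cG} : Set G) := by
        rintro _ ⟨_, ⟨w, hw, rfl⟩, rfl⟩
        have h1 := congrArg Subtype.val (DFunLike.congr_fun (MonoidHom.mem_ker.1 hw) ⟨D.cG, mem_zpowers _⟩)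
        exact mem_centralizer_singleton_iff.2 (mul_inv_eq_iff_eq_mul.1 h1)
      refine le_of_max (H := centralizer ({D.cG} : Set G)) (T := zpowers D.c.z)
        (Q := (f.ker.map (T : Subgroup ↥M).subtype).map M.subtype) (((T.2.to_subgroup f.ker).map _).map _)
        hX ?_ D.z_max ha
      refine zpowers_le.2 ⟨_, ⟨⟨⟨(g : G), hgM⟩, hT (mem_zpowers _)⟩ ^ 4, ?_, rfl⟩, ?_⟩
      · refine MonoidHom.mem_ker.2 (MulEquiv.ext fun x => Subtype.ext ?_)
        obtain ⟨i, hi⟩ := x.2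
        show (((((⟨⟨(g : G), hgM⟩, hT (mem_zpowers _)⟩ : ↥(T : Subgroup ↥M)) ^ 4) : ↥(T : Subgroup ↥M)) : ↥M) : G) *
          (x : G) * (((((⟨⟨(g : G), hgM⟩, hT (mem_zpowers _)⟩ : ↥(T : Subgroup ↥M)) ^ 4) : ↥(T : Subgroup ↥M)) : ↥M) : G)⁻¹ = x
        rw [SubmonoidClass.coe_pow, SubmonoidClass.coe_pow, hg4', ← hi]
        have hc : Commute D.c.z (D.cG ^ i) := (show Commute D.cG D.c.z from D.c_z).symm.zpow_right i
        show D.c.z * D.cG ^ i * D.c.z⁻¹ = D.cG ^ i
        rw [hc.eq, mul_inv_cancel_right]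
      · show ((((⟨⟨(g : G), hgM⟩, hT (mem_zpowers _)⟩ : ↥(T : Subgroup ↥M)) ^ 4 : ↥(T : Subgroup ↥M)) : ↥M) : G) = D.c.z
        rw [SubmonoidClass.coe_pow, SubmonoidClass.coe_pow]
        exact hg4'
    have := card_le_of_le hle
    rwa [Nat.card_zpowers, D.c.orderOf_z, card_map_of_injective M.subtype_injective,
      card_map_of_injective (T : Subgroup ↥M).subtype_injective] at this
  have hrange : Nat.card f.range ≤ 4 := by
    haveI : Fact (Nat.Prime 5) := ⟨Nat.prime_five⟩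
    haveI : IsCyclic ↥(zpowers D.cG) := inferInstance
    refine (Nat.le_of_dvd Nat.card_pos (card_subgroup_dvd_card f.range)).trans ?_
    rw [IsCyclic.card_mulAut, Nat.card_zpowers, D.orderOf_c, Nat.totient_prime Nat.prime_five]
  have hT8 : Nat.card ↥(T : Subgroup ↥M) ≤ 8 := by
    rw [Subgroup.card_eq_card_quotient_mul_card_subgroup f.ker,
      Nat.card_congr (QuotientGroup.quotientKerEquivRange f).toEquiv]
    exact (Nat.mul_le_mul hrange hker).trans (by norm_num)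
  have hTg : zpowers (⟨(g : G), hgM⟩ : ↥M) = (T : Subgroup ↥M) := eq_of_le_of_card_ge hT (by
    rw [Nat.card_zpowers, Subgroup.orderOf_mk, hgo]; exact hT8)
  obtain ⟨T', hT'⟩ := (show IsPGroup 2 ↥(zpowers (⟨t, htM⟩ : ↥M)) from zpowers_two _ (k := 1)
    (Subtype.ext (by rw [SubmonoidClass.coe_pow, pow_one, ← ht, pow_orderOf_eq_one]; rfl))).exists_le_sylow
  obtain ⟨h, hh⟩ := MulAction.exists_smul_eq ↥M T' T
  have hmem : h * ⟨t, htM⟩ * h⁻¹ ∈ zpowers (⟨(g : G), hgM⟩ : ↥M) := by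
    rw [hTg, ← hh, Sylow.coe_subgroup_smul]
    exact ⟨_, hT' (mem_zpowers _), rfl⟩
  obtain ⟨j, hj⟩ := exists_npow hmem
  have hj' : (g : G) ^ j = (h : G) * t * (h : G)⁻¹ := congrArg Subtype.val hj
  have hjz : (h : G) * t * (h : G)⁻¹ = D.c.z := by
    have h2 : (g : G) ^ (j * 2) = 1 := by
      rw [pow_mul, hj', conj_pow, show t ^ 2 = 1 from ht ▸ pow_orderOf_eq_one t, mul_one, mul_inv_cancel]
    have h8 : 8 ∣ j * 2 := hgo ▸ orderOf_dvd_of_pow_eq_one h2
    have h1 : (g : G) ^ j ≠ 1 := by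
      rw [hj']
      intro e
      rw [conj_eq_one_iff] at e
      rw [e, orderOf_one] at ht
      omega
    obtain ⟨q, rfl⟩ : 4 ∣ j := by omega
    rw [← hj', pow_mul, hg4'] at *
    obtain ⟨r, rfl | rfl⟩ := Nat.even_or_odd' q
    · rw [pow_mul, pow_two, D.c.z_sq, one_pow] at h1
      exact absurd rfl h1
    · rw [pow_succ, pow_mul, pow_two, D.c.z_sq, one_pow, one_mul]
  -- so the involution centralises
  obtain ⟨i, hi⟩ := (mem_normalizer_iff.1 h.2 D.cG).1 (mem_zpowers _)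
  have hcz : Commute D.c.z (D.cG ^ i) := (show Commute D.cG D.c.z from D.c_z).symm.zpow_right i
  have htc : t * D.cG * t⁻¹ = D.cG := by
    have e : t = (h : G)⁻¹ * D.c.z * h := by rw [← hjz]; group
    rw [e]
    have hi' : D.cG ^ i = (h : G) * D.cG * (h : G)⁻¹ := hi
    calc (h : G)⁻¹ * D.c.z * h * D.cG * ((h : G)⁻¹ * D.c.z * h)⁻¹ =
        (h : G)⁻¹ * (D.c.z * ((h : G) * D.cG * (h : G)⁻¹) * D.c.z⁻¹) * h := by group
      _ = D.cG := by rw [← hi', hcz.eq, mul_inv_cancel_right, hi']; group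
  rw [htc] at hinv
  have h2 : D.cG ^ 2 = 1 := by rw [pow_two]; nth_rewrite 1 [hinv]; rw [inv_mul_cancel]
  have := orderOf_dvd_of_pow_eq_one h2
  rw [D.orderOf_c] at this
  norm_num at this

theorem five_not_inverted {x t : G} (hx : orderOf x = 5) (ht : orderOf t = 2) : t * x * t⁻¹ ≠ x⁻¹ := by
  obtain ⟨g, rfl⟩ := D.five_conj hx
  intro h
  refine D.c_not_inverted (t := g⁻¹ * t * g) ?_ ?_
  · rw [← ht]
    have := (MulAut.conj g⁻¹).orderOf_eq t
    simpa using this
  · calc g⁻¹ * t * g * D.cG * (g⁻¹ * t * g)⁻¹ = g⁻¹ * (t * (g * D.cG * g⁻¹) * t⁻¹) * g := by group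
      _ = _ := by rw [h]; group

/-- The Sylow 5-subgroups have order five. -/
theorem not_twenty_five : ¬ 25 ∣ Nat.card G := by
  intro h25
  haveI : Fact (Nat.Prime 5) := ⟨Nat.prime_five⟩
  haveI := Fact.mk Nat.prime_two
  set H := centralizer ({D.cG} : Set G) with hH
  obtain ⟨N, hNH, hNn, hNiff, hNcard⟩ := exists_compl D.z_zpowers_two D.zpowers_z_le D.z_max (fun g hg hgn t ht => by
    obtain ⟨i, hi⟩ := hgn _ (mem_zpowers _)
    have hgz : Commute g D.c.z := by
      obtain ⟨j, rfl | rfl⟩ := Int.even_or_odd' i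
      · simp only [zpow_mul, zpow_two, D.c.z_sq, one_zpow] at hi
        exact absurd (conj_eq_one_iff.1 hi.symm) D.c.z_ne_one
      · simp only [zpow_add, zpow_mul, zpow_two, D.c.z_sq, one_zpow, one_mul, zpow_one] at hi
        exact mul_inv_eq_iff_eq_mul.1 hi.symm
    obtain ⟨l, rfl⟩ := ht
    exact (hgz.zpow_right l).eq)
  have hcN : D.cG ∈ N := (hNiff _ (mem_centralizer_singleton_iff.2 rfl)).2 (by rw [D.orderOf_c]; norm_num)
  have hNodd : Odd (Nat.card ↥N) := by
    rw [← Nat.not_even_iff_odd, even_iff_two_dvd]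
    intro h2
    obtain ⟨⟨w, hw⟩, hwo⟩ := exists_prime_orderOf_dvd_card' 2 h2
    rw [Subgroup.orderOf_mk] at hwo
    exact (hNiff w (hNH hw)).1 hw (hwo ▸ dvd_rfl)
  -- twenty-five divides the order of the centraliser
  have h25N : 25 ∣ Nat.card ↥N := by
    obtain ⟨P, hP⟩ := (show IsPGroup 5 ↥(zpowers D.cG) from IsPGroup.of_card (n := 1) (by
      rw [Nat.card_zpowers, D.orderOf_c, pow_one])).exists_le_sylow
    have hP25 : 25 ∣ Nat.card ↥(P : Subgroup G) := P.pow_dvd_card_of_pow_dvd_card (n := 2) h25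
    haveI : Nontrivial ↥(P : Subgroup G) := (nontrivial_iff_ne_bot _).2 fun e => by
      rw [e, card_bot] at hP25; norm_num at hP25
    obtain ⟨w, hw, hw1⟩ := exists_omegaZ P.2 ((nontrivial_iff_ne_bot _).1 inferInstance)
    obtain ⟨g, hg⟩ := D.five_conj (orderOf_eq_prime hw.2.2 hw1)
    have hle : (P : Subgroup G).map (MulAut.conj g⁻¹).toMonoidHom ≤ H := by
      rintro _ ⟨p, hp, rfl⟩
      refine mem_centralizer_singleton_iff.2 ?_
      simp only [MulEquiv.coe_toMonoidHom, MulAut.conj_apply, inv_inv]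
      have h1 := hw.2.1 p hp
      calc g⁻¹ * p * g * D.cG = g⁻¹ * (p * (g * D.cG * g⁻¹)) * g := by group
        _ = g⁻¹ * (g * D.cG * g⁻¹ * p) * g := by rw [hg, h1]
        _ = _ := by group
    have h1 := card_dvd_of_le hle
    rw [card_map_of_injective (MulAut.conj g⁻¹).injective] at h1
    have h2 := hP25.trans h1
    rw [← hNcard, Nat.card_zpowers, D.c.orderOf_z] at h2
    exact (Nat.Coprime.dvd_of_dvd_mul_right (by norm_num) h2)
  have hzN : zpowers D.c.z ≤ normalizer (N : Set G) :=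
    fun a ha => mem_normalizer_of_conj (hNn a (D.zpowers_z_le ha))
  have hcop : (Nat.card ↥(zpowers D.c.z)).Coprime (Nat.card ↥N) := by
    rw [Nat.card_zpowers, D.c.orderOf_z]
    exact Nat.coprime_two_left.2 hNodd
  haveI := D.z_zpowers_two.isNilpotent
  obtain ⟨R₀, hR₀⟩ := CfsgLib.coprime_exists_invariant_sylow hzN hcop (Or.inl inferInstance) 5
  set R := (R₀ : Subgroup ↥N).map N.subtype with hR
  have hRN : R ≤ N := map_subtype_le _
  have hRp : IsPGroup 5 ↥R := R₀.2.map _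
  have h25R : 25 ∣ Nat.card ↥R := by
    rw [hR, card_map_of_injective N.subtype_injective]
    exact R₀.pow_dvd_card_of_pow_dvd_card (n := 2) h25N
  have hzR : ∀ x ∈ R, D.c.z * x * D.c.z⁻¹ ∈ R := fun x hx => (mem_normalizer_iff.1 (hR₀ (mem_zpowers _)) x).1 hx
  have hfix : ∀ x ∈ R, x * D.c.z = D.c.z * x → x ∈ zpowers D.cG := by
    intro x hx hxz
    obtain ⟨a, b, hab⟩ := D.cent_cz hxz (mem_centralizer_singleton_iff.1 (hNH (hRN hx)))
    obtain ⟨k, hk⟩ := hRp ⟨x, hx⟩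
    have hk' : x ^ 5 ^ k = 1 := congrArg Subtype.val hk
    have h1 : D.c.z ^ a = 1 := by
      have hza : (D.c.z ^ a) ^ 2 = 1 := by rw [← pow_mul, mul_comm, pow_mul, pow_two, D.c.z_sq, one_pow]
      have hz5 : (D.c.z ^ a) ^ 5 ^ (k + 1) = 1 := by
        have hc : Commute (D.c.z ^ a) (D.cG ^ b) := (show Commute D.cG D.c.z from D.c_z).symm.pow_pow a b
        have h := congrArg (· ^ 5) hk'
        simp only [one_pow, hab, ← pow_mul, ← pow_succ] at h
        rw [hc.mul_pow, ← pow_mul D.cG, pow_succ, show b * (5 ^ k * 5) = 5 * (b * 5 ^ k) by ring, pow_mul D.cG,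
          show D.cG ^ 5 = 1 from D.orderOf_c ▸ pow_orderOf_eq_one _, one_pow, mul_one] at h
        rw [pow_succ]
        exact h
      exact orderOf_eq_one_iff.1 (Nat.eq_one_of_dvd_coprimes (show Nat.Coprime 2 (5 ^ (k + 1)) from Nat.Coprime.pow_right _ (by norm_num))
        (orderOf_dvd_of_pow_eq_one hza) (orderOf_dvd_of_pow_eq_one hz5))
    rw [hab, h1, one_mul]
    exact pow_mem (mem_zpowers _) b
  obtain ⟨x, hxR, hxz⟩ : ∃ x ∈ R, x * D.c.z ≠ D.c.z * x := by
    by_contra hno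
    push Not at hno
    have hle : R ≤ zpowers D.cG := fun x hx => hfix x hx (hno x hx)
    have := Nat.le_of_dvd Nat.card_pos (h25R.trans (card_dvd_of_le hle))
    rw [Nat.card_zpowers, D.orderOf_c] at this
    omega
  set a := x * (D.c.z * x * D.c.z⁻¹)⁻¹ with ha
  have haR : a ∈ R := mul_mem hxR (inv_mem (hzR x hxR))
  have hzi : D.c.z⁻¹ = D.c.z := inv_eq_of_mul_eq_one_right D.c.z_sq
  have hainv : D.c.z * a * D.c.z⁻¹ = a⁻¹ := by
    rw [ha]
    calc D.c.z * (x * (D.c.z * x * D.c.z⁻¹)⁻¹) * D.c.z⁻¹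
        = D.c.z * x * D.c.z * (x⁻¹ * (D.c.z * D.c.z)⁻¹) := by group
      _ = D.c.z * x * D.c.z⁻¹ * x⁻¹ := by rw [D.c.z_sq, hzi]; group
      _ = _ := by group
  have ha1 : a ≠ 1 := fun e => hxz (by
    have h1 : x = D.c.z * x * D.c.z⁻¹ := mul_inv_eq_one.1 e
    nth_rewrite 1 [h1]
    group)
  obtain ⟨k, hk⟩ := hRp ⟨a, haR⟩
  obtain ⟨j, -, hj⟩ := (Nat.dvd_prime_pow Nat.prime_five).1
    (orderOf_dvd_of_pow_eq_one (show a ^ 5 ^ k = 1 from congrArg Subtype.val hk))
  have hj0 : j ≠ 0 := fun e => ha1 (by rwa [e, pow_zero, orderOf_eq_one_iff] at hj)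
  set y := a ^ 5 ^ (j - 1) with hy
  have hyR : y ∈ R := pow_mem haR _
  have hy5 : orderOf y = 5 := by
    refine orderOf_eq_prime ?_ fun e => ?_
    · rw [hy, ← pow_mul, ← pow_succ, show j - 1 + 1 = j by omega, ← hj, pow_orderOf_eq_one]
    · have h1 := orderOf_dvd_of_pow_eq_one e
      rw [hj] at h1
      have := Nat.pow_dvd_pow_iff_le_right (show 1 < 5 by norm_num) |>.1 h1
      omega
  have hyinv : D.c.z * y * D.c.z⁻¹ = y⁻¹ := by rw [hy, ← conj_pow, hainv, inv_pow]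
  have hzc : D.c.z * D.cG * D.c.z⁻¹ = D.cG := by rw [← D.c_z, mul_inv_cancel_right]
  have hyc : y ∉ zpowers D.cG := by
    rintro ⟨i, hi⟩
    have h1 : D.c.z * y * D.c.z⁻¹ = y := by rw [← hi, ← conj_zpow, hzc]
    exact D.five_not_inverted hy5 D.c.orderOf_z hyinv
  have hcomm : D.cG * y = y * D.cG := (mem_centralizer_singleton_iff.1 (hNH (hRN hyR))).symm
  obtain ⟨g, hgc, hgy⟩ := exists_torus D.c.hom (r := 5) (by norm_num) (by norm_num) hcomm D.orderOf_c hy5 hyc hzc hyinv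
    (k := 4) (l := 4) sixteen_mod_five
  have hinv4 : ∀ w : G, orderOf w = 5 → w ^ 4 = w⁻¹ := fun w hw =>
    eq_inv_of_mul_eq_one_left (by rw [← pow_succ, show 4 + 1 = orderOf w from hw.symm, pow_orderOf_eq_one])
  rw [hinv4 _ D.orderOf_c] at hgc
  rw [hinv4 _ hy5] at hgy
  obtain ⟨e, q, hq, hord⟩ := Nat.exists_eq_two_pow_mul_odd (orderOf_pos g).ne'
  set s := g ^ q with hs
  have hpow : ∀ w : G, g * w * g⁻¹ = w⁻¹ → s * w * s⁻¹ = w⁻¹ ∧ (s * s) * w = w * (s * s) := by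
    intro w hw
    have h2 : ∀ i : ℕ, g ^ (2 * i) * w * (g ^ (2 * i))⁻¹ = w := by
      intro i
      induction i with
      | zero => simp
      | succ i ih =>
        calc g ^ (2 * (i + 1)) * w * (g ^ (2 * (i + 1)))⁻¹ = g ^ (2 * i) * (g * (g * w * g⁻¹) * g⁻¹) * (g ^ (2 * i))⁻¹ := by
              rw [show 2 * (i + 1) = 2 * i + 1 + 1 by ring, pow_succ, pow_succ]; group
          _ = g ^ (2 * i) * (g * w * g⁻¹)⁻¹ * (g ^ (2 * i))⁻¹ := by
            rw [show g * (g * w * g⁻¹) * g⁻¹ = g * w⁻¹ * g⁻¹ by rw [hw]]; group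
          _ = w := by rw [hw, inv_inv, ih]
    obtain ⟨i, hi⟩ := hq
    constructor
    · calc s * w * s⁻¹ = g * (g ^ (2 * i) * w * (g ^ (2 * i))⁻¹) * g⁻¹ := by rw [hs, hi, pow_succ']; group
        _ = _ := by rw [h2, hw]
    · refine mul_inv_eq_iff_eq_mul.1 ?_
      rw [hs, ← pow_add, ← two_mul]
      exact h2 q
  obtain ⟨hsc, hs2c⟩ := hpow _ hgc
  obtain ⟨-, hs2y⟩ := hpow _ hgy
  have hs1 : s ^ 2 ^ e = 1 := by rw [hs, ← pow_mul, mul_comm, ← hord, pow_orderOf_eq_one]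
  -- the square centralises both, hence is trivial
  have hss : s * s = 1 := by
    by_contra hne
    obtain ⟨i, -, hi⟩ := (Nat.dvd_prime_pow Nat.prime_two).1 (orderOf_dvd_of_pow_eq_one (show (s * s) ^ 2 ^ e = 1 by
      rw [← pow_two, ← pow_mul, mul_comm, pow_mul, hs1, one_pow]))
    have hi0 : i ≠ 0 := fun e' => hne (by rwa [e', pow_zero, orderOf_eq_one_iff] at hi)
    set t := (s * s) ^ 2 ^ (i - 1) with ht
    have ht2 : orderOf t = 2 := by
      refine orderOf_eq_prime ?_ fun e' => ?_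
      · rw [ht, ← pow_mul, ← pow_succ, show i - 1 + 1 = i by omega, ← hi, pow_orderOf_eq_one]
      · have h1 := orderOf_dvd_of_pow_eq_one e'
        rw [hi] at h1
        have := Nat.pow_dvd_pow_iff_le_right (show 1 < 2 by norm_num) |>.1 h1
        omega
    have htc : Commute t D.cG := (show Commute (s * s) D.cG from hs2c).pow_left _
    have hty : Commute t y := (show Commute (s * s) y from hs2y).pow_left _
    obtain ⟨k, hk, hkt⟩ := conj_into D.z_zpowers_two D.zpowers_z_le D.z_max (Q := zpowers t)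
      (zpowers_two t (k := 1) (by rw [pow_one, ← ht2, pow_orderOf_eq_one]))
      (zpowers_le.2 (mem_centralizer_singleton_iff.2 htc.eq))
    obtain ⟨l, hl⟩ := hkt t (mem_zpowers _)
    have hktz : k * t * k⁻¹ = D.c.z := by
      obtain ⟨l', rfl | rfl⟩ := Int.even_or_odd' l
      · simp only [zpow_mul, zpow_two, D.c.z_sq, one_zpow] at hl
        rw [conj_eq_one_iff.1 hl.symm, orderOf_one] at ht2
        omega
      · simp only [zpow_add, zpow_mul, zpow_two, D.c.z_sq, one_zpow, one_mul, zpow_one] at hl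
        exact hl.symm
    have hk' : Commute k D.cG := mem_centralizer_singleton_iff.1 hk
    obtain ⟨a', b', hab'⟩ := D.cent_cz (x := k * y * k⁻¹) (by
      rw [← hktz]
      calc k * y * k⁻¹ * (k * t * k⁻¹) = k * (y * t) * k⁻¹ := by group
        _ = k * (t * y) * k⁻¹ := by rw [hty.eq]
        _ = _ := by group) (((hk'.mul_left (show Commute y D.cG from hcomm.symm)).mul_left hk'.inv_left).eq)
    have hza : D.c.z ^ a' = 1 := by
      have hc : Commute (D.c.z ^ a') (D.cG ^ b') := (show Commute D.cG D.c.z from D.c_z).symm.pow_pow a' b'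
      have h5 : (D.c.z ^ a') ^ 5 = 1 := by
        have h := congrArg (· ^ 5) hab'
        simp only [conj_pow, hc.mul_pow] at h
        rw [show y ^ 5 = 1 from hy5 ▸ pow_orderOf_eq_one y, mul_one, mul_inv_cancel, ← pow_mul D.cG, mul_comm b',
          pow_mul D.cG, show D.cG ^ 5 = 1 from D.orderOf_c ▸ pow_orderOf_eq_one _, one_pow, mul_one] at h
        exact h.symm
      have hza2 : (D.c.z ^ a') ^ 2 = 1 := by rw [← pow_mul, mul_comm, pow_mul, pow_two, D.c.z_sq, one_pow]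
      rw [show (5 : ℕ) = 2 * 2 + 1 from rfl, pow_succ, pow_mul, hza2, one_pow, one_mul] at h5
      exact h5
    rw [hza, one_mul] at hab'
    refine hyc ⟨(b' : ℤ), ?_⟩
    show D.cG ^ (b' : ℤ) = y
    rw [zpow_natCast]
    calc D.cG ^ b' = k⁻¹ * (k * D.cG ^ b') := by group
      _ = k⁻¹ * (D.cG ^ b' * k) := by rw [(hk'.pow_right b').eq]
      _ = y := by rw [← hab']; group
  have hsne : s ≠ 1 := fun e' => by
    rw [e', one_mul, inv_one, mul_one] at hsc
    have h2 : D.cG ^ 2 = 1 := by rw [pow_two]; nth_rewrite 1 [hsc]; rw [inv_mul_cancel]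
    have := orderOf_dvd_of_pow_eq_one h2
    rw [D.orderOf_c] at this
    norm_num at this
  exact D.c_not_inverted (orderOf_eq_prime (by rw [pow_two, hss]) hsne) hsc

theorem five_not_dvd_idx : ¬ 5 ∣ D.idx := by
  intro h
  refine D.not_twenty_five ?_
  rw [D.card_G]
  omega

end Five

end CfsgLib.Homogeneous.SD
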