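import Cfsg.Agent.Lib.Homogeneous.SD.Sixteen

/-!
The centraliser modulo its core: only the centre acts trivially on `SL₂(q)`, the derived group has index two, and the
quaternion subgroup centralises the core.
-/

set_option autoImplicit false
set_option linter.unusedSectionVars false
set_option linter.style.haveILetI false

namespace CfsgLib.Homogeneous.SD

open Cfsg Subgroup
open scoped commutatorElement MatrixGroups

universe u

/-- Matrices commuting with a common non-scalar matrix commute. -/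
theorem comm_of_commutant {F : Type*} [Field F] {g X Y : Matrix (Fin 2) (Fin 2) F}
    (hg : ¬ (g 0 1 = 0 ∧ g 1 0 = 0 ∧ g 0 0 = g 1 1)) (hX : X * g = g * X) (hY : Y * g = g * Y) : X * Y = Y * X := by
  have ex : ∀ Z : Matrix (Fin 2) (Fin 2) F, Z * g = g * Z →
      Z 0 1 * g 1 0 = g 0 1 * Z 1 0 ∧ g 0 1 * (Z 0 0 - Z 1 1) = Z 0 1 * (g 0 0 - g 1 1) ∧
        g 1 0 * (Z 0 0 - Z 1 1) = Z 1 0 * (g 0 0 - g 1 1) := by
    intro Z hZ
    have h00 := congrFun (congrFun hZ 0) 0
    have h01 := congrFun (congrFun hZ 0) 1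
    have h10 := congrFun (congrFun hZ 1) 0
    simp only [Matrix.mul_apply, Fin.sum_univ_two] at h00 h01 h10
    exact ⟨by linear_combination h00, by linear_combination h01, by linear_combination (-1 : F) * h10⟩
  obtain ⟨a1, a2, a3⟩ := ex X hX
  obtain ⟨b1, b2, b3⟩ := ex Y hY
  have key : X 0 1 * Y 1 0 = Y 0 1 * X 1 0 ∧ X 0 1 * (Y 0 0 - Y 1 1) = Y 0 1 * (X 0 0 - X 1 1) ∧
      X 1 0 * (Y 0 0 - Y 1 1) = Y 1 0 * (X 0 0 - X 1 1) := by
    by_cases hb : g 0 1 = 0
    · by_cases hc : g 1 0 = 0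
      · have hd : g 0 0 - g 1 1 ≠ 0 := fun e => hg ⟨hb, hc, sub_eq_zero.1 e⟩
        rw [hb, zero_mul] at a2 b2
        rw [hc, zero_mul] at a3 b3
        simp [(mul_eq_zero.1 a2.symm).resolve_right hd, (mul_eq_zero.1 b2.symm).resolve_right hd,
          (mul_eq_zero.1 a3.symm).resolve_right hd, (mul_eq_zero.1 b3.symm).resolve_right hd]
      · rw [hb, zero_mul] at a1 b1
        rw [(mul_eq_zero.1 a1).resolve_right hc, (mul_eq_zero.1 b1).resolve_right hc]
        refine ⟨by simp, by simp, mul_left_cancel₀ hc ?_⟩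
        linear_combination X 1 0 * b3 - Y 1 0 * a3
    · refine ⟨mul_left_cancel₀ hb ?_, mul_left_cancel₀ hb ?_, mul_left_cancel₀ hb ?_⟩
      · linear_combination Y 0 1 * a1 - X 0 1 * b1
      · linear_combination X 0 1 * b2 - Y 0 1 * a2
      · linear_combination X 1 0 * b2 - Y 1 0 * a2 + (g 0 0 - g 1 1) * (mul_left_cancel₀ hb
          (show g 0 1 * (X 1 0 * Y 0 1) = g 0 1 * (Y 1 0 * X 0 1) by linear_combination X 0 1 * b1 - Y 0 1 * a1))
  obtain ⟨k1, k2, k3⟩ := key
  ext i j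
  fin_cases i <;> fin_cases j <;> simp [Matrix.mul_apply, Fin.sum_univ_two]
  · linear_combination k1
  · linear_combination (-1 : F) * k2
  · linear_combination k3
  · linear_combination (-1 : F) * k1

variable {G : Type u} [Group G] [Finite G]

namespace Ctx

variable (c : Ctx G)

/-- The image of the noncentral involution. -/
def ybar : ↥c.Cz ⧸ oddCore ↥c.Cz := c.π (c.incl c.d.y)

variable {F : Type} [Field F] [Fintype F] (e : ↥c.L ≃* Matrix.SpecialLinearGroup (Fin 2) F)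
include e

theorem card_prime (hF : Odd (Fintype.card F)) : (Fintype.card F).Prime := by
  rcases c.card_three_or_five e hF with h | h <;> rw [h] <;> norm_num

/-- Conjugation on the derived group as an automorphism of `SL₂`. -/
def act (x : ↥c.Cz ⧸ oddCore ↥c.Cz) : MulAut (Matrix.SpecialLinearGroup (Fin 2) F) :=
  (e.symm.trans (MulAut.conjNormal x)).trans e

theorem act_apply (x : ↥c.Cz ⧸ oddCore ↥c.Cz) (l : ↥c.L) :
    (c.act e x) (e l) = e (MulAut.conjNormal x l) := by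
  show e (MulAut.conjNormal x (e.symm (e l))) = _
  rw [e.symm_apply_apply]

theorem exists_gl (hF : Odd (Fintype.card F)) (x : ↥c.Cz ⧸ oddCore ↥c.Cz) :
    ∃ g : GL (Fin 2) F, ∀ l : ↥c.L, (e (MulAut.conjNormal x l)).1 * g.1 = g.1 * (e l).1 := by
  obtain ⟨g, hg⟩ := exists_conj (c.card_prime e hF) (CfsgLib.SL2Orders.two_ne_zero_of_odd hF) (c.act e x)
  exact ⟨g, fun l => by rw [← c.act_apply e x l]; exact hg (e l)⟩

theorem conjNormal_eq {x : ↥c.Cz ⧸ oddCore ↥c.Cz} {l : ↥c.L} :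
    MulAut.conjNormal x l = l ↔ x * (l : ↥c.Cz ⧸ oddCore ↥c.Cz) = l * x := by
  rw [Subtype.ext_iff, MulAut.conjNormal_apply, mul_inv_eq_iff_eq_mul]

/-- Centralising the quaternion subgroup means centralising the derived group. -/
theorem cent_L_of_cent_Qs (hF : Odd (Fintype.card F)) {x : ↥c.Cz ⧸ oddCore ↥c.Cz}
    (hx : ∀ q ∈ c.Qs, x * c.π (c.incl q) = c.π (c.incl q) * x) (l : ↥c.L) :
    x * (l : ↥c.Cz ⧸ oddCore ↥c.Cz) = l * x := by
  obtain ⟨g, hg⟩ := c.exists_gl e hF x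
  obtain ⟨hM, hx2, i, hi, hxy⟩ := c.sixteen e hF
  have hcomm : ∀ q (hq : q ∈ c.Qs), (e (⟨_, hq⟩ : ↥c.L)).1 * g.1 = g.1 * (e (⟨_, hq⟩ : ↥c.L)).1 := fun q hq => by
    have h := hg ⟨_, hq⟩
    rwa [(c.conjNormal_eq e).2 (hx q hq)] at h
  by_cases hs : g.1 0 1 = 0 ∧ g.1 1 0 = 0 ∧ g.1 0 0 = g.1 1 1
  · refine (c.conjNormal_eq e).1 (e.injective (Subtype.ext ?_))
    have h := hg l
    have hsc : g.1 * (e l).1 = (e l).1 * g.1 := by
      ext i j
      fin_cases i <;> fin_cases j <;> simp [Matrix.mul_apply, Fin.sum_univ_two, hs.1, hs.2.1, hs.2.2, mul_comm]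
    rw [hsc] at h
    have h2 := congrArg (fun M => M * (g⁻¹ : GL (Fin 2) F).1) h
    simp only [Matrix.mul_assoc, ← Units.val_mul, mul_inv_cancel, Units.val_one, Matrix.mul_one] at h2
    exact h2
  · exfalso
    have h := comm_of_commutant hs (hcomm _ hx2) (hcomm _ hxy)
    set A : ↥c.L := ⟨c.π (c.incl (c.d.x ^ (2 : ℤ))), hx2⟩
    set B : ↥c.L := ⟨c.π (c.incl (c.d.x ^ i * c.d.y)), hxy⟩
    have h1 : e A * e B = e B * e A := Subtype.ext h
    rw [← map_mul, ← map_mul] at h1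
    have h2 := congrArg Subtype.val (e.injective h1)
    simp only [A, B, Subgroup.coe_mul, ← map_mul] at h2
    have h3 := c.eq_of_π_eq (x := c.incl (c.d.x ^ (2 : ℤ) * (c.d.x ^ i * c.d.y)))
      (y := c.incl (c.d.x ^ i * c.d.y * c.d.x ^ (2 : ℤ))) (c.d.x ^ (2 : ℤ) * (c.d.x ^ i * c.d.y)).2 (c.d.x ^ i * c.d.y * c.d.x ^ (2 : ℤ)).2 h2
    have h4 : Commute (c.d.x ^ (2 : ℤ)) (c.d.x ^ i * c.d.y) := Subgroup.inclusion_injective c.S_le h3
    have := (CfsgLib.QD.commute_xy_iff c.d).1 h4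
    rw [hM] at this
    norm_num at this

/-- The kernel of the action. -/
theorem kernel (hF : Odd (Fintype.card F)) {x : ↥c.Cz ⧸ oddCore ↥c.Cz}
    (hx : ∀ l : ↥c.L, x * (l : ↥c.Cz ⧸ oddCore ↥c.Cz) = l * x) : x = 1 ∨ x = c.π c.zC := by
  haveI := Fact.mk Nat.prime_two
  classical
  set K := centralizer (c.L : Set (↥c.Cz ⧸ oddCore ↥c.Cz)) with hK
  haveI : K.Normal := inferInstance
  have hzK : c.π c.zC ∈ K := mem_centralizer_iff.2 fun l _ => by
    obtain ⟨w, rfl⟩ := c.π_surjective l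
    rw [← map_mul, ← map_mul, c.zC_comm w]
  have htwo : ∀ w ∈ K, ∀ k : ℕ, w ^ 2 ^ k = 1 → w = 1 ∨ w = c.π c.zC := by
    intro w hw k hk
    obtain ⟨v, hv⟩ := c.π_surjective w
    obtain ⟨j, r, hr, hord⟩ := Nat.exists_eq_two_pow_mul_odd (orderOf_pos v).ne'
    have hvr : (v ^ r) ^ 2 ^ j = 1 := by rw [← pow_mul, mul_comm, ← hord, pow_orderOf_eq_one]
    obtain ⟨g, hg⟩ := c.conj_into_S (T := zpowers (v ^ r)) (zpowers_two _ hvr)
    set s := g * v ^ r * g⁻¹ with hs
    have hsS := hg _ (mem_zpowers (v ^ r))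
    have hπs : c.π s = c.π g * w ^ r * (c.π g)⁻¹ := by
      rw [hs, map_mul, map_mul, map_inv, map_pow, hv]
    have hsK : c.π s ∈ K := by rw [hπs]; exact (inferInstance : K.Normal).conj_mem _ (pow_mem hw r) _
    have hcs : (⟨_, hsS⟩ : (c.S : Subgroup G)) = 1 ∨ (⟨_, hsS⟩ : (c.S : Subgroup G)) = c.d.z := by
      refine c.cent_Qs e hF fun q hq => ?_
      have h1 := mem_centralizer_iff.1 hsK _ hq
      rw [← map_mul, ← map_mul] at h1
      have h2 := c.eq_of_π_eq (x := c.incl q * s) (y := s * c.incl q) (mul_mem q.2 hsS) (mul_mem hsS q.2) h1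
      exact Subtype.ext (congrArg Subtype.val h2).symm
    have hwr : w ^ r = (c.π g)⁻¹ * c.π s * c.π g := by rw [hπs]; group
    obtain ⟨t, ht⟩ := exists_pow_eq_self_of_coprime (x := w) (n := r)
      (((Nat.coprime_two_right.2 hr).pow_right k).coprime_dvd_right (orderOf_dvd_of_pow_eq_one hk))
    rcases hcs with h | h
    · left
      have : s = 1 := Subtype.ext (congrArg Subtype.val h :)
      rw [← ht, hwr, this, map_one, mul_one, inv_mul_cancel, one_pow]
    · have : s = c.zC := Subtype.ext (congrArg Subtype.val h :)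
      have hwz : w ^ r = c.π c.zC := by
        rw [hwr, this, ← map_inv, ← map_mul, ← map_mul, mul_assoc, c.zC_comm g, inv_mul_cancel_left]
      have hzz : c.π c.zC * c.π c.zC = 1 := by rw [← map_mul, show c.zC * c.zC = 1 from Subtype.ext c.z_sq, map_one]
      rw [← ht, hwz]
      obtain ⟨u, rfl | rfl⟩ := Nat.even_or_odd' t
      · left; rw [pow_mul, pow_two, hzz, one_pow]
      · right; rw [pow_succ, pow_mul, pow_two, hzz, one_pow, one_mul]
  have hzz1 : c.π c.zC ≠ 1 := fun h => by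
    have := c.eq_of_π_eq (x := c.zC) (y := 1) c.z_mem (one_mem _) (by rw [h, map_one])
    exact c.z_ne_one (congrArg Subtype.val this)
  -- the two-part of the kernel has order two
  let zK : ↥K := ⟨_, hzK⟩
  have hzK2 : zK * zK = 1 := Subtype.ext (by
    show c.π c.zC * c.π c.zC = 1
    rw [← map_mul, show c.zC * c.zC = 1 from Subtype.ext c.z_sq, map_one])
  obtain ⟨n, hn⟩ : 2 ∣ Nat.card K := by
    have h : orderOf zK = 2 := orderOf_eq_prime (by rw [pow_two, hzK2]) fun h => hzz1 (congrArg Subtype.val h)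
    have h' := orderOf_dvd_natCard zK
    rwa [h] at h'
  have hnodd : Odd n := by
    by_contra hev
    let P : Sylow 2 ↥K := default
    have h4 : 4 ∣ Nat.card (P : Subgroup ↥K) := by
      obtain ⟨n', rfl⟩ := Nat.not_odd_iff_even.1 hev
      exact P.pow_dvd_card_of_pow_dvd_card (n := 2) ⟨n', by omega⟩
    have hle : Nat.card (P : Subgroup ↥K) ≤ 2 := by
      refine (Nat.card_le_card_of_surjective (α := Fin 2)
        (fun i => if i = 0 then 1 else if h : zK ∈ (P : Subgroup ↥K) then ⟨zK, h⟩ else 1) ?_).trans (by simp)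
      intro w
      obtain ⟨k, hk⟩ := P.2 w
      rcases htwo ((w : ↥K) : (↥c.Cz ⧸ oddCore ↥c.Cz)) (w : ↥K).2 k (congrArg (fun v : ↥(P : Subgroup ↥K) => ((v : ↥K) : (↥c.Cz ⧸ oddCore ↥c.Cz))) hk) with h | h
      · exact ⟨0, by simp only [if_pos]; exact (Subtype.ext (Subtype.ext h)).symm⟩
      · have hwz : (w : ↥K) = zK := Subtype.ext h
        refine ⟨1, ?_⟩
        simp only [show ((1 : Fin 2) = 0) = False from eq_false (by decide), if_false, dif_pos (hwz ▸ w.2)]
        exact Subtype.ext hwz.symm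
    have := Nat.le_of_dvd Nat.card_pos h4
    omega
  obtain ⟨K0, -, hK0⟩ := CfsgLib.RankTwoSimple.exists_index_two (G := ↥K) ⊥ (m := n)
    (by rw [index_bot, hn]) hnodd hzK2 (fun g hg => by
      rw [mem_bot] at hg
      have hz : zK = 1 := by
        rw [show zK = g * (g⁻¹ * zK * g) * g⁻¹ by group, hg, mul_one, mul_inv_cancel]
      exact hzz1 (congrArg Subtype.val hz))
  have hK0card : Nat.card K0 = n := by
    have h := K0.card_mul_index
    rw [hK0, hn] at h
    omega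
  have hodd_mem : ∀ w : ↥K, Odd (orderOf w) → w ∈ K0 := fun w ⟨j, hj⟩ => by
    have h1 := @Subgroup.pow_index_mem _ _ K0 (Subgroup.normal_of_index_eq_two hK0) w
    rw [hK0] at h1
    have h2 : (w ^ 2) ^ (j + 1) = w := by
      rw [← pow_mul, show 2 * (j + 1) = orderOf w + 1 by omega, pow_succ, pow_orderOf_eq_one, one_mul]
    exact h2 ▸ pow_mem h1 _
  have hK0bot : K0.map K.subtype = ⊥ := by
    haveI : (K0.map K.subtype).Normal := ⟨fun w hw g => by
      obtain ⟨w, hw, rfl⟩ := hw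
      refine ⟨⟨g * w * g⁻¹, (inferInstance : K.Normal).conj_mem _ w.2 g⟩, hodd_mem _ ?_, rfl⟩
      have h1 : orderOf (⟨g * w * g⁻¹, (inferInstance : K.Normal).conj_mem _ w.2 g⟩ : ↥K) = orderOf w := by
        rw [← Subgroup.orderOf_coe, ← Subgroup.orderOf_coe w]
        exact (orderOf_injective (MulAut.conj g).toMonoidHom (MulAut.conj g).injective (w : (↥c.Cz ⧸ oddCore ↥c.Cz)))
      rw [h1]
      refine (hK0card ▸ hnodd).of_dvd_nat ?_
      exact Subgroup.orderOf_dvd_natCard K0 hw⟩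
    have h := CfsgLib.le_oddCore (N := K0.map K.subtype) (by
      rw [card_map_of_injective K.subtype_injective, hK0card]; exact hnodd)
    rw [show oddCore (↥c.Cz ⧸ oddCore ↥c.Cz) = ⊥ from CfsgLib.pPrimeCore_quotient_eq_bot 2, le_bot_iff] at h
    exact h
  have hn1 : n = 1 := by
    rw [← hK0card, ← card_map_of_injective K.subtype_injective, hK0bot, card_bot]
  have hxK : x ∈ K := mem_centralizer_iff.2 fun l hl => (hx ⟨l, hl⟩).symm
  refine htwo x hxK 1 ?_
  have h := pow_card_eq_one' (x := (⟨x, hxK⟩ : ↥K))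
  rw [hn, hn1] at h
  exact congrArg Subtype.val h

/-- An odd element of the quotient centralising the quaternion subgroup is trivial. -/
theorem odd_cent_Qs (hF : Odd (Fintype.card F)) {x : ↥c.Cz ⧸ oddCore ↥c.Cz}
    (hx : ∀ q ∈ c.Qs, x * c.π (c.incl q) = c.π (c.incl q) * x) (ho : Odd (orderOf x)) : x = 1 := by
  rcases c.kernel e hF (c.cent_L_of_cent_Qs e hF hx) with h | h
  · exact h
  · rw [h] at ho ⊢
    have h2 : orderOf (c.π c.zC) ∣ 2 := orderOf_dvd_of_pow_eq_one (by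
      rw [pow_two, ← map_mul, show c.zC * c.zC = 1 from Subtype.ext c.z_sq, map_one])
    rcases (Nat.dvd_prime Nat.prime_two).1 h2 with h' | h'
    · exact orderOf_eq_one_iff.1 h'
    · rw [h'] at ho; exact absurd ho (by decide)

theorem ybar_not_mem (hF : Odd (Fintype.card F)) : c.ybar ∉ c.L := c.y_not_mem e hF

/-- A conjugation with square determinant comes from the derived group. -/
theorem mem_L_of_square (hF : Odd (Fintype.card F)) (w : ↥c.Cz ⧸ oddCore ↥c.Cz) (g : GL (Fin 2) F)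
    (hg : ∀ l : ↥c.L, (e (MulAut.conjNormal w l)).1 * g.1 = g.1 * (e l).1) (hsquare : IsSquare g.1.det) :
    w ∈ c.L := by
  classical
  obtain ⟨r, hr⟩ := hsquare
  obtain ⟨hzL, hze⟩ := c.exists_π_z e hF
  have hdet : g.1.det ≠ 0 := (g.isUnit.map Matrix.detMonoidHom).ne_zero
  have hr0 : r ≠ 0 := fun h => hdet (by rw [hr, h, mul_zero])
  let A : Matrix.SpecialLinearGroup (Fin 2) F := ⟨r⁻¹ • g.1, by
    rw [Matrix.det_smul, Fintype.card_fin, hr]; field_simp⟩
  set a : ↥c.L := e.symm A with ha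
  have key : ∀ l : ↥c.L, ((a : ↥c.Cz ⧸ oddCore ↥c.Cz)⁻¹ * w) * l = l * ((a : ↥c.Cz ⧸ oddCore ↥c.Cz)⁻¹ * w) := by
    intro l
    have h1 : e (MulAut.conjNormal w l) * A = A * e l := Subtype.ext (by
      show (e (MulAut.conjNormal w l)).1 * (r⁻¹ • g.1) = (r⁻¹ • g.1) * (e l).1
      rw [Matrix.mul_smul, Matrix.smul_mul, hg])
    rw [← e.apply_symm_apply A, ← ha, ← map_mul, ← map_mul] at h1
    have h2 := congrArg Subtype.val (e.injective h1)
    simp only [Subgroup.coe_mul, MulAut.conjNormal_apply] at h2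
    calc (a : ↥c.Cz ⧸ oddCore ↥c.Cz)⁻¹ * w * l = (a : ↥c.Cz ⧸ oddCore ↥c.Cz)⁻¹ * (w * l * w⁻¹ * a) * ((a : ↥c.Cz ⧸ oddCore ↥c.Cz)⁻¹ * w) := by group
      _ = _ := by rw [h2]; group
  rcases c.kernel e hF key with h | h
  · rw [inv_mul_eq_one] at h
    exact h ▸ a.2
  · rw [inv_mul_eq_iff_eq_mul] at h
    exact h ▸ mul_mem a.2 hzL

/-- The derived group has index two. -/
theorem cases_quot (hF : Odd (Fintype.card F)) (x : ↥c.Cz ⧸ oddCore ↥c.Cz) : x ∈ c.L ∨ x * c.ybar ∈ c.L := by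
  classical
  have hsq := c.mem_L_of_square e hF
  by_cases hx : x ∈ c.L
  · exact Or.inl hx
  right
  obtain ⟨g, hg⟩ := c.exists_gl e hF x
  obtain ⟨g', hg'⟩ := c.exists_gl e hF c.ybar
  refine hsq _ (g * g') (fun l => ?_) ?_
  · rw [map_mul, MulAut.mul_apply, Units.val_mul, ← Matrix.mul_assoc, hg, Matrix.mul_assoc, hg', ← Matrix.mul_assoc]
  · have h1 : ¬ IsSquare g.1.det := fun h => hx (hsq x g hg h)
    have h2 : ¬ IsSquare g'.1.det := fun h => c.ybar_not_mem e hF (hsq _ g' hg' h)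
    have hdet : ∀ u : GL (Fin 2) F, u.1.det ≠ 0 := fun u => (u.isUnit.map Matrix.detMonoidHom).ne_zero
    have h2F : ringChar F ≠ 2 := by
      intro h
      exact CfsgLib.SL2Orders.two_ne_zero_of_odd hF (by
        haveI : CharP F 2 := h ▸ ringChar.charP F
        exact CharTwo.two_eq_zero)
    rw [Units.val_mul, Matrix.det_mul, ← quadraticChar_one_iff_isSquare (mul_ne_zero (hdet g) (hdet g')), map_mul,
      quadraticChar_neg_one_iff_not_isSquare.2 h1, quadraticChar_neg_one_iff_not_isSquare.2 h2]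
    norm_num

/-- The quaternion subgroup centralises the core. -/
theorem Qs_cent_O (hF : Odd (Fintype.card F)) {q : (c.S : Subgroup G)} (hq : q ∈ c.Qs) {u : ↥c.Cz}
    (hu : u ∈ oddCore ↥c.Cz) : c.incl q * u = u * c.incl q := by
  haveI := Fact.mk Nat.prime_two
  set O := oddCore ↥c.Cz with hO
  set M := O ⊓ centralizer ({c.incl q} : Set ↥c.Cz) with hMdef
  suffices hle : Nat.card O ≤ Nat.card M by
    have := eq_of_le_of_card_ge (inf_le_left : M ≤ O) hle
    exact (mem_centralizer_singleton_iff.1 (this.ge hu).2).symm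
  refine Nat.le_of_dvd Nat.card_pos ?_
  rw [Nat.dvd_iff_prime_pow_dvd_dvd]
  intro r k hr hdvd
  haveI := Fact.mk hr
  rcases Nat.eq_zero_or_pos k with rfl | hk
  · simp
  have hrO : r ∣ Nat.card O := (dvd_pow_self r hk.ne').trans hdvd
  have hr2 : r ≠ 2 := fun h => by
    subst h
    exact Nat.not_even_iff_odd.2 c.odd_O (even_iff_two_dvd.2 hrO)
  set Sz : Subgroup ↥c.Cz := (c.S : Subgroup G).subgroupOf c.Cz
  have hSzp : IsPGroup 2 Sz := c.S.2.comap_subtype
  have hcop : (Nat.card Sz).Coprime (Nat.card O) := by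
    obtain ⟨n, hn⟩ := IsPGroup.iff_card.1 hSzp
    rw [hn]
    exact (Nat.coprime_two_left.2 c.odd_O).pow_left n
  haveI := hSzp.isNilpotent
  obtain ⟨P, hP⟩ := CfsgLib.coprime_exists_invariant_sylow (A := Sz) (K := O)
    (by rw [normalizer_eq_top]; exact le_top) hcop (Or.inl inferInstance) r
  set R := (P : Subgroup ↥O).map O.subtype with hR
  have hRO : R ≤ O := map_subtype_le _
  have hRp : IsPGroup r R := P.2.map _
  have hR1 : R ≠ ⊥ := by
    intro hb
    have h1 := P.card_eq_multiplicity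
    rw [← card_map_of_injective O.subtype_injective, ← hR, hb, card_bot] at h1
    have h2 := Nat.Prime.factorization_pos_of_dvd hr Nat.card_pos.ne' hrO
    exact absurd h1.symm (Nat.one_lt_pow h2.ne' hr.one_lt).ne'
  obtain ⟨z₀, hz, hz1⟩ := exists_omegaZ hRp hR1
  set N := normalizer (R : Set ↥c.Cz) with hN
  have hcover : ∀ x : ↥c.Cz, ∃ o ∈ O, o * x ∈ N := fun x => by
    have h := Sylow.normalizer_sup_eq_top (N := O) P
    have hx : x ∈ normalizer (R : Set ↥c.Cz) ⊔ O := by rw [h]; exact mem_top _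
    rw [sup_comm, ← SetLike.mem_coe, Subgroup.normal_mul] at hx
    obtain ⟨o, ho, n, hn, hon⟩ := hx
    refine ⟨o⁻¹, inv_mem ho, ?_⟩
    rw [← show o * n = x from hon, inv_mul_cancel_left]
    exact hn
  have hqN : c.incl q ∈ N := by
    have h : c.incl q ∈ Sz := q.2
    exact hP h
  have hqd : ∃ cc ∈ ⁅N, N⁆, cc⁻¹ * c.incl q ∈ O := by
    have hπN : N.map c.π = ⊤ := eq_top_iff.2 fun x _ => by
      obtain ⟨w, rfl⟩ := c.π_surjective x
      obtain ⟨o, ho, hn⟩ := hcover w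
      exact ⟨_, hn, by rw [map_mul, c.π_eq_one.2 ho, one_mul]⟩
    have h1 : c.π (c.incl q) ∈ (⁅N, N⁆).map c.π := by
      rw [map_commutator, hπN]; exact hq
    obtain ⟨cc, hcc, hπ⟩ := h1
    exact ⟨cc, hcc, c.π_eq.1 hπ⟩
  obtain ⟨cc, hcc, hoO⟩ := hqd
  have hccN : cc ∈ N := (commutator_le.2 fun a ha b hb => by
    rw [commutatorElement_def]; exact mul_mem (mul_mem (mul_mem ha hb) (inv_mem ha)) (inv_mem hb)) hcc
  obtain ⟨j, hj⟩ := c.two_pow_of_mem_S (x := c.incl q) q.2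
  have hfix : c.incl q * z₀ * (c.incl q)⁻¹ = z₀ := by
    refine Subtype.ext (derived_fix c.hom c.S c.hQD hr2 (R := R.map c.Cz.subtype) c.orderOf_z
      (c.z_mem_centralizer _) (N := N.map c.Cz.subtype) ?_ (g := (c.incl q : G)) (c := (cc : G))
      (o := ((cc⁻¹ * c.incl q : ↥c.Cz) : G)) ?_ ⟨_, mul_mem (inv_mem hccN) hqN, rfl⟩ ?_ ?_
      (j := j) ?_ (z₀ : G) ?_)
    · rintro _ ⟨n, hn, rfl⟩; exact mem_normalizer_map _ hn
    · rw [← map_commutator]; exact ⟨cc, hcc, rfl⟩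
    · show (c.incl q : G) = ((cc * (cc⁻¹ * c.incl q) : ↥c.Cz) : G)
      rw [mul_inv_cancel_left]
    · rw [Subgroup.orderOf_coe]; exact c.odd_of_mem_O hoO
    · rw [← SubmonoidClass.coe_pow, hj]; rfl
    · exact ⟨⟨z₀, hz.1, rfl⟩, by
        rintro _ ⟨y, hy, rfl⟩; exact congrArg Subtype.val (hz.2.1 y hy), by
        rw [← SubmonoidClass.coe_pow, hz.2.2]; rfl⟩
  have hcent := c.two_fixesC hr2 hRp hz hz1 j (c.incl q) hj hqN hfix
  have hRM : R ≤ M := fun x hx => ⟨hRO hx, mem_centralizer_singleton_iff.2 (mul_inv_eq_iff_eq_mul.1 (hcent x hx)).symm⟩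
  refine dvd_trans ?_ (card_dvd_of_le hRM)
  rw [hR, card_map_of_injective O.subtype_injective]
  exact P.pow_dvd_card_of_pow_dvd_card hdvd

end Ctx

end CfsgLib.Homogeneous.SD
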