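import Cfsg.Agent.Lib.Homogeneous.SD.Order
import Cfsg.Agent.Lib.Homogeneous.Elem
import Cfsg.Agent.Lib.CentralizeOmega
import Cfsg.Agent.Lib.SuborbitGroups.SDCore

/-!
Elements of order prime to thirty inverted by an involution: their centralisers are abelian, and the parts of
order prime to five form trivial intersection sets.
-/

set_option autoImplicit false
set_option linter.unusedSectionVars false
set_option linter.style.haveILetI false

namespace CfsgLib.Homogeneous.SD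

open Cfsg Subgroup Module
open scoped commutatorElement IsMulCommutative

universe u

variable {G : Type u} [Group G] [Finite G]

/-- A nontrivial element of order prime to thirty. -/
def Free (g : G) : Prop := g ≠ 1 ∧ (orderOf g).Coprime 30

theorem orderOf_conj (k g : G) : orderOf (k * g * k⁻¹) = orderOf g := (MulAut.conj k).orderOf_eq g

theorem Free.conj {g : G} (hg : Free g) (k : G) : Free (k * g * k⁻¹) :=
  ⟨fun h => hg.1 (conj_eq_one_iff.1 h), by rw [orderOf_conj]; exact hg.2⟩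

theorem free_of_not_dvd {g : G} (h1 : g ≠ 1) (h2 : ¬ 2 ∣ orderOf g) (h3 : ¬ 3 ∣ orderOf g) (h5 : ¬ 5 ∣ orderOf g) :
    Free g :=
  ⟨h1, (((Nat.prime_two.coprime_iff_not_dvd.2 h2).mul_left (Nat.prime_three.coprime_iff_not_dvd.2 h3)).mul_left
    (Nat.prime_five.coprime_iff_not_dvd.2 h5)).symm⟩

theorem Free.not_dvd {g : G} (hg : Free g) {p : ℕ} (hp : p = 2 ∨ p = 3 ∨ p = 5) : ¬ p ∣ orderOf g := fun h => by
  have hd : p ∣ Nat.gcd (orderOf g) 30 := Nat.dvd_gcd h (by rcases hp with rfl | rfl | rfl <;> norm_num)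
  rw [hg.2.gcd_eq_one] at hd
  rcases hp with rfl | rfl | rfl <;> norm_num at hd

theorem comm_of_inverted {M : Subgroup G} {u : G} (h : ∀ x ∈ M, u * x * u⁻¹ = x⁻¹) :
    ∀ x ∈ M, ∀ y ∈ M, x * y = y * x := by
  intro x hx y hy
  have e1 : (y * x)⁻¹ = x⁻¹ * y⁻¹ := mul_inv_rev y x
  have e2 : u * (x * y) * u⁻¹ = x⁻¹ * y⁻¹ := by
    rw [show u * (x * y) * u⁻¹ = u * x * u⁻¹ * (u * y * u⁻¹) by group, h x hx, h y hy]
  rw [h _ (mul_mem hx hy), ← e1] at e2
  exact inv_injective e2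

/-- Elements commuting with a subgroup and with an element whose cardinalities multiply to that of a group
commute with all of it. -/
theorem mem_of_full {H K N : Subgroup G} {d : G} (hKH : K ≤ H) (hN : N ≤ K) (hd : d ∈ K)
    (hcop : (Nat.card ↥N).Coprime (orderOf d)) (hcard : Nat.card ↥N * orderOf d = Nat.card ↥H) : H ≤ K := by
  refine (eq_of_le_of_card_ge hKH ?_).ge
  rw [← hcard]
  refine Nat.le_of_dvd Nat.card_pos (hcop.mul_dvd_of_dvd_of_dvd (card_dvd_of_le hN) ?_)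
  rw [← Nat.card_zpowers]
  exact card_dvd_of_le (zpowers_le.2 hd)

namespace Five

variable (D : Five G) [IsSimpleGroup G]
include D

/-- Elements commuting with a free element have order prime to six. -/
theorem free_cent {g w : G} (hg : Free g) (hw : w * g = g * w) : ¬ 2 ∣ orderOf w ∧ ¬ 3 ∣ orderOf w := by
  constructor
  · intro h
    set t := w ^ (orderOf w / 2) with ht
    have hto : orderOf t = 2 := orderOf_pow_orderOf_div (orderOf_pos w).ne' h
    have htg : t * g = g * t := ((show Commute w g from hw).pow_left _).eq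
    obtain ⟨k, hk⟩ := D.c.exists_conj_z hto
    have hgz : k⁻¹ * g * k * D.c.z = D.c.z * (k⁻¹ * g * k) := by
      calc k⁻¹ * g * k * D.c.z = k⁻¹ * (g * (k * D.c.z * k⁻¹)) * k := by group
        _ = k⁻¹ * (k * D.c.z * k⁻¹ * g) * k := by rw [hk, htg]
        _ = _ := by group
    set xC : ↥D.c.Cz := ⟨k⁻¹ * g * k, mem_centralizer_singleton_iff.2 hgz⟩ with hxC
    have hord : orderOf xC = orderOf g := by
      rw [← Subgroup.orderOf_coe]
      show orderOf (k⁻¹ * g * k) = _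
      simpa using orderOf_conj k⁻¹ g
    have hd : orderOf g ∣ 8 ∨ orderOf g ∣ 10 ∨ orderOf g ∣ 6 := by
      rw [← hord]
      rcases Model.order_dvd _ (D.co_mem xC) with e | e | e <;>
        rw [← D.co_pow, ← D.co_one] at e
      · exact Or.inl (orderOf_dvd_of_pow_eq_one (D.co_injective e))
      · exact Or.inr (Or.inl (orderOf_dvd_of_pow_eq_one (D.co_injective e)))
      · exact Or.inr (Or.inr (orderOf_dvd_of_pow_eq_one (D.co_injective e)))
    refine hg.1 (orderOf_eq_one_iff.1 ?_)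
    rcases hd with h' | h' | h'
    · exact Nat.eq_one_of_dvd_coprimes ((Nat.prime_two.coprime_iff_not_dvd.2 (hg.not_dvd (Or.inl rfl))).pow_left 3)
        h' dvd_rfl
    · exact Nat.eq_one_of_dvd_coprimes hg.2 dvd_rfl (h'.trans ⟨3, rfl⟩)
    · exact Nat.eq_one_of_dvd_coprimes hg.2 dvd_rfl (h'.trans ⟨5, rfl⟩)
  · intro h
    set t := w ^ (orderOf w / 3) with ht
    have hto : orderOf t = 3 := orderOf_pow_orderOf_div (orderOf_pos w).ne' h
    have htg : t * g = g * t := ((show Commute w g from hw).pow_left _).eq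
    obtain ⟨k, hk⟩ := D.three_conj hto
    have hgm : k⁻¹ * g * k ∈ D.X := D.mem_X.2 (by
      calc k⁻¹ * g * k * D.m = k⁻¹ * (g * (k * D.m * k⁻¹)) * k := by group
        _ = k⁻¹ * (k * D.m * k⁻¹ * g) * k := by rw [hk, htg]
        _ = _ := by group)
    have h1 := Subgroup.orderOf_dvd_natCard D.X hgm
    rw [D.cent_m_data.2.1, show orderOf (k⁻¹ * g * k) = orderOf g by simpa using orderOf_conj k⁻¹ g] at h1
    exact hg.1 (orderOf_eq_one_iff.1 (Nat.eq_one_of_dvd_coprimes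
      (((Nat.prime_two.coprime_iff_not_dvd.2 (hg.not_dvd (Or.inl rfl))).pow_left 2).mul_left
        ((Nat.prime_three.coprime_iff_not_dvd.2 (hg.not_dvd (Or.inr (Or.inl rfl)))).pow_left 2)) h1 dvd_rfl))

theorem cz_part {x : G} (hz : x * D.c.z = D.c.z * x) (h2 : ¬ 2 ∣ orderOf x) (h3 : ¬ 3 ∣ orderOf x) : x ^ 5 = 1 := by
  set xC : ↥D.c.Cz := ⟨x, mem_centralizer_singleton_iff.2 hz⟩ with hxC
  have hord : orderOf xC = orderOf x := (Subgroup.orderOf_coe xC).symm
  refine orderOf_dvd_iff_pow_eq_one.1 ?_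
  have c2 : (orderOf x).Coprime 2 := (Nat.prime_two.coprime_iff_not_dvd.2 h2).symm
  have c3 : (orderOf x).Coprime 3 := (Nat.prime_three.coprime_iff_not_dvd.2 h3).symm
  rcases Model.order_dvd _ (D.co_mem xC) with e | e | e <;> rw [← D.co_pow, ← D.co_one] at e <;>
    have e' := orderOf_dvd_of_pow_eq_one (D.co_injective e) <;> rw [hord] at e'
  · rw [Nat.eq_one_of_dvd_coprimes (c2.pow_right 3) dvd_rfl e']; exact one_dvd _
  · exact c2.dvd_of_dvd_mul_left (show orderOf x ∣ 2 * 5 from e')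
  · rw [Nat.eq_one_of_dvd_coprimes (c2.mul_right c3) dvd_rfl e']; exact one_dvd _

theorem five_mem {d g : G} (hd : orderOf d = 5) (hg : g * d * g⁻¹ ∈ zpowers d) {k : ℕ} (hk : g ^ 5 ^ k = 1) :
    g ∈ zpowers d := by
  haveI : Fact (Nat.Prime 5) := ⟨Nat.prime_five⟩
  have hgn : zpowers g ≤ normalizer ((zpowers d : Subgroup G) : Set G) :=
    zpowers_le.2 (mem_normalizer_zpowers (isOfFinOrder_of_finite _) hg)
  obtain ⟨j, -, hj⟩ := (Nat.dvd_prime_pow Nat.prime_five).1 (orderOf_dvd_of_pow_eq_one hk)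
  have hP : IsPGroup 5 ↥(zpowers g ⊔ zpowers d) := IsPGroup.to_sup_of_normal_right'
    (IsPGroup.of_card (n := j) (by rw [Nat.card_zpowers, hj]))
    (IsPGroup.of_card (n := 1) (by rw [Nat.card_zpowers, hd, pow_one])) hgn
  obtain ⟨e, he⟩ := IsPGroup.iff_card.1 hP
  have hle : Nat.card ↥(zpowers g ⊔ zpowers d) ≤ 5 := by
    rcases Nat.lt_or_ge e 2 with h | h
    · rw [he]; interval_cases e <;> norm_num
    · exact absurd ((pow_dvd_pow 5 h).trans (he ▸ card_subgroup_dvd_card _)) D.not_twenty_five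
  have heq : zpowers d = zpowers g ⊔ zpowers d := eq_of_le_of_card_ge le_sup_right (by
    rw [Nat.card_zpowers d, hd]; exact hle)
  rw [heq]
  exact mem_sup_left (mem_zpowers g)

/-- The complement to the Sylow 5-subgroup in a subgroup centralised by it modulo its normaliser. -/
theorem compl_five {H : Subgroup G} {d : G} (hd : orderOf d = 5) (hdH : d ∈ H)
    (hodd : ∀ x ∈ H, ¬ 2 ∣ orderOf x) :
    ∃ N : Subgroup G, N ≤ H ∧ (∀ x ∈ H, x ∈ N ↔ ¬ 5 ∣ orderOf x) ∧ Nat.card ↥N * orderOf d = Nat.card ↥H ∧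
      (Nat.card ↥N).Coprime (orderOf d) := by
  haveI : Fact (Nat.Prime 5) := ⟨Nat.prime_five⟩
  obtain ⟨N, hNH, -, hiff, hcard⟩ := exists_compl (p := 5) (H := H) (T := zpowers d)
    (IsPGroup.of_card (n := 1) (by rw [Nat.card_zpowers, hd, pow_one])) (zpowers_le.2 hdH)
    (fun g _ hgn ⟨k, hk⟩ => D.five_mem hd (hgn d (mem_zpowers _)) hk) (fun g hg hgn t ht => by
      have h1 : g * d * g⁻¹ = d := fix_of_coprime hd (hgn d (mem_zpowers _))
        (((Nat.prime_two.coprime_iff_not_dvd.2 (hodd g hg)).symm).pow_right 2)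
      obtain ⟨i, rfl⟩ := ht
      exact ((show Commute g d from mul_inv_eq_iff_eq_mul.1 h1).zpow_right i).eq)
  refine ⟨N, hNH, hiff, by rw [← hcard, Nat.card_zpowers], ?_⟩
  rw [hd]
  refine (Nat.prime_five.coprime_iff_not_dvd.2 fun h5 => ?_).symm
  obtain ⟨⟨w, hw⟩, hwo⟩ := exists_prime_orderOf_dvd_card' 5 h5
  rw [Subgroup.orderOf_mk] at hwo
  exact (hiff w (hNH hw)).1 hw (hwo ▸ dvd_rfl)

theorem exists_cM : ∃ M : Subgroup G, (∀ x, x ∈ M ↔ x * D.cG = D.cG * x ∧ ¬ 2 ∣ orderOf x ∧ ¬ 5 ∣ orderOf x) ∧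
    (∀ x ∈ M, D.c.z * x * D.c.z⁻¹ = x⁻¹) := by
  haveI := Fact.mk Nat.prime_two
  obtain ⟨N, hNH, hNn, hNiff, -⟩ := exists_compl D.z_zpowers_two D.zpowers_z_le D.z_max (fun g _ hgn t ht => by
    have h1 : g * D.c.z * g⁻¹ = D.c.z :=
      fix_of_coprime D.c.orderOf_z (hgn _ (mem_zpowers _)) (Nat.coprime_one_right _)
    obtain ⟨l, rfl⟩ := ht
    exact ((show Commute g D.c.z from mul_inv_eq_iff_eq_mul.1 h1).zpow_right l).eq)
  have hcN : D.cG ∈ N := (hNiff _ (mem_centralizer_singleton_iff.2 rfl)).2 (by rw [D.orderOf_c]; norm_num)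
  obtain ⟨M, hMN, hMiff, -, -⟩ := D.compl_five D.orderOf_c hcN fun x hx => (hNiff x (hNH hx)).1 hx
  have hmem : ∀ x, x ∈ M ↔ x * D.cG = D.cG * x ∧ ¬ 2 ∣ orderOf x ∧ ¬ 5 ∣ orderOf x := by
    refine fun x => ⟨fun hx => ⟨mem_centralizer_singleton_iff.1 (hNH (hMN hx)), (hNiff x (hNH (hMN hx))).1 (hMN hx),
      (hMiff x (hMN hx)).1 hx⟩, fun ⟨h1, h2, h5⟩ => (hMiff x ?_).2 h5⟩
    exact (hNiff x (mem_centralizer_singleton_iff.2 h1)).2 h2
  refine ⟨M, hmem, fun x hx => ?_⟩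
  have hzi : D.c.z⁻¹ = D.c.z := inv_eq_of_mul_eq_one_right D.c.z_sq
  have h := (CfsgLib.SuborbitGroups.SD.inverts (O := M) D.c.z_sq (fun u hu => ?_) (fun u hu h => ?_) x hx).2
  · rw [hzi]; exact h
  · obtain ⟨h1, h2, h5⟩ := (hmem u).1 hu
    nth_rewrite 2 [← hzi]
    refine (hmem _).2 ⟨?_, by rwa [orderOf_conj], by rwa [orderOf_conj]⟩
    have hc : Commute D.c.z D.cG := (show Commute D.cG D.c.z from D.c_z).symm
    exact ((hc.mul_left h1).mul_left hc.inv_left).eq
  · obtain ⟨h1, h2, h5⟩ := (hmem u).1 hu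
    obtain ⟨a, b, hab⟩ := D.cent_cz h.symm h1
    have h10 : u ^ (2 * 5) = 1 := by
      rw [hab, ((show Commute D.cG D.c.z from D.c_z).symm.pow_pow a b).mul_pow, ← pow_mul, ← pow_mul,
        show a * (2 * 5) = 2 * (a * 5) by ring, show b * (2 * 5) = 5 * (b * 2) by ring, pow_mul D.c.z 2, pow_mul D.cG 5, pow_two,
        D.c.z_sq, show D.cG ^ 5 = 1 from D.orderOf_c ▸ pow_orderOf_eq_one _, one_pow, one_pow, one_mul]
    exact orderOf_eq_one_iff.1 (Nat.eq_one_of_dvd_coprimes ((Nat.prime_two.coprime_iff_not_dvd.2 h2).mul_left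
      (Nat.prime_five.coprime_iff_not_dvd.2 h5)) (orderOf_dvd_of_pow_eq_one h10) dvd_rfl)

/-- The part of order prime to five of the centraliser of a real element. -/
theorem real_cent {g u : G} (hg : Free g) (hu : orderOf u = 2) (hinv : u * g * u⁻¹ = g⁻¹) :
    ∃ M : Subgroup G, (∀ x, x ∈ M ↔ x * g = g * x ∧ ¬ 5 ∣ orderOf x) ∧ ∀ x ∈ M, u * x * u⁻¹ = x⁻¹ := by
  have huu : u * u = 1 := CfsgLib.Involutions.mul_self_eq_one_of_orderOf hu
  have hui : u⁻¹ = u := inv_eq_of_mul_eq_one_right huu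
  set H := centralizer ({g} : Set G) with hH
  have hmemH : ∀ x, x ∈ H ↔ x * g = g * x := fun x => mem_centralizer_singleton_iff
  have hHu : ∀ x ∈ H, u * x * u⁻¹ ∈ H := fun x hx => by
    refine (hmemH _).2 ?_
    have h1 : Commute (u * x * u⁻¹) (u * g * u⁻¹) :=
      (show Commute x g from (hmemH x).1 hx).map (MulAut.conj u).toMonoidHom
    rw [hinv] at h1
    exact (Commute.inv_right_iff.1 h1).eq
  by_cases hfix : ∀ x ∈ H, u * x = x * u → x = 1
  · have hinvH : ∀ x ∈ H, u * x * u⁻¹ = x⁻¹ := fun x hx => by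
      rw [hui]
      exact (CfsgLib.SuborbitGroups.SD.inverts (O := H) huu (fun a ha => by
        have := hHu a ha; rwa [hui] at this) hfix x hx).2
    refine ⟨H, fun x => ⟨fun hx => ⟨(hmemH x).1 hx, fun h5 => ?_⟩, fun hx => (hmemH x).2 hx.1⟩, hinvH⟩
    refine D.five_not_inverted (x := x ^ (orderOf x / 5)) (orderOf_pow_orderOf_div (orderOf_pos x).ne' h5) hu ?_
    rw [← conj_pow, hinvH x hx, inv_pow]
  push Not at hfix
  obtain ⟨d, hdH, hdu, hd1⟩ := hfix
  obtain ⟨k, hk⟩ := D.c.exists_conj_z hu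
  have hpow5 : ∀ x ∈ H, u * x = x * u → x ^ 5 = 1 := by
    intro x hx hxu
    obtain ⟨h2, h3⟩ := D.free_cent hg ((hmemH x).1 hx)
    have e : orderOf (k⁻¹ * x * k) = orderOf x := by simpa using orderOf_conj k⁻¹ x
    have h := D.cz_part (x := k⁻¹ * x * k) (by
      calc k⁻¹ * x * k * D.c.z = k⁻¹ * (x * (k * D.c.z * k⁻¹)) * k := by group
        _ = k⁻¹ * (k * D.c.z * k⁻¹ * x) * k := by rw [hk, hxu]
        _ = _ := by group) (e ▸ h2) (e ▸ h3)
    rw [← orderOf_dvd_iff_pow_eq_one, e, orderOf_dvd_iff_pow_eq_one] at h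
    exact h
  haveI : Fact (Nat.Prime 5) := ⟨Nat.prime_five⟩
  have hd5 : orderOf d = 5 := orderOf_eq_prime (hpow5 d hdH hdu) hd1
  obtain ⟨N, hNH, hiff, -, -⟩ := D.compl_five hd5 hdH fun x hx => (D.free_cent hg ((hmemH x).1 hx)).1
  refine ⟨N, fun x => ⟨fun hx => ⟨(hmemH x).1 (hNH hx), (hiff x (hNH hx)).1 hx⟩, fun hx =>
    (hiff x ((hmemH x).2 hx.1)).2 hx.2⟩, fun x hx => ?_⟩
  rw [hui]
  refine (CfsgLib.SuborbitGroups.SD.inverts (O := N) huu (fun a ha => ?_) (fun a ha h => ?_) x hx).2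
  · have h1 := hHu a (hNH ha)
    rw [show u * a * u = u * a * u⁻¹ by rw [hui]]
    exact (hiff _ h1).2 (by rw [orderOf_conj]; exact (hiff a (hNH ha)).1 ha)
  · rcases (Nat.dvd_prime Nat.prime_five).1 (orderOf_dvd_of_pow_eq_one (hpow5 a (hNH ha) h)) with e | e
    · exact orderOf_eq_one_iff.1 e
    · exact absurd (e ▸ dvd_rfl) ((hiff a (hNH ha)).1 ha)

/-- The element of order five centralises an elementary subgroup which it normalises along with the element
acting on it as a square. -/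
theorem fix_aux {r : ℕ} [Fact r.Prime] (hr2 : r ≠ 2) (hr3 : r ≠ 3) (hr5 : r ≠ 5) (E : Subgroup G)
    [IsMulCommutative ↥E] [Module (ZMod r) (Additive ↥E)] (hexp : ∀ x ∈ E, x ^ r = 1)
    (hinv : ∀ x ∈ E, D.c.z * x * D.c.z⁻¹ = x⁻¹) {g : G} (hgC : g * D.cG * g⁻¹ = D.cG ^ 2)
    (hcE : ∀ x ∈ E, D.cG * x * D.cG⁻¹ ∈ E) (hgE : ∀ x ∈ E, g * x * g⁻¹ ∈ E) :
    ∀ x ∈ E, D.cG * x * D.cG⁻¹ = x := by
  haveI : Finite (Additive ↥E) := inferInstanceAs (Finite ↥E)
  haveI : FiniteDimensional (ZMod r) (Additive ↥E) := Module.Finite.of_finite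
  let cN : normalizer (E : Set G) := ⟨D.cG, mem_normalizer_of_conj hcE⟩
  by_cases hs : Lin.IsScalar (linOf (p := r) cN)
  · intro x hx
    obtain ⟨i, hi⟩ := scalar_pow hs
    have hci : ∀ a ∈ E, D.cG * a * D.cG⁻¹ = a ^ i := fun a ha => by
      have h := congrArg Subtype.val (hi ⟨a, ha⟩)
      rw [linOf_apply, SubmonoidClass.coe_pow] at h
      exact h
    have hgi : g⁻¹ * x * g ∈ E := (mem_normalizer_iff''.1 (mem_normalizer_of_conj hgE) x).1 hx
    have h2 : D.cG * (D.cG * x * D.cG⁻¹) * D.cG⁻¹ = D.cG * x * D.cG⁻¹ := by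
      calc D.cG * (D.cG * x * D.cG⁻¹) * D.cG⁻¹ = D.cG ^ 2 * x * (D.cG ^ 2)⁻¹ := by rw [pow_two]; group
        _ = g * (D.cG * (g⁻¹ * x * g) * D.cG⁻¹) * g⁻¹ := by rw [← hgC]; group
        _ = (g * (g⁻¹ * x * g) * g⁻¹) ^ i := by rw [hci _ hgi, conj_pow]
        _ = _ := by rw [hci x hx]; group
    exact mul_left_cancel (mul_right_cancel h2)
  exfalso
  haveI := D.c.hom.autzLin_normal r E
  have h2 : (2 : ZMod r) ≠ 0 := fun e => hr2 ((Nat.prime_dvd_prime_iff_eq (Fact.out : r.Prime) Nat.prime_two).1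
    ((ZMod.natCast_eq_zero_iff 2 r).1 (by exact_mod_cast e)))
  have h3 : (3 : ZMod r) ≠ 0 := fun e => hr3 ((Nat.prime_dvd_prime_iff_eq (Fact.out : r.Prime) Nat.prime_three).1
    ((ZMod.natCast_eq_zero_iff 3 r).1 (by exact_mod_cast e)))
  have hd : 2 ≤ finrank (ZMod r) (Additive ↥E) := by
    by_contra hlt
    obtain ⟨v, hv⟩ := finrank_le_one_iff.1 (show finrank (ZMod r) (Additive ↥E) ≤ 1 by omega)
    obtain ⟨a, ha⟩ := hv (linOf (p := r) cN v)
    refine hs ⟨a, fun w => ?_⟩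
    obtain ⟨b, rfl⟩ := hv w
    rw [map_smul, ← ha, smul_comm]
  obtain ⟨f, v, hfv, hf, hv, hmem⟩ : ∃ (f : Dual (ZMod r) (Additive ↥E)) (v : Additive ↥E) (h : f v = 0),
      f ≠ 0 ∧ v ≠ 0 ∧ LinearEquiv.transvection h ∈ autzLin r E := by
    rcases hd.eq_or_lt with e | e
    · exact Lin.exists_tv_of_two e.symm h2 h3 (linOf_mem (p := r) cN) hs
    · exact Lin.exists_tv_of_three e (linOf_mem (p := r) cN) hs
  obtain ⟨k, hk⟩ := mem_autzLin.1 hmem
  have hk1 : ∀ x : Additive ↥E, k * ((Additive.toMul x : ↥E) : G) * k⁻¹ = ((Additive.toMul (x + f x • v) : ↥E) : G) :=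
    fun x => by
      rw [hk, ofMul_toMul, LinearEquiv.transvection.apply]
  have hkn : ∀ (n : ℕ) (x : Additive ↥E),
      k ^ n * ((Additive.toMul x : ↥E) : G) * (k ^ n)⁻¹ = ((Additive.toMul (x + (n : ZMod r) • (f x • v)) : ↥E) : G) := by
    intro n
    induction n with
    | zero => intro x; simp
    | succ n ih =>
      intro x
      rw [show k ^ (n + 1) * ((Additive.toMul x : ↥E) : G) * (k ^ (n + 1))⁻¹ =
        k * (k ^ n * ((Additive.toMul x : ↥E) : G) * (k ^ n)⁻¹) * k⁻¹ by rw [pow_succ']; group, ih, hk1]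
      congr 2
      rw [map_add, map_smul, map_smul, hfv, smul_zero, smul_zero, add_zero, Nat.cast_succ, add_smul, one_smul]
      abel
  set e0 := ((Additive.toMul v : ↥E) : G) with he0
  have he0E : e0 ∈ E := (Additive.toMul v).2
  have hke0 : k * e0 * k⁻¹ = e0 := by rw [he0, hk1, hfv, zero_smul, add_zero]
  have hv1 : e0 ≠ 1 := fun e => hv (Additive.toMul.injective (Subtype.ext e))
  have hord : orderOf e0 = r := orderOf_eq_prime (hexp _ he0E) hv1
  have hfree : Free e0 := by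
    refine ⟨hv1, ?_⟩
    rw [hord]
    exact ((Nat.coprime_primes (Fact.out : r.Prime) Nat.prime_two).2 hr2).mul_right
      ((Nat.coprime_primes (Fact.out : r.Prime) Nat.prime_three).2 hr3) |>.mul_right
      ((Nat.coprime_primes (Fact.out : r.Prime) Nat.prime_five).2 hr5)
  obtain ⟨M, hM, hMinv⟩ := D.real_cent hfree D.c.orderOf_z (hinv _ he0E)
  have hMc := comm_of_inverted hMinv
  have h5E : ∀ x ∈ E, ¬ 5 ∣ orderOf x := fun x hx h => hr5
    ((Nat.prime_dvd_prime_iff_eq Nat.prime_five (Fact.out : r.Prime)).1 (h.trans (orderOf_dvd_of_pow_eq_one (hexp x hx)))).symm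
  obtain ⟨a, q, hq, hord'⟩ := Nat.exists_eq_pow_mul_and_not_dvd (orderOf_pos k).ne' r (Fact.out : r.Prime).one_lt.ne'
  obtain ⟨s, -, hs'⟩ := Nat.exists_mul_mod_eq_one_of_coprime
    (((Fact.out : r.Prime).coprime_iff_not_dvd.2 hq).symm) (Fact.out : r.Prime).one_lt
  have hkq : k ^ q ∈ M := by
    refine (hM _).2 ⟨((show Commute k e0 from mul_inv_eq_iff_eq_mul.1 hke0).pow_left q).eq, fun h => hr5 ?_⟩
    have h1 : (k ^ q) ^ r ^ a = 1 := by rw [← pow_mul, mul_comm, ← hord', pow_orderOf_eq_one]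
    exact ((Nat.prime_dvd_prime_iff_eq Nat.prime_five (Fact.out : r.Prime)).1
      (Nat.prime_five.dvd_of_dvd_pow (h.trans (orderOf_dvd_of_pow_eq_one h1)))).symm
  obtain ⟨x, hx⟩ : ∃ x, f x ≠ 0 := by
    by_contra hno
    push Not at hno
    exact hf (LinearMap.ext hno)
  set X := ((Additive.toMul x : ↥E) : G) with hX
  have hXM : X ∈ M := (hM _).2 ⟨congrArg Subtype.val (mul_comm' (Additive.toMul x) (Additive.toMul v)),
    h5E _ (Additive.toMul x).2⟩
  have hcq : Commute (k ^ q) X := hMc _ hkq _ hXM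
  have hcr : Commute (k ^ r) X := mul_inv_eq_iff_eq_mul.1 (by
    rw [hX, hkn, ZMod.natCast_self, zero_smul, add_zero])
  have hcomm : Commute k X := by
    have hk' : k = (k ^ q) ^ s * ((k ^ r) ^ (q * s / r))⁻¹ := by
      rw [← pow_mul, ← pow_mul]
      conv_rhs => arg 1; rw [show q * s = r * (q * s / r) + 1 by
        have := Nat.div_add_mod (q * s) r; omega, pow_succ']
      group
    rw [hk']
    exact (hcq.pow_left s).mul_left ((hcr.pow_left _).inv_left)
  have hfix : k * X * k⁻¹ = X := by rw [hcomm.eq, mul_inv_cancel_right]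
  rw [hX, hk1] at hfix
  have h0 : x + f x • v = x := Additive.toMul.injective (Subtype.ext hfix)
  rw [add_eq_left, smul_eq_zero] at h0
  exact h0.elim hx hv

/-- The element of order five is central in the centraliser of a free element commuting with it. -/
theorem c_cent {g : G} (hg : Free g) (hgc : g * D.cG = D.cG * g) :
    ∀ x y : G, x * g = g * x → y * g = g * y → x * y = y * x := by
  obtain ⟨M₀, hM₀, hM₀inv⟩ := D.exists_cM
  have hgM₀ : g ∈ M₀ := (hM₀ g).2 ⟨hgc, hg.not_dvd (Or.inl rfl), hg.not_dvd (Or.inr (Or.inr rfl))⟩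
  obtain ⟨M, hM, hMinv⟩ := D.real_cent hg D.c.orderOf_z (hM₀inv g hgM₀)
  have hMc := comm_of_inverted hMinv
  obtain ⟨g', hg', hgc', -⟩ := Model.exists_eight
  obtain ⟨g', rfl⟩ := D.exists_co hg'
  set x' := (g' : G) with hx'
  have hxC : x' * D.cG * x'⁻¹ = D.cG ^ 2 := by
    rw [← D.co_c, ← D.co_pow, ← D.co_mul, ← D.co_mul] at hgc'
    have h1 : (g' : G) * D.cG = D.cG ^ 2 * (g' : G) := congrArg Subtype.val (D.co_injective hgc')
    rw [hx', h1, mul_inv_cancel_right]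
  set g₂ := x' * g * x'⁻¹ with hg₂
  have hc5 : D.cG ^ 5 = 1 := D.orderOf_c ▸ pow_orderOf_eq_one _
  have hg₂c : Commute g₂ D.cG := by
    have h1 : Commute g₂ (D.cG ^ 2) := by
      rw [← hxC]
      exact (show Commute g D.cG from hgc).map (MulAut.conj x').toMonoidHom
    have h3 := h1.pow_right 3
    rwa [← pow_mul, show 2 * 3 = 5 + 1 from rfl, pow_succ, hc5, one_mul] at h3
  have hg₂M₀ : g₂ ∈ M₀ := (hM₀ _).2 ⟨hg₂c.eq, by rw [hg₂, orderOf_conj]; exact hg.not_dvd (Or.inl rfl),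
    by rw [hg₂, orderOf_conj]; exact hg.not_dvd (Or.inr (Or.inr rfl))⟩
  have hg₂M : g₂ ∈ M := (hM _).2 ⟨comm_of_inverted hM₀inv _ hg₂M₀ _ hgM₀,
    by rw [hg₂, orderOf_conj]; exact hg.not_dvd (Or.inr (Or.inr rfl))⟩
  have hcnorm : ∀ x ∈ M, D.cG * x * D.cG⁻¹ ∈ M := fun x hx => (hM _).2
    ⟨(((show Commute g D.cG from hgc).symm.mul_left ((hM x).1 hx).1).mul_left
      (show Commute g D.cG from hgc).symm.inv_left).eq, by rw [orderOf_conj]; exact ((hM x).1 hx).2⟩
  have hxnorm : ∀ x ∈ M, x' * x * x'⁻¹ ∈ M := by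
    have hle : M ≤ M.map (MulAut.conj x').toMonoidHom := by
      intro x hx
      refine ⟨x'⁻¹ * x * x', (hM _).2 ⟨?_, ?_⟩, by simp [mul_assoc]⟩
      · have h1 : Commute x g₂ := hMc x hx _ hg₂M
        have h2 := h1.map (MulAut.conj x'⁻¹).toMonoidHom
        simp only [MulEquiv.coe_toMonoidHom, MulAut.conj_apply, inv_inv] at h2
        rw [show x'⁻¹ * g₂ * x' = g by rw [hg₂]; group] at h2
        exact h2.eq
      · rw [show orderOf (x'⁻¹ * x * x') = orderOf x by simpa using orderOf_conj x'⁻¹ x]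
        exact ((hM x).1 hx).2
    have heq := eq_of_le_of_card_ge hle (card_map_of_injective (MulAut.conj x').injective).le
    intro x hx
    rw [heq]
    exact ⟨x, hx, rfl⟩
  have hfix : ∀ n : ℕ, ∀ x ∈ M, orderOf x = n → D.cG * x * D.cG⁻¹ = x := by
    intro n
    induction n using Nat.recOnPrimeCoprime with
    | zero => exact fun x _ h => absurd h (orderOf_pos x).ne'
    | prime_pow p j hp =>
      intro x hxM hxo
      rcases Nat.eq_zero_or_pos j with rfl | hj
      · rw [pow_zero, orderOf_eq_one_iff] at hxo; simp [hxo]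
      haveI := Fact.mk hp
      obtain ⟨h2, h3⟩ := D.free_cent hg ((hM x).1 hxM).1
      have h5 := ((hM x).1 hxM).2
      have hd : p ∣ orderOf x := hxo ▸ dvd_pow_self p hj.ne'
      have hp2 : p ≠ 2 := fun e => h2 (e ▸ hd)
      have hp3 : p ≠ 3 := fun e => h3 (e ▸ hd)
      have hp5 : p ≠ 5 := fun e => h5 (e ▸ hd)
      let Q : Subgroup G :=
        { carrier := {a | a ∈ M ∧ ∃ i : ℕ, a ^ p ^ i = 1}
          one_mem' := ⟨one_mem _, 0, by simp⟩
          mul_mem' := by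
            rintro a b ⟨ha, i, hi⟩ ⟨hb, l, hl⟩
            exact ⟨mul_mem ha hb, i + l, by
              rw [(show Commute a b from hMc a ha b hb).mul_pow, pow_add, pow_mul, hi, one_pow, one_mul, mul_comm,
                pow_mul, hl, one_pow]⟩
          inv_mem' := by
            rintro a ⟨ha, i, hi⟩
            exact ⟨inv_mem ha, i, by rw [inv_pow, hi, inv_one]⟩ }
      let E : Subgroup G :=
        { carrier := {a | a ∈ M ∧ a ^ p = 1}
          one_mem' := ⟨one_mem _, one_pow _⟩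
          mul_mem' := by
            rintro a b ⟨ha, hi⟩ ⟨hb, hl⟩
            exact ⟨mul_mem ha hb, by rw [(show Commute a b from hMc a ha b hb).mul_pow, hi, hl, one_mul]⟩
          inv_mem' := by
            rintro a ⟨ha, hi⟩
            exact ⟨inv_mem ha, by rw [inv_pow, hi, inv_one]⟩ }
      haveI : IsMulCommutative ↥E := ⟨⟨fun a b => Subtype.ext (hMc _ a.2.1 _ b.2.1)⟩⟩
      have hexp : ∀ a ∈ E, a ^ p = 1 := fun a ha => ha.2
      letI := elemModule (p := p) hexp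
      have hE := D.fix_aux hp2 hp3 hp5 E hexp (fun a ha => hMinv a ha.1) hxC
        (fun a ha => ⟨hcnorm a ha.1, by rw [conj_pow, ha.2, mul_one, mul_inv_cancel]⟩)
        (fun a ha => ⟨hxnorm a ha.1, by rw [conj_pow, ha.2, mul_one, mul_inv_cancel]⟩)
      refine CfsgLib.centralizes_of_fixes_order_p hp2 D.cG ?_ Q ?_ ?_ (fun a ha hap => hE a ⟨ha.1, hap⟩) x
        ⟨hxM, j, hxo ▸ pow_orderOf_eq_one x⟩
      · rw [D.orderOf_c]; exact (Nat.coprime_primes Nat.prime_five hp).2 hp5.symm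
      · rintro ⟨a, ha, i, hi⟩; exact ⟨i, Subtype.ext hi⟩
      · refine mem_normalizer_of_conj fun a ha => ⟨hcnorm a ha.1, ?_⟩
        obtain ⟨-, i, hi⟩ := ha
        exact ⟨i, by rw [conj_pow, hi, mul_one, mul_inv_cancel]⟩
    | coprime a b ha hb hab iha ihb =>
      intro x hxM hxo
      have h1 := iha (x ^ b) (pow_mem hxM _) (by
        rw [orderOf_pow, hxo, Nat.gcd_mul_left_left, Nat.mul_div_cancel _ (by omega)])
      have h2 := ihb (x ^ a) (pow_mem hxM _) (by
        rw [orderOf_pow, hxo, Nat.gcd_mul_right_left, Nat.mul_div_cancel_left _ (by omega)])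
      obtain ⟨s, -, hs⟩ := Nat.exists_mul_mod_eq_one_of_coprime hab hb
      have hx : x = (x ^ a) ^ s * ((x ^ b) ^ (a * s / b))⁻¹ := by
        rw [← pow_mul, ← pow_mul]
        conv_rhs => arg 1; rw [show a * s = b * (a * s / b) + 1 by
          have := Nat.div_add_mod (a * s) b; omega, pow_succ']
        group
      rw [hx]
      have c1 : Commute D.cG (x ^ b) := mul_inv_eq_iff_eq_mul.1 h1
      have c2 : Commute D.cG (x ^ a) := mul_inv_eq_iff_eq_mul.1 h2
      have := (c2.pow_right s).mul_right (c1.pow_right (a * s / b)).inv_right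
      rw [this.eq, mul_inv_cancel_right]
  have hcM : ∀ x ∈ M, D.cG * x = x * D.cG := fun x hx => mul_inv_eq_iff_eq_mul.1 (hfix _ x hx rfl)
  set H := centralizer ({g} : Set G) with hH
  have hcH : D.cG ∈ H := mem_centralizer_singleton_iff.2 hgc.symm
  obtain ⟨N, hNH, hiff, hcard, hcop⟩ := D.compl_five D.orderOf_c hcH fun x hx =>
    (D.free_cent hg (mem_centralizer_singleton_iff.1 hx)).1
  have hNM : ∀ x ∈ N, x ∈ M := fun x hx =>
    (hM x).2 ⟨mem_centralizer_singleton_iff.1 (hNH hx), (hiff x (hNH hx)).1 hx⟩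
  have step1 : H ≤ centralizer ({D.cG} : Set G) := fun x hx => by
    have := mem_of_full (K := H ⊓ centralizer ({D.cG} : Set G)) inf_le_left
      (fun a ha => mem_inf.2 ⟨hNH ha, mem_centralizer_singleton_iff.2 (hcM a (hNM a ha)).symm⟩)
      (mem_inf.2 ⟨hcH, mem_centralizer_singleton_iff.2 rfl⟩) hcop hcard hx
    exact (mem_inf.1 this).2
  have step2 : ∀ m ∈ N, H ≤ centralizer ({m} : Set G) := fun m hm x hx => by
    have := mem_of_full (K := H ⊓ centralizer ({m} : Set G)) inf_le_left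
      (fun a ha => mem_inf.2 ⟨hNH ha, mem_centralizer_singleton_iff.2 (hMc a (hNM a ha) m (hNM m hm))⟩)
      (mem_inf.2 ⟨hcH, mem_centralizer_singleton_iff.2 (hcM m (hNM m hm))⟩) hcop hcard hx
    exact (mem_inf.1 this).2
  intro x y hx hy
  have hyH : y ∈ H := mem_centralizer_singleton_iff.2 hy
  have := mem_of_full (K := H ⊓ centralizer ({y} : Set G)) inf_le_left
    (fun a ha => mem_inf.2 ⟨hNH ha, mem_centralizer_singleton_iff.2
      (mem_centralizer_singleton_iff.1 (step2 a ha hyH)).symm⟩)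
    (mem_inf.2 ⟨hcH, mem_centralizer_singleton_iff.2 (mem_centralizer_singleton_iff.1 (step1 hyH)).symm⟩)
    hcop hcard (mem_centralizer_singleton_iff.2 hx)
  exact mem_centralizer_singleton_iff.1 (mem_inf.1 this).2

/-- The centraliser of a real free element is abelian. -/
theorem real_abelian {g u : G} (hg : Free g) (hu : orderOf u = 2) (hinv : u * g * u⁻¹ = g⁻¹) :
    ∀ x y : G, x * g = g * x → y * g = g * y → x * y = y * x := by
  by_cases h5 : ∃ d, d * g = g * d ∧ 5 ∣ orderOf d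
  · obtain ⟨d, hd, hd5⟩ := h5
    obtain ⟨k, hk⟩ := D.five_conj (x := d ^ (orderOf d / 5)) (orderOf_pow_orderOf_div (orderOf_pos d).ne' hd5)
    have hdg : Commute g (k * D.cG * k⁻¹) := hk ▸ (show Commute g d from hd.symm).pow_right _
    set f := (MulAut.conj k⁻¹).toMonoidHom with hf
    have hfapp : ∀ a, f a = k⁻¹ * a * k := fun a => by simp [hf]
    have hgc : f g * D.cG = D.cG * f g := by
      have h := hdg.map f
      rw [show f (k * D.cG * k⁻¹) = D.cG by rw [hfapp]; group] at h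
      exact h.eq
    intro x y hx hy
    have h := D.c_cent (g := f g) (by rw [hfapp]; simpa using hg.conj k⁻¹) hgc (f x) (f y)
      ((show Commute x g from hx).map f).eq ((show Commute y g from hy).map f).eq
    exact (MulAut.conj k⁻¹).injective (by
      show f (x * y) = f (y * x)
      rw [map_mul, map_mul, h])
  · push Not at h5
    obtain ⟨M, hM, hMinv⟩ := D.real_cent hg hu hinv
    exact fun x y hx hy => comm_of_inverted hMinv x ((hM x).2 ⟨hx, h5 x hx⟩) y ((hM y).2 ⟨hy, h5 y hy⟩)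

omit [IsSimpleGroup G] in
/-- The trivial intersection sets. -/
def IsBlock (_ : Five G) (M : Subgroup G) : Prop :=
  ∃ g u : G, Free g ∧ orderOf u = 2 ∧ u * g * u⁻¹ = g⁻¹ ∧ ∀ x, x ∈ M ↔ x * g = g * x ∧ ¬ 5 ∣ orderOf x

theorem exists_block {g u : G} (hg : Free g) (hu : orderOf u = 2) (hinv : u * g * u⁻¹ = g⁻¹) :
    ∃ M, D.IsBlock M ∧ g ∈ M := by
  obtain ⟨M, hM, -⟩ := D.real_cent hg hu hinv
  exact ⟨M, ⟨g, u, hg, hu, hinv, hM⟩, (hM g).2 ⟨rfl, hg.not_dvd (Or.inr (Or.inr rfl))⟩⟩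

variable {M : Subgroup G}

theorem block_inverted (hM : D.IsBlock M) : ∃ u, orderOf u = 2 ∧ ∀ x ∈ M, u * x * u⁻¹ = x⁻¹ := by
  obtain ⟨g, u, hg, hu, hinv, hmem⟩ := hM
  obtain ⟨N, hN, hNinv⟩ := D.real_cent hg hu hinv
  exact ⟨u, hu, fun x hx => hNinv x ((hN x).2 ((hmem x).1 hx))⟩

theorem block_comm (hM : D.IsBlock M) : ∀ x ∈ M, ∀ y ∈ M, x * y = y * x :=
  comm_of_inverted (D.block_inverted hM).choose_spec.2

theorem block_free (hM : D.IsBlock M) {x : G} (hx : x ∈ M) (hx1 : x ≠ 1) : Free x := by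
  obtain ⟨g, u, hg, -, -, hmem⟩ := hM
  obtain ⟨h2, h3⟩ := D.free_cent hg ((hmem x).1 hx).1
  exact free_of_not_dvd hx1 h2 h3 ((hmem x).1 hx).2

/-- The centraliser of any nontrivial element of a block determines it. -/
theorem block_mem (hM : D.IsBlock M) {y : G} (hy : y ∈ M) (hy1 : y ≠ 1) :
    ∀ x, x ∈ M ↔ x * y = y * x ∧ ¬ 5 ∣ orderOf x := by
  obtain ⟨g, u, hg, hu, hinv, hmem⟩ := hM
  obtain ⟨N, hN, hNinv⟩ := D.real_cent hg hu hinv
  have hM' : D.IsBlock M := ⟨g, u, hg, hu, hinv, hmem⟩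
  have hyu : u * y * u⁻¹ = y⁻¹ := hNinv y ((hN y).2 ((hmem y).1 hy))
  have hyg := ((hmem y).1 hy).1
  have hgM : g ∈ M := (hmem g).2 ⟨rfl, hg.not_dvd (Or.inr (Or.inr rfl))⟩
  refine fun x => ⟨fun hx => ⟨D.block_comm hM' x hx y hy, ((hmem x).1 hx).2⟩, fun hx => (hmem x).2 ⟨?_, hx.2⟩⟩
  exact D.real_abelian (D.block_free hM' hy hy1) hu hyu x g hx.1 hyg.symm

theorem block_eq (hM : D.IsBlock M) {N : Subgroup G} (hN : D.IsBlock N) {y : G} (hyM : y ∈ M) (hyN : y ∈ N)
    (hy1 : y ≠ 1) : M = N := by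
  ext x
  rw [D.block_mem hM hyM hy1, D.block_mem hN hyN hy1]

/-- An element commuting with a nontrivial element of a block commutes with all of it. -/
theorem block_cent (hM : D.IsBlock M) {y : G} (hy : y ∈ M) (hy1 : y ≠ 1) {x : G} (hx : x * y = y * x) :
    ∀ a ∈ M, x * a = a * x := by
  obtain ⟨u, hu, huinv⟩ := D.block_inverted hM
  intro a ha
  exact D.real_abelian (D.block_free hM hy hy1) hu (huinv y hy) x a hx (D.block_comm hM a ha y hy)

theorem block_conj (hM : D.IsBlock M) (k : G) : D.IsBlock (M.map (MulAut.conj k).toMonoidHom) := by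
  obtain ⟨g, u, hg, hu, hinv, hmem⟩ := hM
  refine ⟨k * g * k⁻¹, k * u * k⁻¹, hg.conj k, by rw [orderOf_conj, hu], ?_, fun x => ?_⟩
  · calc k * u * k⁻¹ * (k * g * k⁻¹) * (k * u * k⁻¹)⁻¹ = k * (u * g * u⁻¹) * k⁻¹ := by group
      _ = _ := by rw [hinv]; group
  · constructor
    · rintro ⟨a, ha, rfl⟩
      obtain ⟨h1, h5⟩ := (hmem a).1 ha
      refine ⟨?_, by simpa [orderOf_conj] using h5⟩
      exact ((show Commute a g from h1).map (MulAut.conj k).toMonoidHom).eq
    · rintro ⟨h1, h5⟩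
      refine ⟨k⁻¹ * x * k, (hmem _).2 ⟨?_, ?_⟩, by simp [mul_assoc]⟩
      · have h := ((show Commute x (k * g * k⁻¹) from h1).map (MulAut.conj k⁻¹).toMonoidHom).eq
        simpa [mul_assoc] using h
      · rwa [show orderOf (k⁻¹ * x * k) = orderOf x by simpa using orderOf_conj k⁻¹ x]

/-- The involutions inverting an element of a block differ from a given one by elements of the block. -/
theorem block_invert (hM : D.IsBlock M) {y u t : G} (hy : y ∈ M) (hy1 : y ≠ 1) (hu : orderOf u = 2)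
    (huinv : ∀ x ∈ M, u * x * u⁻¹ = x⁻¹) (ht : orderOf t = 2) (htinv : t * y * t⁻¹ = y⁻¹) : u * t ∈ M := by
  have huu : u * u = 1 := CfsgLib.Involutions.mul_self_eq_one_of_orderOf hu
  have htt : t * t = 1 := CfsgLib.Involutions.mul_self_eq_one_of_orderOf ht
  have hui : u⁻¹ = u := inv_eq_of_mul_eq_one_right huu
  have hti : t⁻¹ = t := inv_eq_of_mul_eq_one_right htt
  set x := u * t with hx
  have hxy : x * y = y * x := mul_inv_eq_iff_eq_mul.1 (by
    calc x * y * x⁻¹ = u * (t * y * t⁻¹) * u⁻¹ := by rw [hx]; group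
      _ = (u * y * u⁻¹)⁻¹ := by rw [htinv]; group
      _ = y := by rw [huinv y hy, inv_inv])
  have hxinv : u * x * u⁻¹ = x⁻¹ := by
    rw [hx, mul_inv_rev, hti, hui, ← mul_assoc u u t, huu, one_mul]
  refine (D.block_mem hM hy hy1 x).2 ⟨hxy, fun h5 => D.five_not_inverted (x := x ^ (orderOf x / 5))
    (orderOf_pow_orderOf_div (orderOf_pos x).ne' h5) hu ?_⟩
  rw [← conj_pow, hxinv, inv_pow]

end Five

end CfsgLib.Homogeneous.SD
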