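import Mathlib
import Cfsg.Agent.Lib.PSL2.Aut

/-!
Automorphisms of `SL₂(q)`, `q` odd: conjugation followed by a field automorphism. Consequences for the fields over which
all power maps of a split torus are induced.
-/

set_option autoImplicit false

namespace CfsgLib.Homogeneous.SD

open Matrix CfsgLib.PSL2
open scoped MatrixGroups

variable {F : Type*} [Field F]

local notation "SL" => Matrix.SpecialLinearGroup (Fin 2) F

theorem uSL_add (s t : F) : uSL s * uSL t = uSL (s + t) := by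
  refine Subtype.ext ?_
  rw [Matrix.SpecialLinearGroup.coe_mul, coe_uSL, coe_uSL, coe_uSL]
  ext i j
  fin_cases i <;> fin_cases j <;> simp [Matrix.mul_apply, Fin.sum_univ_two] <;> ring

theorem vSL_add (s t : F) : vSL s * vSL t = vSL (s + t) := by
  refine Subtype.ext ?_
  rw [Matrix.SpecialLinearGroup.coe_mul, coe_vSL, coe_vSL, coe_vSL]
  ext i j
  fin_cases i <;> fin_cases j <;> simp [Matrix.mul_apply, Fin.sum_univ_two] <;> ring

/-- The unitriangular groups generate. -/
theorem sl_gen (H : Subgroup SL) (hu : ∀ t, uSL t ∈ H) (hv : ∀ t, vSL t ∈ H) : H = ⊤ := by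
  refine eq_top_iff.2 fun A _ => ?_
  have hc : ∀ A : SL, A.1 1 0 ≠ 0 → A ∈ H := by
    intro A hA
    have e : A = uSL ((A.1 0 0 - 1) / A.1 1 0) * vSL (A.1 1 0) * uSL ((A.1 1 1 - 1) / A.1 1 0) := by
      apply Subtype.ext
      have hdet := A.2
      rw [Matrix.det_fin_two] at hdet
      simp only [Matrix.SpecialLinearGroup.coe_mul, coe_uSL, coe_vSL]
      ext i j
      fin_cases i <;> fin_cases j <;> simp [Matrix.mul_apply, Fin.sum_univ_two] <;>
        field_simp <;> first | ring1 | linear_combination (-1 : F) * hdet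
    rw [e]
    exact mul_mem (mul_mem (hu _) (hv _)) (hu _)
  by_cases hA : A.1 1 0 = 0
  · have h' := hc (vSL 1 * A) (by
      have hdet := A.2
      rw [Matrix.det_fin_two, hA, mul_zero, sub_zero] at hdet
      simp [coe_vSL, Matrix.mul_apply, Fin.sum_univ_two, hA]
      exact fun h => by simp [h] at hdet)
    simpa using mul_mem (inv_mem (hv 1)) h'
  · exact hc A hA

/-- No non-trivial map to a group of exponent two. -/
theorem hom_two_trivial (h2 : (2 : F) ≠ 0) {Z : Type*} [Group Z] (f : SL →* Z) (hf : ∀ A, f A * f A = 1) (A : SL) :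
    f A = 1 := by
  have hh : ∀ t : F, t / 2 + t / 2 = t := fun t => by field_simp; ring
  have htop := sl_gen f.ker (fun t => by rw [MonoidHom.mem_ker, ← hh t, ← uSL_add, map_mul, hf])
    (fun t => by rw [MonoidHom.mem_ker, ← hh t, ← vSL_add, map_mul, hf])
  exact MonoidHom.mem_ker.1 (htop ▸ Subgroup.mem_top A)

theorem center_cases {A : SL} (hA : A ∈ Subgroup.center SL) : A = 1 ∨ A = -1 := by
  obtain ⟨r, hr, he⟩ := Matrix.SpecialLinearGroup.mem_center_iff.1 hA
  rw [Fintype.card_fin] at hr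
  rcases sq_eq_one_iff.1 hr with rfl | rfl
  · exact Or.inl (Subtype.ext (by rw [← he, map_one]; rfl))
  · exact Or.inr (Subtype.ext (by rw [← he, map_neg, map_one]; rfl))

variable [Fintype F]

/-- Automorphisms of `SL₂`. -/
theorem exists_conj_field (h2 : (2 : F) ≠ 0) (ψ : MulAut SL) :
    ∃ (g : GL (Fin 2) F) (e : F ≃+* F), ψ = conjSL g * fieldSL e := by
  obtain ⟨p, hp⟩ := CharP.exists F
  haveI : Fact p.Prime := ⟨CharP.char_is_prime F p⟩
  obtain ⟨g, e, hge⟩ := exists_diag_field p (centreQuotAut SL ψ)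
  refine ⟨g, e, MulEquiv.ext fun A => ?_⟩
  set ψ₀ : MulAut SL := conjSL g * fieldSL e with hψ₀
  have hdiff : ∀ A : SL, (ψ₀ A)⁻¹ * ψ A ∈ Subgroup.center SL := by
    intro A
    rw [← QuotientGroup.eq]
    exact (DFunLike.congr_fun hge (mk A)).symm
  let f : SL →* Subgroup.center SL :=
    MonoidHom.mk' (fun A => ⟨(ψ₀ A)⁻¹ * ψ A, hdiff A⟩) fun A B => Subtype.ext (by
      show (ψ₀ (A * B))⁻¹ * ψ (A * B) = (ψ₀ A)⁻¹ * ψ A * ((ψ₀ B)⁻¹ * ψ B)
      rw [map_mul, map_mul, _root_.mul_inv_rev]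
      have hc := Subgroup.mem_center_iff.1 (hdiff A) (ψ₀ B)⁻¹
      calc (ψ₀ B)⁻¹ * (ψ₀ A)⁻¹ * (ψ A * ψ B) = (ψ₀ B)⁻¹ * ((ψ₀ A)⁻¹ * ψ A) * ψ B := by group
        _ = (ψ₀ A)⁻¹ * ψ A * (ψ₀ B)⁻¹ * ψ B := by rw [hc]
        _ = _ := by group)
  have hf : ∀ A, f A * f A = 1 := fun A => Subtype.ext (by
    rcases center_cases (f A).2 with h | h <;> simp [h])
  have h1 := congrArg Subtype.val (hom_two_trivial h2 f hf A)
  exact (inv_mul_eq_one.1 h1).symm

/-- Traces follow a field automorphism. -/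
theorem exists_trace (h2 : (2 : F) ≠ 0) (ψ : MulAut SL) :
    ∃ σ : F ≃+* F, ∀ A : SL, (ψ A).1.trace = σ A.1.trace := by
  obtain ⟨g, e, rfl⟩ := exists_conj_field h2 ψ
  refine ⟨e, fun A => ?_⟩
  show ((g.1 * (fieldSL e A).1 * (g⁻¹).1)).trace = _
  rw [Matrix.trace_units_conj, Matrix.trace_fin_two, Matrix.trace_fin_two, map_add]
  rfl

/-- Field automorphisms are powers of the Frobenius map. -/
theorem exists_frobenius_pow {p : ℕ} [Fact p.Prime] [CharP F p] (σ : F ≃+* F) :
    ∃ i : ℕ, p ^ i * p ≤ Fintype.card F ∧ ∀ x : F, σ x = x ^ p ^ i := by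
  letI := ZMod.algebra F p
  let σ' : F ≃ₐ[ZMod p] F := AlgEquiv.ofRingEquiv (f := σ) fun r =>
    RingHom.congr_fun (Subsingleton.elim (σ.toRingHom.comp (algebraMap (ZMod p) F)) (algebraMap (ZMod p) F)) r
  obtain ⟨⟨i, hi⟩, h⟩ := (FiniteField.bijective_frobeniusAlgEquivOfAlgebraic_pow (ZMod p) F).2 σ'
  refine ⟨i, ?_, fun x => ?_⟩
  · rw [Module.card_eq_pow_finrank (K := ZMod p) (V := F), ZMod.card, ← pow_succ]
    exact Nat.pow_le_pow_right (Fact.out : p.Prime).pos hi
  · have h2 := DFunLike.congr_fun h x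
    simp only [AlgEquiv.coe_pow, FiniteField.coe_frobeniusAlgEquivOfAlgebraic, pow_iterate, ZMod.card] at h2
    exact h2.symm

/-- The fields with all power maps of the split torus induced on traces. -/
theorem card_cases (hodd : Odd (Fintype.card F))
    (h : ∀ a : Fˣ, Even (orderOf a) → ∀ k : ℕ, k.Coprime (orderOf a) →
      ∃ σ : F ≃+* F, σ ((a : F) + ((a⁻¹ : Fˣ) : F)) = (a : F) ^ k + ((a⁻¹ : Fˣ) : F) ^ k) :
    Fintype.card F = 3 ∨ Fintype.card F = 5 ∨ Fintype.card F = 7 ∨ Fintype.card F = 9 := by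
  classical
  obtain ⟨p, hp⟩ := CharP.exists F
  haveI hpF : Fact p.Prime := ⟨CharP.char_is_prime F p⟩
  obtain ⟨f, -, hf⟩ := FiniteField.card F p
  obtain ⟨a, ha⟩ := IsCyclic.exists_generator (α := Fˣ)
  have hao : orderOf a = Fintype.card F - 1 := by
    rw [orderOf_eq_card_of_forall_mem_zpowers ha, Nat.card_eq_fintype_card, Fintype.card_units]
  obtain ⟨m, hm⟩ := hodd
  have key : ∀ k : ℕ, k.Coprime (orderOf a) → ∃ i, p ^ i * p ≤ Fintype.card F ∧
      (k ≡ p ^ i [MOD orderOf a] ∨ k + p ^ i ≡ 0 [MOD orderOf a]) := by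
    intro k hk
    obtain ⟨σ, hσ⟩ := h a ⟨m, by omega⟩ k hk
    obtain ⟨i, hi, hσi⟩ := exists_frobenius_pow (p := p) σ
    refine ⟨i, hi, ?_⟩
    have hadd : ∀ x y : F, (x + y) ^ p ^ i = x ^ p ^ i + y ^ p ^ i := fun x y => add_pow_char_pow x y p i
    rw [hσi, hadd, ← Units.val_pow_eq_pow_val, ← Units.val_pow_eq_pow_val, ← Units.val_pow_eq_pow_val,
      ← Units.val_pow_eq_pow_val, inv_pow, inv_pow] at hσ
    set X := a ^ p ^ i with hX
    set Y := a ^ k with hY
    have h0 : ((X : F) - Y) * ((X : F) * Y - 1) = 0 := by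
      have hx : (X : F) * ((X⁻¹ : Fˣ) : F) = 1 := by rw [← Units.val_mul, mul_inv_cancel, Units.val_one]
      have hy : (Y : F) * ((Y⁻¹ : Fˣ) : F) = 1 := by rw [← Units.val_mul, mul_inv_cancel, Units.val_one]
      linear_combination ((X : F) * Y) * hσ - (Y : F) * hx + (X : F) * hy
    rcases mul_eq_zero.1 h0 with e | e
    · exact Or.inl (pow_eq_pow_iff_modEq.1 (Units.ext (sub_eq_zero.1 e)).symm)
    · refine Or.inr (pow_eq_pow_iff_modEq.1 ?_)
      rw [pow_add, pow_zero, mul_comm]
      exact Units.ext (by rw [Units.val_mul, Units.val_one]; exact sub_eq_zero.1 e)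
  rw [hao] at key
  have hq' : Fintype.card F - 1 = 2 * m := by omega
  have hp3 : 3 ≤ p := by
    rcases Nat.lt_or_ge p 3 with h' | h'
    · have h2 := hpF.out.two_le
      obtain rfl : p = 2 := by omega
      have : 2 ∣ Fintype.card F := hf ▸ dvd_pow_self 2 f.ne_zero
      omega
    · exact h'
  have hq1 : 1 < Fintype.card F := Fintype.one_lt_card
  by_cases hq : Fintype.card F = 3
  · exact Or.inl hq
  rcases Nat.even_or_odd m with hme | hmo
  · have hcop : (m + 1).Coprime (2 * m) := by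
      refine Nat.Coprime.mul_right ?_ (by simp)
      exact Nat.coprime_two_right.2 hme.add_one
    obtain ⟨i, hi, hc⟩ := key (m + 1) (hq' ▸ hcop)
    rw [hq'] at hc
    obtain ⟨r, hr⟩ : ∃ r, p ^ i = r := ⟨_, rfl⟩
    have hr0 : 0 < r := hr ▸ pow_pos hpF.out.pos i
    have hr3 : 3 * r ≤ Fintype.card F := by
      rw [← hr]; exact le_trans (by rw [mul_comm]; exact Nat.mul_le_mul le_rfl hp3) hi
    rw [hr] at hc
    obtain ⟨j, hj⟩ := hme
    rcases hc with hc | hc
    · have := hc.eq_of_lt_of_lt (by omega) (by omega)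
      omega
    · obtain ⟨t, ht⟩ := (Nat.modEq_zero_iff_dvd.1 hc)
      have ht1 : t = 1 := by rcases t with _ | _ | t <;> [omega; rfl; (have := Nat.mul_le_mul_left (2 * m) (show 2 ≤ t + 1 + 1 by omega); omega)]
      subst ht1
      omega
  · obtain ⟨j, hj⟩ := hmo
    have hcop : (m + 2).Coprime (2 * m) := by
      refine Nat.Coprime.mul_right (Nat.coprime_two_right.2 ⟨j + 1, by omega⟩) ?_
      rw [Nat.coprime_self_add_left]
      exact Nat.coprime_two_left.2 ⟨j, hj⟩
    obtain ⟨i, hi, hc⟩ := key (m + 2) (hq' ▸ hcop)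
    rw [hq'] at hc
    obtain ⟨r, hr⟩ : ∃ r, p ^ i = r := ⟨_, rfl⟩
    have hr0 : 0 < r := hr ▸ pow_pos hpF.out.pos i
    have hr3 : 3 * r ≤ Fintype.card F := by
      rw [← hr]; exact le_trans (by rw [mul_comm]; exact Nat.mul_le_mul le_rfl hp3) hi
    rw [hr] at hc
    rcases hc with hc | hc
    · have := hc.eq_of_lt_of_lt (by omega) (by omega)
      omega
    · obtain ⟨t, ht⟩ := (Nat.modEq_zero_iff_dvd.1 hc)
      have ht1 : t = 1 := by rcases t with _ | _ | t <;> [omega; rfl; (have := Nat.mul_le_mul_left (2 * m) (show 2 ≤ t + 1 + 1 by omega); omega)]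
      subst ht1
      -- the two exceptions eleven and fifteen
      have hcases : m = 3 ∨ m = 5 ∨ m = 7 := by omega
      rcases hcases with rfl | rfl | rfl
      · omega
      · obtain rfl : r = 3 := by omega
        rcases Nat.eq_zero_or_pos i with rfl | hi0
        · simp at hr
        · have h1 : p ∣ 3 := hr ▸ dvd_pow_self p hi0.ne'
          have h2 : p ∣ 11 := by
            have := hf.symm.trans hm
            norm_num at this
            exact this ▸ dvd_pow_self p f.ne_zero
          have := (Nat.prime_dvd_prime_iff_eq hpF.out Nat.prime_three).1 h1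
          subst this
          norm_num at h2
      · obtain rfl : r = 5 := by omega
        rcases Nat.eq_zero_or_pos i with rfl | hi0
        · simp at hr
        · have h1 : p ∣ 5 := hr ▸ dvd_pow_self p hi0.ne'
          have h3 : p ^ (f : ℕ) = 15 := by
            have := hf.symm.trans hm
            norm_num at this
            exact this
          have := (Nat.prime_dvd_prime_iff_eq hpF.out (by norm_num)).1 h1
          subst this
          obtain ⟨g, hg⟩ : ∃ g, (f : ℕ) = g + 1 := ⟨(f : ℕ) - 1, by have := f.pos; omega⟩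
          rw [hg, pow_succ] at h3
          have h4 : 5 ^ g = 3 := by omega
          rcases g with _ | g
          · simp at h4
          · have : 5 ∣ 3 := h4 ▸ dvd_pow_self 5 g.succ_ne_zero
            norm_num at this

/-- A ring automorphism of a prime field is the identity. -/
theorem ringAut_eq_refl (hq : (Fintype.card F).Prime) (e : F ≃+* F) (x : F) : e x = x := by
  haveI := Fact.mk hq
  haveI : CharP F (Fintype.card F) := charP_of_card_eq_prime rfl
  obtain ⟨i, hi, h⟩ := exists_frobenius_pow (p := Fintype.card F) e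
  have h1 : Fintype.card F ^ i = 1 := by
    refine le_antisymm ?_ (pow_pos hq.pos i)
    exact Nat.le_of_mul_le_mul_right (by rwa [one_mul]) hq.pos
  rw [h, h1, pow_one]

/-- Over a prime field every automorphism is a conjugation. -/
theorem exists_conj (hq : (Fintype.card F).Prime) (h2 : (2 : F) ≠ 0) (ψ : MulAut SL) :
    ∃ g : GL (Fin 2) F, ∀ A : SL, (ψ A).1 * g.1 = g.1 * A.1 := by
  obtain ⟨g, e, rfl⟩ := exists_conj_field h2 ψ
  refine ⟨g, fun A => ?_⟩
  have he : (fieldSL e A).1 = A.1 := by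
    ext i j
    exact ringAut_eq_refl hq e (A.1 i j)
  show g.1 * (fieldSL e A).1 * (g⁻¹).1 * g.1 = _
  rw [he, Matrix.mul_assoc, ← Units.val_mul, inv_mul_cancel, Units.val_one, Matrix.mul_one]

end CfsgLib.Homogeneous.SD
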