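import Mathlib

/-!
The arithmetic of the count of involutions: there are no real elements of order prime to thirty.
-/

set_option autoImplicit false
set_option linter.style.haveILetI false

namespace CfsgLib.Homogeneous.SD.Search

/-- The possible constants of the count. -/
def consts : List ℕ := [381, 1101]

/-- The possible weights. -/
def weights : List ℕ := [1, 2, 3, 4, 5, 6, 8, 10, 12, 15, 20, 24, 30, 40, 60, 120]

/-- The conditions on one size. -/
def good (n a w : ℕ) : Bool :=
  a % 2 != 0 && a % 3 != 0 && a % 5 != 0 && w * (a - 1) % 48 == 0 && n % a == 0 && w * (n / a) % a == 1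

/-- Candidates for one size. -/
def oneOK : Bool :=
  consts.all fun c => weights.all fun w => (List.range 1102).all fun a =>
    !(decide (7 ≤ a) && w * (a - 1) % 48 == 0 && (c + w * (a - 1)) % 3 == 0 && (c + w * (a - 1)) % 5 != 0 &&
      good (c + w * (a - 1)) a w)

/-- Candidates for two sizes. -/
def twoOK : Bool :=
  consts.all fun c => (List.range 114).all fun a => (decide (a < 7) || a % 2 == 0 || a % 3 == 0 || a % 5 == 0) ||
    weights.all fun u => u * (a - 1) % 48 != 0 || weights.all fun v => (List.range (113 / a + 1)).all fun k =>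
      let R := c + u * (a - 1) - v
      let d := 3 * k * a - v
      !(decide (v < 3 * k * a) && R % d == 0 && decide (a < R / d) &&
        good (c + u * (a - 1) + v * (R / d - 1)) a u && good (c + u * (a - 1) + v * (R / d - 1)) (R / d) v)

/-- Candidates for three sizes. -/
def threeOK : Bool :=
  consts.all fun c => (List.range 21).all fun a => (decide (a < 7) || a % 2 == 0 || a % 3 == 0 || a % 5 == 0) ||
    (List.range (148 / a + 1)).all fun b => (decide (b ≤ a) || b % 2 == 0 || b % 3 == 0 || b % 5 == 0) ||
      weights.all fun u => u * (a - 1) % 48 != 0 || weights.all fun v => v * (b - 1) % 48 != 0 ||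
        weights.all fun t => (List.range (148 / (a * b) + 1)).all fun k =>
          let R := c + u * (a - 1) + v * (b - 1) - t
          let d := 3 * k * (a * b) - t
          let n := c + u * (a - 1) + v * (b - 1) + t * (R / d - 1)
          !(decide (t < 3 * k * (a * b)) && R % d == 0 && decide (b < R / d) &&
            good n a u && good n b v && good n (R / d) t)

theorem oneOK_eq : oneOK = true := by decide +kernel

theorem twoOK_eq : twoOK = true := by decide +kernel

theorem threeOK_eq : threeOK = true := by decide +kernel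

theorem mem_consts {c : ℕ} (h : c = 381 ∨ c = 1101) : c ∈ consts := by
  rcases h with rfl | rfl <;> simp [consts]

theorem mem_weights {w : ℕ} (h : w ∣ 120) : w ∈ weights := by
  have hle : w ≤ 120 := Nat.le_of_dvd (by norm_num) h
  have key : ∀ v < 121, v ∣ 120 → v ∈ weights := by decide +kernel
  exact key w (by omega) h

/-- One admissible size. -/
structure Item (n a w : ℕ) : Prop where
  seven : 7 ≤ a
  odd : a % 2 ≠ 0
  three : a % 3 ≠ 0
  five : a % 5 ≠ 0
  wdvd : w ∣ 120
  fortyeight : 48 ∣ w * (a - 1)
  dvd : a ∣ n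
  cc : w * (n / a) % a = 1

theorem Item.good_eq {n a w : ℕ} (h : Item n a w) : good n a w = true := by
  simp only [good, Bool.and_eq_true, bne_iff_ne, beq_iff_eq]
  exact ⟨⟨⟨⟨⟨h.odd, h.three⟩, h.five⟩, Nat.mod_eq_zero_of_dvd h.fortyeight⟩, Nat.mod_eq_zero_of_dvd h.dvd⟩, h.cc⟩

theorem Item.w_le {n a w : ℕ} (h : Item n a w) : w ≤ 120 := Nat.le_of_dvd (by norm_num) h.wdvd

theorem no_one {n c a w : ℕ} (hc : c = 381 ∨ c = 1101) (h : Item n a w) (h3 : 3 * a ∣ n) (h5 : ¬ 5 ∣ n)
    (hn : n = c + w * (a - 1)) : False := by
  obtain ⟨k, hk⟩ := h3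
  have ha := h.seven
  have hw := h.w_le
  have hcw : 120 < c := by rcases hc with rfl | rfl <;> norm_num
  have hle : a < 1102 := by
    by_contra hge
    have h1 : w * (a - 1) + w = w * a := by
      conv_rhs => rw [show a = a - 1 + 1 by omega, mul_add, mul_one]
    have h2 : 3 * a * k + w = c + w * a := by omega
    rcases Nat.lt_or_ge w (3 * k) with hlt | hge'
    · have h4 : (w + 1) * a ≤ 3 * k * a := Nat.mul_le_mul_right a (by omega)
      have h6 : 3 * a * k = 3 * k * a := by ring
      rw [add_mul, one_mul] at h4
      omega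
    · have h4 : 3 * k * a ≤ w * a := Nat.mul_le_mul_right a hge'
      have h6 : 3 * a * k = 3 * k * a := by ring
      omega
  have H := oneOK_eq
  simp only [oneOK, List.all_eq_true] at H
  have := H c (mem_consts hc) w (mem_weights h.wdvd) a (List.mem_range.2 hle)
  rw [← hn] at this
  simp [h.good_eq, ha, Nat.mod_eq_zero_of_dvd h.fortyeight] at this
  rcases this with h0 | h0
  · exact h0 (Nat.mod_eq_zero_of_dvd ⟨a * k, by rw [hk]; ring⟩)
  · exact h5 (Nat.dvd_of_mod_eq_zero h0)

theorem no_two {n c a u b v : ℕ} (hc : c = 381 ∨ c = 1101) (ha : Item n a u) (hb : Item n b v) (hab : a < b)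
    (h3 : 3 * (a * b) ∣ n) (hn : n = c + u * (a - 1) + v * (b - 1)) : False := by
  obtain ⟨k, hk⟩ := h3
  have ha7 := ha.seven
  have hu := ha.w_le
  have hv := hb.w_le
  have hcw : 120 < c := by rcases hc with rfl | rfl <;> norm_num
  have hc' : c ≤ 1101 := by rcases hc with rfl | rfl <;> norm_num
  have hb11 : 11 ≤ b := by have := hb.odd; have := hb.three; have := hb.five; omega
  have hk' : n = 3 * k * a * b := by rw [hk]; ring
  have h1 : v * (b - 1) + v = v * b := by
    conv_rhs => rw [show b = b - 1 + 1 by omega, mul_add, mul_one]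
  have h2 : 3 * k * a * b + v = c + u * (a - 1) + v * b := by omega
  have hvd : v < 3 * k * a := by
    by_contra hge
    have := Nat.mul_le_mul_right b (Nat.not_lt.1 hge)
    omega
  have hka : k * a ≤ 113 := by
    by_contra hgt
    have e1 : 342 * b ≤ 3 * k * a * b := Nat.mul_le_mul_right b (by rw [mul_assoc]; omega)
    have e2 : u * (a - 1) ≤ 120 * (b - 1) := Nat.mul_le_mul hu (by omega)
    have e3 : v * b ≤ 120 * b := Nat.mul_le_mul_right b hv
    omega
  have hk1 : 1 ≤ k := Nat.pos_of_ne_zero fun e => by simp [e] at hvd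
  have ha113 : a ≤ 113 := le_trans (Nat.le_mul_of_pos_left a hk1) hka
  have hkr : k < 113 / a + 1 := Nat.lt_succ_of_le ((Nat.le_div_iff_mul_le (by omega)).2 hka)
  have hR : c + u * (a - 1) - v = (3 * k * a - v) * b := by
    rw [Nat.sub_mul]; omega
  have hdiv : (c + u * (a - 1) - v) / (3 * k * a - v) = b := by
    rw [hR]; exact Nat.mul_div_cancel_left b (by omega)
  have hmod : (c + u * (a - 1) - v) % (3 * k * a - v) = 0 := by
    rw [hR]; exact Nat.mul_mod_right _ _
  have H := twoOK_eq
  simp only [twoOK, List.all_eq_true, Bool.or_eq_true] at H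
  rcases H c (mem_consts hc) a (List.mem_range.2 (by omega)) with e | e
  · simp at e
    have := ha.odd; have := ha.three; have := ha.five
    omega
  rcases e u (mem_weights ha.wdvd) with e' | e'
  · simp [Nat.mod_eq_zero_of_dvd ha.fortyeight] at e'
  · have := e' v (mem_weights hb.wdvd) k (List.mem_range.2 hkr)
    rw [hdiv, hmod, ← hn] at this
    simp [ha.good_eq, hb.good_eq, hvd, hab] at this

theorem no_three {n c a u b v d t : ℕ} (hc : c = 381 ∨ c = 1101) (ha : Item n a u) (hb : Item n b v) (hd : Item n d t)
    (hab : a < b) (hbd : b < d) (h3 : 3 * (a * b * d) ∣ n) (hn : n = c + u * (a - 1) + v * (b - 1) + t * (d - 1)) :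
    False := by
  obtain ⟨k, hk⟩ := h3
  have ha7 := ha.seven
  have hu := ha.w_le
  have hv := hb.w_le
  have ht := hd.w_le
  have hcw : 120 < c := by rcases hc with rfl | rfl <;> norm_num
  have hc' : c ≤ 1101 := by rcases hc with rfl | rfl <;> norm_num
  have hb11 : 11 ≤ b := by have := hb.odd; have := hb.three; have := hb.five; omega
  have hd13 : 13 ≤ d := by have := hd.odd; have := hd.three; have := hd.five; omega
  have hk' : n = 3 * k * (a * b) * d := by rw [hk]; ring
  have h1 : t * (d - 1) + t = t * d := by
    conv_rhs => rw [show d = d - 1 + 1 by omega, mul_add, mul_one]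
  have h2 : 3 * k * (a * b) * d + t = c + u * (a - 1) + v * (b - 1) + t * d := by omega
  have htd : t < 3 * k * (a * b) := by
    by_contra hge
    have := Nat.mul_le_mul_right d (Nat.not_lt.1 hge)
    omega
  have hkab : k * (a * b) ≤ 148 := by
    by_contra hgt
    have e1 : 447 * d ≤ 3 * k * (a * b) * d := Nat.mul_le_mul_right d (by rw [mul_assoc]; omega)
    have e2 : u * (a - 1) ≤ 120 * (d - 1) := Nat.mul_le_mul hu (by omega)
    have e2' : v * (b - 1) ≤ 120 * (d - 1) := Nat.mul_le_mul hv (by omega)
    have e3 : t * d ≤ 120 * d := Nat.mul_le_mul_right d ht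
    omega
  have hk1 : 1 ≤ k := Nat.pos_of_ne_zero fun e => by simp [e] at htd
  have hab' : a * b ≤ 148 := le_trans (Nat.le_mul_of_pos_left _ hk1) hkab
  have hkr : k < 148 / (a * b) + 1 :=
    Nat.lt_succ_of_le ((Nat.le_div_iff_mul_le (Nat.mul_pos (by omega) (by omega))).2 hkab)
  have hbr : b < 148 / a + 1 := Nat.lt_succ_of_le ((Nat.le_div_iff_mul_le (by omega)).2 (by rwa [mul_comm]))
  have ha21 : a < 21 := by
    by_contra hge
    have := Nat.mul_le_mul (Nat.not_lt.1 hge) hb11
    omega
  have hR : c + u * (a - 1) + v * (b - 1) - t = (3 * k * (a * b) - t) * d := by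
    rw [Nat.sub_mul]; omega
  have hdiv : (c + u * (a - 1) + v * (b - 1) - t) / (3 * k * (a * b) - t) = d := by
    rw [hR]; exact Nat.mul_div_cancel_left d (by omega)
  have hmod : (c + u * (a - 1) + v * (b - 1) - t) % (3 * k * (a * b) - t) = 0 := by
    rw [hR]; exact Nat.mul_mod_right _ _
  have H := threeOK_eq
  simp only [threeOK, List.all_eq_true, Bool.or_eq_true] at H
  rcases H c (mem_consts hc) a (List.mem_range.2 ha21) with e | e
  · simp at e
    have := ha.odd; have := ha.three; have := ha.five
    omega
  rcases e b (List.mem_range.2 hbr) with e1 | e1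
  · simp at e1
    have := hb.odd; have := hb.three; have := hb.five
    omega
  rcases e1 u (mem_weights ha.wdvd) with e' | e'
  · simp [Nat.mod_eq_zero_of_dvd ha.fortyeight] at e'
  rcases e' v (mem_weights hb.wdvd) with e'' | e''
  · simp [Nat.mod_eq_zero_of_dvd hb.fortyeight] at e''
  · have := e'' t (mem_weights hd.wdvd) k (List.mem_range.2 hkr)
    rw [hdiv, hmod, ← hn] at this
    simp [ha.good_eq, hb.good_eq, hd.good_eq, htd, hbd] at this

/-- The count leaves no family of sizes. -/
theorem no_family {n c : ℕ} (hc : c = 381 ∨ c = 1101) (A : Finset ℕ) (w : ℕ → ℕ)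
    (hA : ∀ a ∈ A, Item n a (w a)) (hcop : (A : Set ℕ).Pairwise Nat.Coprime) (h3 : 3 ∣ n) (h5 : ¬ 5 ∣ n)
    (hn : n = c + ∑ a ∈ A, w a * (a - 1)) : A = ∅ := by
  classical
  have hprod : 3 * ∏ a ∈ A, a ∣ n := by
    refine Nat.Coprime.mul_dvd_of_dvd_of_dvd ?_ h3 ?_
    · exact Nat.Coprime.prod_right fun a ha =>
        Nat.prime_three.coprime_iff_not_dvd.2 fun hd => (hA a ha).three (Nat.mod_eq_zero_of_dvd hd)
    · exact Finset.prod_dvd_of_isRelPrime (fun a ha b hb hne => Nat.coprime_iff_isRelPrime.1 (hcop ha hb hne))
        fun a ha => (hA a ha).dvd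
  rcases Nat.lt_or_ge A.card 4 with h4 | h4
  · interval_cases hcard : A.card
    · exact Finset.card_eq_zero.1 hcard
    · obtain ⟨a, rfl⟩ := Finset.card_eq_one.1 hcard
      simp only [Finset.prod_singleton] at hprod
      simp only [Finset.sum_singleton] at hn
      exact (no_one hc (hA a (by simp)) hprod h5 hn).elim
    · obtain ⟨a, b, hab, rfl⟩ := Finset.card_eq_two.1 hcard
      simp only [Finset.prod_pair hab] at hprod
      simp only [Finset.sum_pair hab] at hn
      rw [← add_assoc] at hn
      have ia := hA a (by simp)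
      have ib := hA b (by simp)
      rcases lt_or_gt_of_ne hab with h | h
      · exact (no_two hc ia ib h hprod hn).elim
      · exact (no_two hc ib ia h (by rwa [mul_comm b a]) (by omega)).elim
    · obtain ⟨a, b, d, hab, had, hbd, rfl⟩ := Finset.card_eq_three.1 hcard
      rw [Finset.prod_insert (by simp [hab, had]), Finset.prod_pair hbd] at hprod
      rw [Finset.sum_insert (by simp [hab, had]), Finset.sum_pair hbd] at hn
      have ia := hA a (by simp)
      have ib := hA b (by simp)
      have id' := hA d (by simp)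
      rw [← mul_assoc a] at hprod
      exfalso
      rcases lt_or_gt_of_ne hab with h | h <;> rcases lt_or_gt_of_ne had with h' | h' <;>
        rcases lt_or_gt_of_ne hbd with h'' | h''
      all_goals first
        | omega
        | exact no_three hc ia ib id' h h'' hprod (by omega)
        | exact no_three hc ia id' ib h' h'' (by rwa [show a * d * b = a * b * d by ring]) (by omega)
        | exact no_three hc ib ia id' h h' (by rwa [show b * a * d = a * b * d by ring]) (by omega)
        | exact no_three hc ib id' ia h'' h' (by rwa [show b * d * a = a * b * d by ring]) (by omega)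
        | exact no_three hc id' ia ib h' h (by rwa [show d * a * b = a * b * d by ring]) (by omega)
        | exact no_three hc id' ib ia h'' h (by rwa [show d * b * a = a * b * d by ring]) (by omega)
  · exfalso
    obtain ⟨M, hM, hmax⟩ := A.exists_max_image id (Finset.card_pos.1 (by omega))
    have hn' : n ≤ 1101 + A.card * (120 * M) := by
      rw [hn]
      refine Nat.add_le_add (by rcases hc with rfl | rfl <;> norm_num) ?_
      rw [← smul_eq_mul]
      exact Finset.sum_le_card_nsmul _ _ _ fun a ha =>
        Nat.mul_le_mul (hA a ha).w_le (by have := hmax a ha; simp at this; omega)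
    have hpow : 7 ^ (A.card - 1) * M ≤ ∏ a ∈ A, a := by
      rw [← Finset.mul_prod_erase A (fun a => a) hM, mul_comm M, ← Finset.card_erase_of_mem hM]
      exact Nat.mul_le_mul_right M (Finset.pow_card_le_prod _ _ _ fun a ha => (hA a (Finset.mem_of_mem_erase ha)).seven)
    have hn0 : 0 < n := by rw [hn]; rcases hc with rfl | rfl <;> omega
    have hle := Nat.le_of_dvd hn0 hprod
    have hM7 := (hA M hM).seven
    have key : ∀ j, 4 ≤ j → 120 * j + 158 < 3 * 7 ^ (j - 1) := by
      intro j hj
      induction j, hj using Nat.le_induction with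
      | base => norm_num
      | succ j hj ih =>
        rw [show j + 1 - 1 = j - 1 + 1 by omega, pow_succ]
        omega
    have e1 : (120 * A.card + 158 + 1) * M ≤ 3 * 7 ^ (A.card - 1) * M := Nat.mul_le_mul_right M (key A.card h4)
    have e2 : A.card * (120 * M) = 120 * A.card * M := by ring
    rw [add_mul, add_mul, one_mul] at e1
    have e3 : 3 * (7 ^ (A.card - 1) * M) = 3 * 7 ^ (A.card - 1) * M := (mul_assoc _ _ _).symm
    omega

end CfsgLib.Homogeneous.SD.Search
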