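import Cfsg.Agent.Lib.QuasiDihedralClasses

/-!
Semidihedral 2-groups: no subgroup has a quaternion group as a quotient of its normalizer in the way an automizer
would need; a normal quaternion subgroup of order eight forces order sixteen; odd automorphisms are trivial.
-/

set_option autoImplicit false

namespace CfsgLib.Homogeneous.SD

open CfsgLib.QD

variable {S : Type*} [Group S] [Finite S] (d : Data S)

/-- Squares of elements outside the cyclic subgroup are central. -/
theorem sq_of_not_mem_X {s : S} (hs : s ∉ d.X) : s * s = 1 ∨ s * s = d.z := by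
  obtain ⟨i, rfl | rfl⟩ := cases_elem d s
  · exact absurd (zpow_mem_X d i) hs
  · rw [xy_mul_self]
    exact zpow_sq_eq_one_cases d (dvd_mul_right _ _)

include d in
/-- No quaternion quotient. -/
theorem no_section (hS : IsPGroup 2 S) {T : Subgroup S} (hT : T ≠ ⊥) {a b : S}
    (ha : ∀ t ∈ T, a * t * a⁻¹ ∈ T) (ha2 : a * a ∉ T) (hb2 : b * b * (a * a)⁻¹ ∈ T)
    (hab : a * b * a⁻¹ * b ∈ T) : False := by
  by_cases hz : d.z ∈ T
  · have key : ∀ s : S, s ∉ d.X → s * s ∈ T := fun s hs => by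
      rcases sq_of_not_mem_X d hs with e | e <;> rw [e]
      exacts [one_mem T, hz]
    have haX : a ∈ d.X := by
      by_contra h
      exact ha2 (key a h)
    have hbX : b ∈ d.X := by
      by_contra h
      refine ha2 ?_
      have := mul_mem (inv_mem hb2) (key b h)
      rwa [mul_inv_rev, inv_inv, inv_mul_cancel_right] at this
    obtain ⟨i, rfl⟩ := haX
    obtain ⟨j, rfl⟩ := hbX
    refine ha2 ?_
    rw [((Commute.refl d.x).zpow_zpow i j).eq, mul_inv_cancel_right] at hab
    have := mul_mem (inv_mem hb2) hab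
    rwa [mul_inv_rev, inv_inv, inv_mul_cancel_right] at this
  · haveI := Fact.mk Nat.prime_two
    have hTX : ∀ t ∈ T, t ∈ d.X → t = 1 := by
      intro t ht htX
      by_contra h1
      obtain ⟨k, hk⟩ := hS t
      induction k generalizing t with
      | zero => exact h1 (by rwa [pow_zero, pow_one] at hk)
      | succ k ih =>
        by_cases h2 : t * t = 1
        · obtain ⟨i, rfl⟩ := htX
          simp only at h1 h2 ht
          rw [← zpow_add, zpow_eq_one_iff, show i + i = 2 * i by ring,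
            show 8 * (d.M : ℤ) = 2 * (4 * d.M) by ring, mul_dvd_mul_iff_left two_ne_zero] at h2
          rcases zpow_sq_eq_one_cases d h2 with e | e
          · exact h1 e
          · exact hz (e ▸ ht)
        · exact ih (t * t) (mul_mem ht ht) (mul_mem htX htX) h2 (by rw [← pow_two, ← pow_mul, ← pow_succ', hk])
    obtain ⟨t, ht, ht1⟩ := T.ne_bot_iff_exists_ne_one.1 hT |> fun ⟨⟨t, ht⟩, h⟩ =>
      (⟨t, ht, fun e => h (Subtype.ext e)⟩ : ∃ t ∈ T, t ≠ 1)
    have hTt : ∀ u ∈ T, u = 1 ∨ u = t := by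
      intro u hu
      by_cases huX : u ∈ d.X
      · exact Or.inl (hTX u hu huX)
      · right
        have htX : t ∉ d.X := fun h => ht1 (hTX t ht h)
        have h1 : ∀ v ∈ T, v ∉ d.X → u * v = 1 := fun v hv hvX => hTX _ (mul_mem hu hv)
          ((Subgroup.mul_mem_iff_of_index_two (index_X d)).2 ⟨fun h => absurd h huX, fun h => absurd h hvX⟩)
        exact mul_left_cancel ((h1 u hu huX).trans (h1 t ht htX).symm)
    have htX : t ∉ d.X := fun h => ht1 (hTX t ht h)
    have hat : a * t * a⁻¹ = t :=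
      (hTt _ (ha t ht)).resolve_left fun e => ht1 (conj_eq_one_iff.mp e)
    obtain ⟨i, rfl | rfl⟩ := cases_elem d t
    · exact htX (zpow_mem_X d i)
    have hsq : d.x ^ i * d.y * (d.x ^ i * d.y) = 1 := by
      rcases hTt _ (mul_mem ht ht) with e | e
      · exact e
      · exact absurd (mul_eq_left.mp e) ht1
    have hzz := CfsgLib.Involutions.mul_self_eq_one_of_orderOf (orderOf_z d)
    refine ha2 ?_
    have hc : a * a = 1 := by
      rcases mem_centralizer_cases d i (Subgroup.mem_centralizer_singleton_iff.2 (mul_inv_eq_iff_eq_mul.1 hat))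
        with e | e | e | e
      · rw [e, mul_one]
      · rw [e, hzz]
      · rw [e, hsq]
      · have hc' := Subgroup.mem_center_iff.1 (z_central d) (d.x ^ i * d.y)
        rw [e, mul_assoc d.z, ← mul_assoc (d.x ^ i * d.y), hc', mul_assoc d.z (d.x ^ i * d.y), hsq, mul_one, hzz]
    rw [hc]
    exact one_mem T

/-- A normal subgroup of order eight with one involution and not inside the cyclic subgroup forces order sixteen. -/
theorem M_eq_one {Q : Subgroup S} [Q.Normal] (hQ : Nat.card Q = 8)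
    (hinv : ∀ g ∈ Q, g * g = 1 → g = 1 ∨ g = d.z) (hX : ¬ Q ≤ d.X) :
    d.M = 1 ∧ d.x ^ (2 : ℤ) ∈ Q ∧ ∃ i : ℤ, Odd i ∧ d.x ^ i * d.y ∈ Q := by
  obtain ⟨g, hgQ, hgX⟩ := SetLike.not_le_iff_exists.1 hX
  obtain ⟨i, rfl | rfl⟩ := cases_elem d g
  · exact absurd (zpow_mem_X d i) hgX
  have hi : Odd i := by
    by_contra h
    obtain ⟨j, rfl⟩ := Int.not_odd_iff_even.1 h
    rw [← two_mul] at hgQ hgX
    have h2 := CfsgLib.Involutions.mul_self_eq_one_of_orderOf (orderOf_xy_even d j)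
    rcases hinv _ hgQ h2 with e | e
    · exact hgX (e ▸ one_mem _)
    · exact hgX (e ▸ z_mem_X d)
  have hh : d.x ^ (2 - 4 * (d.M : ℤ)) ∈ Q := by
    have h1 : d.x ^ (1 : ℤ) * (d.x ^ i * d.y) * (d.x ^ (1 : ℤ))⁻¹ ∈ Q :=
      (inferInstance : Q.Normal).conj_mem _ hgQ _
    rw [conj_xy] at h1
    have h2 := mul_mem h1 (inv_mem hgQ)
    rwa [mul_inv_rev, ← mul_assoc, mul_inv_cancel_right, ← zpow_neg, ← zpow_add, mul_one,
      show i + (2 - 4 * (d.M : ℤ)) + -i = 2 - 4 * (d.M : ℤ) by ring] at h2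
  set h := d.x ^ (2 - 4 * (d.M : ℤ)) with hhdef
  have h8 : orderOf h ∣ 2 ^ 3 := by
    have := Subgroup.orderOf_dvd_natCard Q hh
    rwa [hQ] at this
  obtain ⟨k, hk, hkk⟩ := (Nat.dvd_prime_pow Nat.prime_two).1 h8
  have hk2 : k ≤ 2 := by
    by_contra hc
    obtain rfl : k = 3 := by omega
    refine hgX ?_
    have e : Subgroup.zpowers h = Q := Subgroup.eq_of_le_of_card_ge (Subgroup.zpowers_le.2 hh)
      (by rw [Nat.card_zpowers, hkk, hQ]; norm_num)
    have h3 : Q ≤ d.X := e ▸ Subgroup.zpowers_le.2 (zpow_mem_X d _)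
    exact h3 hgQ
  have h4 : h ^ (4 : ℤ) = 1 := by
    rw [show (4 : ℤ) = ((4 : ℕ) : ℤ) by rfl, zpow_natCast, ← orderOf_dvd_iff_pow_eq_one, hkk,
      show 4 = 2 ^ 2 by rfl]
    exact pow_dvd_pow 2 hk2
  rw [hhdef, ← zpow_mul, zpow_eq_one_iff] at h4
  obtain ⟨c, hc⟩ := h4
  have hM := d.hM
  have h5 : (d.M : ℤ) ∣ 1 := ⟨c + 2, by linarith⟩
  have hM1 : d.M = 1 := by exact_mod_cast Int.eq_one_of_dvd_one (by positivity) h5
  refine ⟨hM1, ?_, i, hi, hgQ⟩
  have h6 := inv_mem hh
  rwa [hhdef, ← zpow_neg, hM1, show -(2 - 4 * ((1 : ℕ) : ℤ)) = (2 : ℤ) by norm_num] at h6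

/-- In order sixteen an odd order action fixing nothing but the data is trivial. -/
theorem fix_gen (hM : d.M = 1) {σ : S ≃* S} (hσ : Odd (orderOf σ)) : σ d.x = d.x ∧ σ d.y = d.y := by
  have hord : orderOf d.x = 8 := by rw [d.hx, hM]
  have hXmem : σ d.x ∈ d.X := by
    by_contra h
    rcases sq_of_not_mem_X d h with e | e
    · rw [← map_mul, map_eq_one_iff _ σ.injective, ← pow_two, ← orderOf_dvd_iff_pow_eq_one, hord] at e
      omega
    · have h2 := congrArg (fun s => s * s) e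
      simp only [← map_mul, CfsgLib.Involutions.mul_self_eq_one_of_orderOf (orderOf_z d)] at h2
      rw [map_eq_one_iff _ σ.injective, ← mul_assoc] at h2
      have : d.x ^ 4 = 1 := by rw [← h2]; simp [pow_succ]
      rw [← orderOf_dvd_iff_pow_eq_one, hord] at this
      omega
  obtain ⟨k, hk⟩ := hXmem
  have hfix : ∀ (ρ : S ≃* S), Odd (orderOf ρ) → ∀ a : ℤ, ρ d.x = d.x ^ a → ρ d.x = d.x := by
    intro ρ hρ a ha
    have hit : ∀ n : ℕ, (ρ ^ n) d.x = d.x ^ (a ^ n) := by
      intro n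
      induction n with
      | zero => simp
      | succ n ih => rw [pow_succ', MulAut.mul_apply, ih, map_zpow, ha, ← zpow_mul, pow_succ']
    have h1 := hit (orderOf ρ)
    rw [pow_orderOf_eq_one, MulAut.one_apply] at h1
    have h1' : d.x ^ (1 : ℤ) = d.x ^ (a ^ orderOf ρ) := by rw [zpow_one]; exact h1
    rw [zpow_eq_iff, hM] at h1'
    obtain ⟨j, hj⟩ := hρ
    have key : ∀ b : ZMod 8, b ^ (2 * j + 1) = 1 → b = 1 := by
      intro b hb
      have hsq : ∀ c : ZMod 8, c ^ 4 = 0 ∨ c ^ 2 = 1 := by decide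
      rcases hsq b with e | e
      · exfalso
        have h4 : (b ^ (2 * j + 1)) ^ 4 = (b ^ 4) ^ (2 * j + 1) := pow_right_comm b _ _
        rw [hb, e, one_pow, zero_pow (by omega)] at h4
        exact absurd h4 (by decide)
      · rwa [pow_succ, pow_mul, e, one_pow, one_mul] at hb
    have h2 : ((a : ZMod 8)) ^ (2 * j + 1) = 1 := by
      have h3 := (ZMod.intCast_eq_intCast_iff_dvd_sub 1 (a ^ (2 * j + 1)) 8).2 (by
        rw [← hj]; simpa using h1')
      push_cast at h3
      exact h3.symm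
    have h4 : ((1 : ℤ) : ZMod 8) = (a : ZMod 8) := by rw [key _ h2, Int.cast_one]
    rw [ha]
    conv_rhs => rw [← zpow_one d.x]
    rw [zpow_eq_iff, hM]
    obtain ⟨r, hr⟩ := (ZMod.intCast_eq_intCast_iff_dvd_sub 1 a 8).1 h4
    exact ⟨-r, by push_cast at hr ⊢; linarith⟩
  have hx := hfix σ hσ k hk.symm
  refine ⟨hx, ?_⟩
  have hy2 : orderOf (σ d.y) = 2 := by rw [MulEquiv.orderOf_eq, d.hy]
  rcases involution_cases d hy2 with e | ⟨j, hj⟩
  · have hz : σ d.z = d.z := by rw [Data.z, map_zpow, hx]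
    exact absurd (σ.injective (e.trans hz.symm) ▸ z_mem_X d) (y_not_mem d)
  have hit : ∀ n : ℕ, (σ ^ n) d.y = d.x ^ (2 * j * (n : ℤ)) * d.y := by
    intro n
    induction n with
    | zero => simp
    | succ n ih =>
      rw [pow_succ', MulAut.mul_apply, ih, map_mul, map_zpow, hx, hj, ← mul_assoc, ← zpow_add]
      congr 2
      push_cast
      ring
  have h1 := hit (orderOf σ)
  rw [pow_orderOf_eq_one, MulAut.one_apply] at h1
  have h1' : d.x ^ (0 : ℤ) * d.y = d.x ^ (2 * j * (orderOf σ : ℤ)) * d.y := by rw [zpow_zero, one_mul]; exact h1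
  rw [xy_eq_iff, hM, sub_zero] at h1'
  obtain ⟨n, hn⟩ := hσ
  rw [hj]
  conv_rhs => rw [← one_mul d.y, ← zpow_zero d.x]
  rw [xy_eq_iff, hM]
  have hcop : IsCoprime (8 : ℤ) (orderOf σ : ℤ) := by
    rw [hn, show (8 : ℤ) = 2 ^ 3 by norm_num]
    refine IsCoprime.pow_left ⟨-(n : ℤ), 1, ?_⟩
    push_cast
    ring
  have h8 : (8 : ℤ) ∣ 2 * j := hcop.dvd_of_dvd_mul_right (by simpa using h1')
  simpa using h8.neg_right

end CfsgLib.Homogeneous.SD
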