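import Cfsg.Agent.Lib.Homogeneous.SD.Tools
import Cfsg.Agent.Lib.Homogeneous.SD.SLAut
import Cfsg.Agent.Lib.Fusion.RankTwoSimple
import Cfsg.Agent.Lib.Coprime
import Cfsg.Agent.Lib.PSolvable
import Cfsg.Agent.Lib.SL2Orders
import Cfsg.Agent.S1240

/-!
The centraliser of the central involution of a semidihedral Sylow 2-subgroup in a simple homogeneous group: the
automorphisms of its section `SL₂(q)` induced from power maps of cyclic subgroups.
-/

set_option autoImplicit false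
set_option linter.unusedSectionVars false
set_option linter.style.haveILetI false

namespace CfsgLib.Homogeneous.SD

open Cfsg Subgroup
open scoped commutatorElement MatrixGroups

universe u

/-- A homogeneous group with semidihedral Sylow 2-subgroup. -/
structure Ctx (G : Type u) [Group G] where
  hom : Hom G
  S : Sylow 2 G
  hQD : IsQuasiDihedral (S : Subgroup G)
  d : CfsgLib.QD.Data (S : Subgroup G)

variable {G : Type u} [Group G] [Finite G]

namespace Ctx

variable (c : Ctx G)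

/-- The central involution. -/
def z : G := ((c.d.z : (c.S : Subgroup G)) : G)

/-- Its centraliser. -/
abbrev Cz : Subgroup G := centralizer ({c.z} : Set G)

/-- The quotient by the core. -/
def π : ↥c.Cz →* ↥c.Cz ⧸ oddCore ↥c.Cz := QuotientGroup.mk' _

/-- Its derived group. -/
abbrev L : Subgroup (↥c.Cz ⧸ oddCore ↥c.Cz) := _root_.commutator (↥c.Cz ⧸ oddCore ↥c.Cz)

/-- The preimage of the derived group. -/
abbrev PL : Subgroup ↥c.Cz := c.L.comap c.π

theorem orderOf_z : orderOf c.z = 2 := by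
  rw [z, Subgroup.orderOf_coe, CfsgLib.QD.orderOf_z]

theorem z_mem : c.z ∈ (c.S : Subgroup G) := c.d.z.2

theorem z_sq : c.z * c.z = 1 := CfsgLib.Involutions.mul_self_eq_one_of_orderOf c.orderOf_z

theorem z_ne_one : c.z ≠ 1 := fun e => by
  have h := c.orderOf_z
  rw [e, orderOf_one] at h
  omega

theorem S_le : (c.S : Subgroup G) ≤ c.Cz := fun g hg => mem_centralizer_singleton_iff.2
  (congrArg Subtype.val (mem_center_iff.1 (CfsgLib.QD.z_central c.d) ⟨g, hg⟩))

/-- The central involution in its centraliser. -/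
def zC : ↥c.Cz := ⟨c.z, mem_centralizer_singleton_iff.2 rfl⟩

theorem zC_comm (x : ↥c.Cz) : c.zC * x = x * c.zC :=
  Subtype.ext (mem_centralizer_singleton_iff.1 x.2).symm

theorem π_surjective : Function.Surjective c.π := QuotientGroup.mk'_surjective _

theorem π_eq_one {x : ↥c.Cz} : c.π x = 1 ↔ x ∈ oddCore ↥c.Cz := QuotientGroup.eq_one_iff x

theorem π_eq {x y : ↥c.Cz} : c.π x = c.π y ↔ x⁻¹ * y ∈ oddCore ↥c.Cz := QuotientGroup.eq

theorem odd_O : Odd (Nat.card (oddCore ↥c.Cz)) := CfsgLib.odd_card_oddCore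

theorem odd_of_mem_O {x : ↥c.Cz} (hx : x ∈ oddCore ↥c.Cz) : Odd (orderOf x) :=
  c.odd_O.of_dvd_nat (orderOf_dvd_natCard _ hx)

theorem eq_one_of_two {x : ↥c.Cz} (hx : x ∈ oddCore ↥c.Cz) {k : ℕ} (h : x ^ 2 ^ k = 1) : x = 1 :=
  orderOf_eq_one_iff.1 (Nat.eq_one_of_dvd_coprimes ((Nat.coprime_two_left.2 (c.odd_of_mem_O hx)).pow_left k)
    (orderOf_dvd_of_pow_eq_one h) dvd_rfl)

theorem two_pow_of_mem_S {x : ↥c.Cz} (hx : (x : G) ∈ (c.S : Subgroup G)) : ∃ k : ℕ, x ^ 2 ^ k = 1 := by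
  obtain ⟨k, hk⟩ := c.S.2 ⟨_, hx⟩
  exact ⟨k, Subtype.ext (by rw [SubmonoidClass.coe_pow]; exact congrArg Subtype.val hk)⟩

theorem eq_of_π_eq {x y : ↥c.Cz} (hx : (x : G) ∈ (c.S : Subgroup G)) (hy : (y : G) ∈ (c.S : Subgroup G))
    (h : c.π x = c.π y) : x = y := by
  have h1 := c.π_eq.1 h
  obtain ⟨k, hk⟩ := c.two_pow_of_mem_S (x := x⁻¹ * y) (mul_mem (inv_mem hx) hy)
  exact inv_mul_eq_one.1 (c.eq_one_of_two h1 hk)

/-- Every 2-element of the centraliser is conjugate there into the Sylow subgroup. -/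
theorem conj_into_S {T : Subgroup ↥c.Cz} (hT : IsPGroup 2 T) :
    ∃ g : ↥c.Cz, ∀ x ∈ T, ((g * x * g⁻¹ : ↥c.Cz) : G) ∈ (c.S : Subgroup G) := by
  haveI := Fact.mk Nat.prime_two
  obtain ⟨P, hP⟩ := hT.exists_le_sylow
  obtain ⟨g, hg⟩ := MulAction.exists_smul_eq ↥c.Cz P (c.S.subtype c.S_le)
  refine ⟨g, fun x hx => ?_⟩
  have h : g * x * g⁻¹ ∈ ((c.S.subtype c.S_le : Sylow 2 ↥c.Cz) : Subgroup ↥c.Cz) := by
    rw [← hg, Sylow.coe_subgroup_smul]
    exact ⟨x, hP hx, rfl⟩
  exact h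

include c

section Simple

variable [IsSimpleGroup G]

theorem sixteen_dvd : 16 ∣ Nat.card G :=
  dvd_trans ⟨c.d.M, c.d.hcard⟩ (card_subgroup_dvd_card _)

theorem four_le : 4 ≤ Nat.card G := le_trans (by norm_num) (Nat.le_of_dvd Nat.card_pos c.sixteen_dvd)

theorem isConj_invol {a b : G} (ha : orderOf a = 2) (hb : orderOf b = 2) : IsConj a b :=
  CfsgLib.RankTwoSimple.isConj_of_card_classes
    (CfsgLib.RankTwoSimple.classes_of_quasiDihedral c.S c.hQD c.sixteen_dvd).1 ha hb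

theorem exists_conj_z {t : G} (ht : orderOf t = 2) : ∃ g : G, g * c.z * g⁻¹ = t :=
  isConj_iff.1 (c.isConj_invol c.orderOf_z ht)

theorem exists_model : ∃ (F : Type) (_ : Field F) (_ : Fintype F),
    Odd (Fintype.card F) ∧ Nonempty (↥c.L ≃* Matrix.SpecialLinearGroup (Fin 2) F) :=
  Cfsg.Agent.S1240.result c.S (Or.inl c.hQD)
    (fun H hH => CfsgLib.RankTwoSimple.not_index_two c.four_le (Subgroup.normal_of_index_eq_two hH) hH)
    (fun _ _ => c.isConj_invol) c.z c.orderOf_z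

end Simple

variable {F : Type} [Field F] [Fintype F] (e : ↥c.L ≃* Matrix.SpecialLinearGroup (Fin 2) F)
include e

/-- The involution of the derived group is the image of the central involution. -/
theorem exists_π_z (hF : Odd (Fintype.card F)) : ∃ h : c.π c.zC ∈ c.L, e ⟨_, h⟩ = -1 := by
  haveI := Fact.mk Nat.prime_two
  have h2 : (2 : F) ≠ 0 := CfsgLib.SL2Orders.two_ne_zero_of_odd hF
  have hne : (-1 : Matrix.SpecialLinearGroup (Fin 2) F) ≠ 1 := by
    intro h
    have h0 := congrArg (fun A : Matrix.SpecialLinearGroup (Fin 2) F => (A : Matrix (Fin 2) (Fin 2) F) 0 0) h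
    simp at h0
    exact h2 (by linear_combination -h0)
  set m : ↥c.L := e.symm (-1) with hm
  have hm1 : m ≠ 1 := fun h => hne (by rw [← e.apply_symm_apply (-1), ← hm, h, map_one])
  have hmm : m * m = 1 := e.injective (by rw [map_mul, map_one, hm, e.apply_symm_apply, neg_mul_neg, one_mul])
  have hcentral : ∀ x : ↥c.Cz ⧸ oddCore ↥c.Cz, x * (m : _) * x⁻¹ = m := by
    intro x
    have hmem : x * (m : ↥c.Cz ⧸ oddCore ↥c.Cz) * x⁻¹ ∈ c.L := (inferInstance : c.L.Normal).conj_mem _ m.2 x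
    have hmm' : (m : ↥c.Cz ⧸ oddCore ↥c.Cz) * m = 1 := congrArg Subtype.val hmm
    rcases CfsgLib.SL2Orders.eq_one_or_neg_one_of_sq h2 (e ⟨_, hmem⟩) (by
      rw [← map_mul]
      refine (congrArg e (Subtype.ext ?_)).trans (map_one e)
      show x * m * x⁻¹ * (x * m * x⁻¹) = 1
      calc _ = x * ((m : ↥c.Cz ⧸ oddCore ↥c.Cz) * m) * x⁻¹ := by group
        _ = 1 := by rw [hmm', mul_one, mul_inv_cancel]) with h | h
    · rw [map_eq_one_iff e e.injective] at h
      exact absurd (Subtype.ext (conj_eq_one_iff.1 (congrArg Subtype.val h))) hm1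
    · have := congrArg Subtype.val (e.injective (h.trans (e.apply_symm_apply (-1)).symm))
      exact this
  obtain ⟨w, hw⟩ := c.π_surjective (m : ↥c.Cz ⧸ oddCore ↥c.Cz)
  obtain ⟨k, r, hr, hord⟩ := Nat.exists_eq_two_pow_mul_odd (orderOf_pos w).ne'
  have hwr : (w ^ r) ^ 2 ^ k = 1 := by rw [← pow_mul, mul_comm, ← hord, pow_orderOf_eq_one]
  have hπr : c.π (w ^ r) = m := by
    obtain ⟨j, rfl⟩ := hr
    rw [map_pow, hw, pow_succ, pow_mul, pow_two, show (m : ↥c.Cz ⧸ oddCore ↥c.Cz) * m = 1 from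
      congrArg Subtype.val hmm, one_pow, one_mul]
  obtain ⟨g, hg⟩ := c.conj_into_S (T := zpowers (w ^ r)) (zpowers_two _ hwr)
  set t := g * w ^ r * g⁻¹ with ht
  have htS : (t : G) ∈ (c.S : Subgroup G) := hg _ (mem_zpowers _)
  have hπt : c.π t = m := by rw [ht, map_mul, map_mul, map_inv, hπr, hcentral]
  have hmm' : (m : ↥c.Cz ⧸ oddCore ↥c.Cz) * m = 1 := congrArg Subtype.val hmm
  have htt : t * t = 1 := c.eq_of_π_eq (mul_mem htS htS) (one_mem _) (by rw [map_mul, hπt, hmm', map_one])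
  have ht1 : t ≠ 1 := fun e' => hm1 (Subtype.ext (by rw [← hπt, e', map_one]; rfl))
  have hcS : (⟨t, htS⟩ : (c.S : Subgroup G)) ∈ center (c.S : Subgroup G) := by
    refine mem_center_iff.2 fun s => ?_
    let s' : ↥c.Cz := ⟨s, c.S_le s.2⟩
    have h := c.eq_of_π_eq (x := s' * t * s'⁻¹) (y := t) (mul_mem (mul_mem s.2 htS) (inv_mem s.2)) htS
      (by rw [map_mul, map_mul, map_inv, hπt, hcentral])
    exact Subtype.ext (congrArg Subtype.val (mul_inv_eq_iff_eq_mul.1 h) :)
  rw [CfsgLib.QD.center_eq_zpowers c.d] at hcS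
  have hzt : t = c.zC := by
    obtain ⟨i, hi⟩ := hcS
    have hzz := CfsgLib.Involutions.mul_self_eq_one_of_orderOf (CfsgLib.QD.orderOf_z c.d)
    have hi' : ((c.d.z ^ i : (c.S : Subgroup G)) : G) = (t : G) := congrArg Subtype.val hi
    obtain ⟨j, rfl | rfl⟩ := Int.even_or_odd' i
    · rw [zpow_mul, zpow_two, hzz, one_zpow] at hi'
      exact absurd (Subtype.ext hi'.symm) ht1
    · rw [zpow_add, zpow_mul, zpow_two, hzz, one_zpow, one_mul, zpow_one] at hi'
      exact Subtype.ext hi'.symm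
  have hmem : c.π c.zC ∈ c.L := by rw [← hzt, hπt]; exact m.2
  refine ⟨hmem, ?_⟩
  rw [show (⟨_, hmem⟩ : ↥c.L) = m from Subtype.ext (show c.π c.zC = (m : ↥c.Cz ⧸ oddCore ↥c.Cz) by rw [← hzt]; exact hπt), hm, e.apply_symm_apply]

/-- An element of even order of the derived group: all its power maps are induced. -/
theorem induced (hF : Odd (Fintype.card F)) {A : Matrix.SpecialLinearGroup (Fin 2) F} {n : ℕ}
    (hn : A ^ n = -1) {k : ℕ} (hk : k.Coprime (orderOf A)) :
    ∃ ψ : MulAut (Matrix.SpecialLinearGroup (Fin 2) F), ψ A = A ^ k := by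
  obtain ⟨hzL, hze⟩ := c.exists_π_z e hF
  obtain ⟨w, hw⟩ := c.π_surjective ((e.symm A : ↥c.L) : ↥c.Cz ⧸ oddCore ↥c.Cz)
  have hdvd : orderOf A ∣ orderOf w := by
    rw [← e.symm.orderOf_eq, ← Subgroup.orderOf_coe, ← hw]
    exact orderOf_map_dvd c.π w
  haveI : NeZero (orderOf w) := ⟨(orderOf_pos w).ne'⟩
  obtain ⟨u, hu⟩ := ZMod.unitsMap_surjective hdvd (ZMod.unitOfCoprime k hk)
  set k' := (u : ZMod (orderOf w)).val with hk'
  have hk'c : k'.Coprime (orderOf w) := ZMod.val_coe_unit_coprime u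
  have hk'A : A ^ k' = A ^ k := by
    rw [pow_eq_pow_iff_modEq, ← ZMod.natCast_eq_natCast_iff]
    have h1 := congrArg (fun v : (ZMod (orderOf A))ˣ => (v : ZMod (orderOf A))) hu
    simp only [ZMod.unitsMap_val, ZMod.coe_unitOfCoprime] at h1
    rw [← h1, hk', ZMod.natCast_val]
  have hzw : c.z ∈ zpowers (w : G) := by
    have h1 : c.π (w ^ n) = c.π c.zC := by
      rw [map_pow, hw, ← SubmonoidClass.coe_pow, ← map_pow, hn, ← hze, e.symm_apply_apply]
    set o := c.zC⁻¹ * w ^ n with ho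
    have hoO : o ∈ oddCore ↥c.Cz := c.π_eq.1 h1.symm
    obtain ⟨r, hr⟩ := c.odd_of_mem_O hoO
    have h2 : (w ^ n) ^ orderOf o = c.zC := by
      have hzz : c.zC * c.zC = 1 := Subtype.ext c.z_sq
      rw [show w ^ n = c.zC * o by rw [ho]; group, (show Commute c.zC o from c.zC_comm o).mul_pow,
        pow_orderOf_eq_one, mul_one, hr, pow_succ, pow_mul, pow_two, hzz, one_pow, one_mul]
    refine mem_zpowers_iff.2 ⟨(n * orderOf o : ℕ), ?_⟩
    rw [zpow_natCast, pow_mul, ← SubmonoidClass.coe_pow, ← SubmonoidClass.coe_pow, h2]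
    rfl
  -- the power map of the cyclic group
  let W : Subgroup G := zpowers (w : G)
  have hWcard : Nat.card W = orderOf w := by rw [Nat.card_zpowers, Subgroup.orderOf_coe]
  let pk : ↥W ≃* ↥W :=
    { powCoprime (G := ↥W) (n := k') (by rw [hWcard]; exact hk'c.symm) with
      map_mul' := fun a b => by
        show (a * b) ^ k' = a ^ k' * b ^ k'
        exact (show Commute a b from mul_comm' a b).mul_pow k' }
  obtain ⟨φ, hφ⟩ := c.hom.extend W pk
  have hφw : φ (w : G) = (w : G) ^ k' := hφ ⟨_, mem_zpowers _⟩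
  have hφz : φ c.z = c.z := by
    have h1 := hφ ⟨_, hzw⟩
    rw [h1]
    show (((⟨c.z, hzw⟩ : W) ^ k' : W) : G) = c.z
    have hodd : Odd k' := by
      have h2 : 2 ∣ orderOf w := by
        rw [← Subgroup.orderOf_coe, ← c.orderOf_z, ← Nat.card_zpowers c.z, ← Nat.card_zpowers (w : G)]
        exact card_dvd_of_le (zpowers_le.2 hzw)
      exact Nat.coprime_two_right.1 (hk'c.coprime_dvd_right h2)
    obtain ⟨r, hr⟩ := hodd
    rw [SubmonoidClass.coe_pow, hr, pow_succ, pow_mul, pow_two, c.z_sq, one_pow, one_mul]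
  have hmap : c.Cz.map φ.toMonoidHom = c.Cz := by
    ext x
    simp only [Subgroup.mem_map, mem_centralizer_singleton_iff, MulEquiv.coe_toMonoidHom]
    constructor
    · rintro ⟨y, hy, rfl⟩
      rw [← hφz, ← map_mul, ← map_mul, hy]
    · intro hx
      refine ⟨φ.symm x, φ.injective ?_, φ.apply_symm_apply x⟩
      rw [map_mul, map_mul, φ.apply_symm_apply, hφz, hx]
  let φC : ↥c.Cz ≃* ↥c.Cz := (φ.subgroupMap c.Cz).trans (MulEquiv.subgroupCongr hmap)
  let φQ : (↥c.Cz ⧸ oddCore ↥c.Cz) ≃* (↥c.Cz ⧸ oddCore ↥c.Cz) :=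
    QuotientGroup.congr _ _ φC (characteristic_iff_map_eq.1 inferInstance φC)
  let φL : ↥c.L ≃* ↥c.L := restrictChar c.L φQ
  refine ⟨(e.symm.trans φL).trans e, ?_⟩
  show e (φL (e.symm A)) = A ^ k
  rw [← hk'A]
  have hval : φL (e.symm A) = (e.symm A) ^ k' := by
    refine Subtype.ext ?_
    rw [SubmonoidClass.coe_pow, ← hw, coe_restrictChar, ← hw, ← map_pow]
    show QuotientGroup.mk' _ (φC w) = c.π (w ^ k')
    have : φC w = w ^ k' := Subtype.ext (by rw [SubmonoidClass.coe_pow]; exact hφw)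
    rw [this]
    rfl
  rw [hval, map_pow, e.apply_symm_apply]

/-- Four possible fields. -/
theorem field_cases (hF : Odd (Fintype.card F)) :
    Fintype.card F = 3 ∨ Fintype.card F = 5 ∨ Fintype.card F = 9 := by
  classical
  have h2 : (2 : F) ≠ 0 := CfsgLib.SL2Orders.two_ne_zero_of_odd hF
  rcases Classical.em (Fintype.card F = 7) with h7 | h7
  · exfalso
    haveI : Fact (Nat.Prime 7) := ⟨by norm_num⟩
    haveI : CharP F 7 := charP_of_card_eq_prime h7
    let A : Matrix.SpecialLinearGroup (Fin 2) F := ⟨!![0, -1; 1, 3], by simp [Matrix.det_fin_two]⟩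
    have h7' : (7 : F) = 0 := by exact_mod_cast CharP.cast_eq_zero F 7
    have hA2 : (A * A).1 = !![-1, -3; 3, 8] := by
      show A.1 * A.1 = _
      simp only [A]
      ext i j
      fin_cases i <;> fin_cases j <;> simp [Matrix.mul_apply, Fin.sum_univ_two] <;> norm_num
    have hA4 : A ^ 4 = -1 := by
      refine Subtype.ext ?_
      rw [show (4 : ℕ) = 2 + 2 by rfl, pow_add, sq]
      show (A * A).1 * (A * A).1 = -1
      rw [hA2]
      ext i j
      fin_cases i <;> fin_cases j <;> simp [Matrix.mul_apply, Fin.sum_univ_two]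
      · linear_combination (-1 : F) * h7'
      · linear_combination (-3 : F) * h7'
      · linear_combination (3 : F) * h7'
      · linear_combination (8 : F) * h7'
    have h8 : orderOf A ∣ 2 ^ 3 := orderOf_dvd_of_pow_eq_one (by
      rw [show 2 ^ 3 = 4 + 4 by rfl, pow_add, hA4, neg_mul_neg, one_mul])
    obtain ⟨ψ, hψ⟩ := c.induced e hF hA4 (k := 3)
      (((Nat.coprime_primes Nat.prime_three Nat.prime_two).2 (by norm_num)).pow_right 3 |>.coprime_dvd_right h8)
    obtain ⟨σ, hσ⟩ := exists_trace h2 ψ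
    have h3 := hσ A
    rw [hψ, show (3 : ℕ) = 2 + 1 by rfl, pow_succ, sq] at h3
    have hA3 : ((A * A) * A).1.trace = (18 : F) := by
      show ((A * A).1 * A.1).trace = _
      rw [hA2]
      simp only [A]
      simp [Matrix.trace_fin_two, Matrix.mul_apply, Fin.sum_univ_two]
      norm_num
    rw [hA3, ringAut_eq_refl (h7 ▸ (by norm_num : Nat.Prime 7)) σ] at h3
    have h30 : (3 : F) = 18 := by
      rw [h3]; simp [A, Matrix.trace_fin_two]
    exact one_ne_zero (α := F) (by linear_combination (-1 : F) * h30 + (-2 : F) * h7')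
  have := card_cases hF fun a hev k hk => ?_
  · omega
  obtain ⟨n, hn⟩ := hev
  have hdS : ∀ j : ℕ, ((CfsgLib.PSL2.dSL (a : F) a.ne_zero) ^ j).1 =
      !![((a ^ j : Fˣ) : F), 0; 0, (((a ^ j)⁻¹ : Fˣ) : F)] := by
    intro j
    induction j with
    | zero => simp [Matrix.one_fin_two]
    | succ j ih =>
      rw [pow_succ, Matrix.SpecialLinearGroup.coe_mul, ih, CfsgLib.PSL2.coe_dSL]
      ext i l
      fin_cases i <;> fin_cases l <;> simp [Matrix.mul_apply, Fin.sum_univ_two, pow_succ, mul_comm]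
  set A := CfsgLib.PSL2.dSL (a : F) a.ne_zero with hA
  have hordA : orderOf A = orderOf a := by
    refine orderOf_eq_orderOf_iff.2 fun j => ⟨fun h => ?_, fun h => Subtype.ext (by rw [hdS, h]; simp [Matrix.one_fin_two])⟩
    have h0 := congrArg (fun B : Matrix.SpecialLinearGroup (Fin 2) F => B.1 0 0) h
    simp only [hdS] at h0
    exact Units.ext (by simpa using h0)
  have han : a ^ n = -1 := by
    have h1 : (a ^ n) * (a ^ n) = 1 := by rw [← pow_add, ← hn, pow_orderOf_eq_one]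
    have h1' : ((a ^ n : Fˣ) : F) * (a ^ n : Fˣ) = 1 := by rw [← Units.val_mul, h1, Units.val_one]
    rcases mul_self_eq_one_iff.1 h1' with e' | e'
    · have h0 := orderOf_dvd_of_pow_eq_one (Units.ext (by simpa using e') : a ^ n = 1)
      have hpos := orderOf_pos a
      have := Nat.le_of_dvd (by omega) h0
      omega
    · exact Units.ext (by simpa using e')
  have hAn : A ^ n = -1 := Subtype.ext (by
    rw [hdS, han]
    ext i l
    fin_cases i <;> fin_cases l <;> simp)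
  obtain ⟨ψ, hψ⟩ := c.induced e hF hAn (hordA ▸ hk)
  obtain ⟨σ, hσ⟩ := exists_trace h2 ψ
  refine ⟨σ, ?_⟩
  have h3 := hσ A
  rw [hψ, hdS, hA, CfsgLib.PSL2.coe_dSL] at h3
  simp [Matrix.trace_fin_two] at h3 ⊢
  exact h3.symm

end Ctx

end CfsgLib.Homogeneous.SD
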