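import Cfsg.Agent.Lib.Homogeneous.SD.Core
import Cfsg.Agent.Lib.PSL2Klein
import Cfsg.Agent.Lib.SLCard

/-!
No central extension by a group of order three of `PSL₂(q)`, with kernel otherwise prime to three, admits inner
shifts by homomorphisms into the central subgroup.
-/

set_option autoImplicit false
set_option linter.unusedSectionVars false
set_option linter.style.haveILetI false

namespace CfsgLib.Homogeneous.SD.Shift

open Subgroup CfsgLib.PSL2
open scoped commutatorElement MatrixGroups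

universe u

section PSLFacts

variable {F : Type} [Field F]

local notation "SL" => Matrix.SpecialLinearGroup (Fin 2) F
local notation "PSL" => Matrix.ProjectiveSpecialLinearGroup (Fin 2) F
local notation "mk" => (CfsgLib.PSL2.mk : SL →* PSL)

variable [Fintype F] (h2 : (2 : F) ≠ 0)
include h2

/-- The centraliser of an upper unitriangular element. -/
theorem cent_uu {d : PSL} (hd : d * uu 1 = uu 1 * d) : ∃ t : F, d = uu t := by
  obtain ⟨D, rfl⟩ := QuotientGroup.mk'_surjective _ d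
  rw [uu_eq, ← map_mul, ← map_mul, mk_eq_mk] at hd
  simp only [Matrix.SpecialLinearGroup.coe_mul, coe_uSL] at hd
  have hdet := D.2
  rw [Matrix.det_fin_two] at hdet
  rcases hd with h | h
  · have h00 := congrFun (congrFun h 0) 0
    have h01 := congrFun (congrFun h 0) 1
    simp [Matrix.mul_apply, Fin.sum_univ_two] at h00 h01
    have hd' : D.1 1 1 = D.1 0 0 := by linear_combination h01
    rw [h00, hd'] at hdet
    have ha : D.1 0 0 = 1 ∨ D.1 0 0 = -1 := mul_self_eq_one_iff.1 (by linear_combination hdet)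
    rcases ha with ha | ha
    · refine ⟨D.1 0 1, ?_⟩
      rw [uu_eq, mk_eq_mk]
      left
      ext i j
      fin_cases i <;> fin_cases j <;> simp [coe_uSL, h00, hd', ha]
    · refine ⟨-D.1 0 1, ?_⟩
      rw [uu_eq, mk_eq_mk]
      right
      ext i j
      fin_cases i <;> fin_cases j <;> simp [coe_uSL, h00, hd', ha]
  · exfalso
    have h00 := congrFun (congrFun h 0) 0
    have h10 := congrFun (congrFun h 1) 0
    have h11 := congrFun (congrFun h 1) 1
    simp [Matrix.mul_apply, Fin.sum_univ_two] at h00 h10 h11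
    have hc : D.1 1 0 = 0 := (mul_eq_zero.1 (show (2 : F) * D.1 1 0 = 0 by linear_combination h10)).resolve_left h2
    rw [hc] at hdet h00 h11
    have ha : D.1 0 0 = 0 := (mul_eq_zero.1 (show (2 : F) * D.1 0 0 = 0 by linear_combination h00)).resolve_left h2
    rw [ha] at hdet
    simp at hdet

/-- An element of order three commuting with a given one is one of its powers. -/
theorem cent_three (h3 : (3 : F) ≠ 0) {A D : SL} (hA : A.1 = !![0, -1; 1, -1]) (hd : mk D * mk A = mk A * mk D)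
    (hd3 : mk D ^ 3 = 1) (hd1 : mk D ≠ 1) : mk D = mk A ∨ mk D = mk A * mk A := by
  rw [← map_mul, ← map_mul, mk_eq_mk] at hd
  simp only [Matrix.SpecialLinearGroup.coe_mul] at hd
  have hcomm : D.1 * A.1 = A.1 * D.1 := by
    rcases hd with h | h
    · exact h.symm
    · exfalso
      have h00 := congrFun (congrFun h 0) 0
      have h10 := congrFun (congrFun h 1) 0
      have h11 := congrFun (congrFun h 1) 1
      simp [hA, Matrix.mul_apply, Fin.sum_univ_two] at h00 h10 h11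
      have hdet := D.2
      rw [Matrix.det_fin_two] at hdet
      have h01 := congrFun (congrFun h 0) 1
      simp [hA, Matrix.mul_apply, Fin.sum_univ_two] at h01
      have hd0 : D.1 1 1 = 0 := (mul_eq_zero.1 (show (2 : F) * D.1 1 1 = 0 by
        linear_combination -h11 - h00)).resolve_left h2
      rw [hd0] at hdet h10 h01
      have ha0 : D.1 0 0 = 0 := (mul_eq_zero.1 (show (2 : F) * D.1 0 0 = 0 by
        linear_combination h10 + h00 - h01)).resolve_left h2
      rw [ha0] at hdet h10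
      have hc0 : D.1 1 0 = 0 := by linear_combination -h10
      rw [hc0] at hdet
      simp at hdet
  -- the commutant is spanned by the identity and the element
  have h00 := congrFun (congrFun hcomm 0) 0
  have h10 := congrFun (congrFun hcomm 1) 0
  simp [hA, Matrix.mul_apply, Fin.sum_univ_two] at h00 h10
  set al := D.1 0 0 with hal
  set be := D.1 1 0 with hbe
  have e01 : D.1 0 1 = -be := by linear_combination h00
  have e11 : D.1 1 1 = al - be := by linear_combination h10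
  have hdet := D.2
  rw [Matrix.det_fin_two, e01, e11, ← hal, ← hbe] at hdet
  have hD : D.1 = !![al, -be; be, al - be] := by
    ext i j
    fin_cases i <;> fin_cases j <;> simp [hal, hbe, e01, e11]
  have hD3 : (D ^ 3).1 = ((2 * al - be) ^ 2 - 1) • D.1 - (2 * al - be) • (1 : Matrix (Fin 2) (Fin 2) F) := by
    rw [pow_succ, pow_two, Matrix.SpecialLinearGroup.coe_mul, Matrix.SpecialLinearGroup.coe_mul, hD]
    ext i j
    fin_cases i <;> fin_cases j <;> simp [Matrix.mul_apply, Fin.sum_univ_two]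
    · linear_combination (be - 2 * al - al) * hdet + (2 * al - be) * 0
    · linear_combination be * hdet
    · linear_combination -be * hdet
    · linear_combination (-(al - be) - (2 * al - be)) * hdet
  rw [← map_pow, ← map_one mk, mk_eq_mk, hD3] at hd3
  have hsc : be ≠ 0 := by
    intro h0
    refine hd1 ?_
    rw [← map_one mk, mk_eq_mk]
    rw [h0] at hdet
    rcases mul_self_eq_one_iff.1 (show al * al = 1 by linear_combination hdet) with h | h
    · left; rw [hD, h0, h]; ext i j; fin_cases i <;> fin_cases j <;> simp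
    · right; rw [hD, h0, h]; ext i j; fin_cases i <;> fin_cases j <;> simp
  have ht : (2 * al - be) ^ 2 = 1 := by
    rcases hd3 with h | h <;>
    · have h1 := congrFun (congrFun h 1) 0
      simp [hD] at h1
      rcases h1 with h1 | h1
      · linear_combination h1
      · exact absurd h1 hsc
  rcases mul_self_eq_one_iff.1 (show (2 * al - be) * (2 * al - be) = 1 by linear_combination ht) with h | h
  · have hb : be = 2 * al - 1 := by linear_combination -h
    have h0 : al = 0 ∨ al = 1 := by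
      rcases mul_eq_zero.1 (show (3 : F) * (al * (al - 1)) = 0 by rw [hb] at hdet; linear_combination hdet) with e | e
      · exact absurd e h3
      · rcases mul_eq_zero.1 e with e | e
        · exact Or.inl e
        · exact Or.inr (sub_eq_zero.1 e)
    rw [← map_mul]
    rcases h0 with e | e <;> rw [hb, e] at hD
    · left
      rw [mk_eq_mk]; right
      rw [hD, hA]; ext i j; fin_cases i <;> fin_cases j <;> simp
    · right
      rw [mk_eq_mk]; right
      rw [Matrix.SpecialLinearGroup.coe_mul, hD, hA]; ext i j; fin_cases i <;> fin_cases j <;> simp <;> norm_num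
  · have hb : be = 2 * al + 1 := by linear_combination -h
    have h0 : al = 0 ∨ al = -1 := by
      rcases mul_eq_zero.1 (show (3 : F) * (al * (al + 1)) = 0 by rw [hb] at hdet; linear_combination hdet) with e | e
      · exact absurd e h3
      · rcases mul_eq_zero.1 e with e | e
        · exact Or.inl e
        · exact Or.inr (eq_neg_of_add_eq_zero_left e)
    rw [← map_mul]
    rcases h0 with e | e <;> rw [hb, e] at hD
    · left
      rw [mk_eq_mk]; left
      rw [hD, hA]; ext i j; fin_cases i <;> fin_cases j <;> simp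
    · right
      rw [mk_eq_mk]; left
      rw [Matrix.SpecialLinearGroup.coe_mul, hD, hA]; ext i j; fin_cases i <;> fin_cases j <;> simp <;> norm_num

end PSLFacts

/-- The hypotheses: a central element of order three, and the shifts. -/
structure Hyp (X : Type u) [Group X] (F : Type) [Field F] [Fintype F] where
  π : X →* Matrix.ProjectiveSpecialLinearGroup (Fin 2) F
  surj : Function.Surjective π
  m : X
  central : ∀ x, m * x = x * m
  ord : orderOf m = 3
  π_m : π m = 1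
  ker3 : ∀ (x : X) (k : ℕ), x ^ 3 ^ k = 1 → π x = 1 → x ∈ zpowers m
  shift : ∀ P : Subgroup X, m ∈ P → ∀ φ : X → X, (∀ a ∈ P, ∀ b ∈ P, φ (a * b) = φ a * φ b) →
    (∀ a ∈ P, φ a ∈ zpowers m) → φ m = 1 → ∀ n : X, (∀ a ∈ P, n⁻¹ * a * n ∈ P) →
    ∃ g : X, ∀ a ∈ P, g * a * g⁻¹ = a * φ a * (φ (n⁻¹ * a * n))⁻¹

variable {X : Type u} [Group X] [Finite X] {F : Type} [Field F] [Fintype F]

local notation "PSL" => Matrix.ProjectiveSpecialLinearGroup (Fin 2) F

namespace Hyp

variable (H : Hyp X F)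
include H

theorem m_cube : H.m ^ 3 = 1 := H.ord ▸ pow_orderOf_eq_one _

theorem central' {c : X} (hc : c ∈ zpowers H.m) (x : X) : c * x = x * c := by
  obtain ⟨i, rfl⟩ := hc
  exact ((show Commute H.m x from H.central x).zpow_left i).eq

theorem pow_three' {c : X} (hc : c ∈ zpowers H.m) : c ^ 3 = 1 := by
  obtain ⟨i, rfl⟩ := hc
  show (H.m ^ i) ^ 3 = 1
  rw [← zpow_natCast, ← zpow_mul, mul_comm, zpow_mul, zpow_natCast, H.m_cube, one_zpow]

/-- A shift by an element of 3-power order. -/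
theorem shift_three (P : Subgroup X) (hmP : H.m ∈ P) (φ : X → X) (hmul : ∀ a ∈ P, ∀ b ∈ P, φ (a * b) = φ a * φ b)
    (hval : ∀ a ∈ P, φ a ∈ zpowers H.m) (hφm : φ H.m = 1) (n : X) (hn : ∀ a ∈ P, n⁻¹ * a * n ∈ P) :
    ∃ g : X, (∃ k : ℕ, g ^ 3 ^ k = 1) ∧ ∀ a ∈ P, g * a * g⁻¹ = a * φ a * (φ (n⁻¹ * a * n))⁻¹ := by
  obtain ⟨g, hg⟩ := H.shift P hmP φ hmul hval hφm n hn
  obtain ⟨k, N, hN, hord⟩ := Nat.exists_eq_pow_mul_and_not_dvd (orderOf_pos g).ne' 3 (by norm_num)
  refine ⟨g ^ (N * N), ⟨k, by rw [← pow_mul, show N * N * 3 ^ k = 3 ^ k * N * N by ring, ← hord, pow_mul,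
    pow_orderOf_eq_one, one_pow]⟩, fun a ha => ?_⟩
  set c := φ a * (φ (n⁻¹ * a * n))⁻¹ with hc
  have hcm : c ∈ zpowers H.m := mul_mem (hval a ha) (inv_mem (hval _ (hn a ha)))
  have hpow : ∀ j : ℕ, g ^ j * a * (g ^ j)⁻¹ = a * c ^ j := by
    intro j
    induction j with
    | zero => simp
    | succ j ih =>
      calc g ^ (j + 1) * a * (g ^ (j + 1))⁻¹ = g * (g ^ j * a * (g ^ j)⁻¹) * g⁻¹ := by rw [pow_succ']; group
        _ = g * a * g⁻¹ * (g * c ^ j * g⁻¹) := by rw [ih]; group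
        _ = a * c * c ^ j := by
          rw [hg a ha, ← H.central' (pow_mem hcm j) g, mul_inv_cancel_right, hc, mul_assoc a]
        _ = _ := by rw [pow_succ', mul_assoc]
  rw [hpow, mul_assoc a, ← hc]
  congr 1
  have h1 : (N * N) % 3 = 1 := by
    rw [Nat.mul_mod]
    have : N % 3 = 1 ∨ N % 3 = 2 := by omega
    rcases this with e | e <;> rw [e]
  rw [← Nat.mod_add_div (N * N) 3, h1, pow_add, pow_one, pow_mul, H.pow_three' hcm, one_pow, mul_one]

/-- A Sylow 3-subgroup of a preimage and a normalising lift. -/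
theorem exists_lift {T : Subgroup PSL} (hT : IsPGroup 3 ↥T) {s : PSL} (hs : ∀ a ∈ T, s * a * s⁻¹ ∈ T)
    (hab : ∀ a ∈ T, ∀ b ∈ T, a * b = b * a) :
    ∃ (P : Subgroup X) (n : X), IsPGroup 3 ↥P ∧ H.m ∈ P ∧ (∀ a ∈ P, H.π a ∈ T) ∧
      (∀ t ∈ T, ∃ a ∈ P, H.π a = t) ∧ (∀ a ∈ P, n⁻¹ * a * n ∈ P) ∧
      (∀ a ∈ T, (H.π n)⁻¹ * a * H.π n = s⁻¹ * a * s) ∧
      ∀ g : X, H.π g ∈ T → (∃ k, g ^ 3 ^ k = 1) → (∀ a ∈ P, g * a * g⁻¹ ∈ P) → g ∈ P := by
  haveI := Fact.mk Nat.prime_three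
  set K := T.comap H.π with hK
  have hmK : H.m ∈ K := by
    show H.π H.m ∈ T
    rw [H.π_m]; exact one_mem T
  have hmp : IsPGroup 3 ↥(zpowers (⟨H.m, hmK⟩ : ↥K)) := IsPGroup.of_card (n := 1) (by
    rw [Nat.card_zpowers, Subgroup.orderOf_mk, H.ord, pow_one])
  obtain ⟨P₀, hP₀⟩ := hmp.exists_le_sylow
  set P := (P₀ : Subgroup ↥K).map K.subtype with hP
  have hsur : Function.Surjective (H.π.subgroupComap T) := fun t => by
    obtain ⟨x, hx⟩ := H.surj t
    exact ⟨⟨x, show H.π x ∈ T by rw [hx]; exact t.2⟩, Subtype.ext hx⟩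
  obtain ⟨w, hw⟩ := H.surj s
  have hwK : w ∈ normalizer (K : Set X) := mem_normalizer_of_conj fun a ha => by
    show H.π (w * a * w⁻¹) ∈ T
    rw [map_mul, map_mul, map_inv, hw]
    exact hs _ ha
  obtain ⟨u, huK, hun⟩ := frattini P₀ hwK
  rw [← hP] at hun
  refine ⟨P, u * w, P₀.2.map _, ⟨⟨H.m, hmK⟩, hP₀ (mem_zpowers _), rfl⟩, ?_, fun t ht => ?_, fun a ha => ?_,
    fun a ha => ?_, fun g hg hg3 hgP => ?_⟩
  · rintro _ ⟨a, -, rfl⟩; exact a.2
  · have htop : ((P₀.mapSurjective hsur : Sylow 3 ↥T) : Subgroup ↥T) = ⊤ :=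
      (P₀.mapSurjective hsur).3 (hT.of_equiv (Subgroup.topEquiv (G := ↥T)).symm) le_top |>.symm
    have h1 : (⟨t, ht⟩ : ↥T) ∈ ((P₀.mapSurjective hsur : Sylow 3 ↥T) : Subgroup ↥T) := htop ▸ mem_top _
    rw [Sylow.coe_mapSurjective, Subgroup.mem_map] at h1
    obtain ⟨x, hx, hxt⟩ := h1
    exact ⟨x, ⟨x, hx, rfl⟩, congrArg Subtype.val hxt⟩
  · exact (mem_normalizer_iff''.1 hun a).1 ha
  · rw [map_mul, hw]
    have hc : ∀ b ∈ T, (H.π u)⁻¹ * b * H.π u = b := fun b hb => by
      rw [mul_assoc, hab b hb _ huK, inv_mul_cancel_left]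
    calc (H.π u * s)⁻¹ * a * (H.π u * s) = s⁻¹ * ((H.π u)⁻¹ * a * H.π u) * s := by group
      _ = _ := by rw [hc a ha]
  · obtain ⟨k, hk⟩ := hg3
    let gK : ↥K := ⟨g, hg⟩
    have hgN : gK ∈ normalizer ((P₀ : Subgroup ↥K) : Set ↥K) := mem_normalizer_of_conj fun a ha => by
      obtain ⟨b, hb, hbe⟩ := hgP a ⟨a, ha, rfl⟩
      have : b = gK * a * gK⁻¹ := Subtype.ext hbe
      exact this ▸ hb
    have hgp : IsPGroup 3 ↥(zpowers gK) := by
      obtain ⟨j, -, hj⟩ := (Nat.dvd_prime_pow Nat.prime_three).1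
        (orderOf_dvd_of_pow_eq_one (Subtype.ext hk : gK ^ 3 ^ k = 1))
      exact IsPGroup.of_card (n := j) (by rw [Nat.card_zpowers, hj])
    have := P₀.3 (hgp.to_sup_of_normal_right' P₀.2 (zpowers_le.2 hgN)) le_sup_right
    exact ⟨gK, this ▸ mem_sup_left (mem_zpowers _), rfl⟩

theorem false_of_ne_three (h2 : (2 : F) ≠ 0) (h3 : (3 : F) ≠ 0) : False := by
  classical
  haveI := Fact.mk Nat.prime_three
  let A : Matrix.SpecialLinearGroup (Fin 2) F := ⟨!![0, -1; 1, -1], by simp [Matrix.det_fin_two]⟩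
  obtain ⟨a, b, hab⟩ : ∃ a b : F, a ^ 2 + a * b + b ^ 2 = -1 := by
    have hF : Fintype.card F % 2 = 1 := FiniteField.odd_card_of_char_ne_two (fun e => h2 (by
      haveI : CharP F 2 := e ▸ ringChar.charP F
      exact CharTwo.two_eq_zero))
    obtain ⟨x, y, hxy⟩ := FiniteField.exists_root_sum_quadratic (f := (Polynomial.X : Polynomial F) ^ 2)
      (g := Polynomial.C 3 * Polynomial.X ^ 2 + Polynomial.C 4)
      (Polynomial.degree_X_pow 2) (by compute_degree!) hF
    simp at hxy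
    refine ⟨(x - y) / 2, y, ?_⟩
    field_simp
    linear_combination hxy
  let J : Matrix.SpecialLinearGroup (Fin 2) F := ⟨!![a, b; a + b, -a], by
    rw [Matrix.det_fin_two_of]; linear_combination -hab⟩
  set Ab : PSL := CfsgLib.PSL2.mk A with hAb
  set Jb : PSL := CfsgLib.PSL2.mk J with hJb
  have hA3 : Ab ^ 3 = 1 := by
    rw [hAb, ← map_pow, ← map_one (CfsgLib.PSL2.mk : _ →* PSL)]
    congr 1
    refine Subtype.ext ?_
    rw [pow_succ, pow_two]
    show A.1 * A.1 * A.1 = 1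
    ext i j
    fin_cases i <;> fin_cases j <;> simp [A, Matrix.mul_apply, Fin.sum_univ_two]
  have hA1 : Ab ≠ 1 := by
    rw [hAb, ← map_one (CfsgLib.PSL2.mk : _ →* PSL), Ne, mk_eq_mk]
    rintro (h | h) <;> have := congrFun (congrFun h 1) 0 <;> simp [A] at this
  have hAo : orderOf Ab = 3 := orderOf_eq_prime hA3 hA1
  have hJA : Jb * Ab * Jb⁻¹ = Ab⁻¹ := by
    have e : Jb * Ab = Ab * Ab * Jb := by
      rw [hJb, hAb, ← map_mul, ← map_mul, ← map_mul]
      congr 1
      refine Subtype.ext ?_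
      show J.1 * A.1 = A.1 * A.1 * J.1
      ext i j
      fin_cases i <;> fin_cases j <;> simp [A, J, Matrix.mul_apply, Fin.sum_univ_two] <;> ring
    rw [e, mul_inv_cancel_right]
    exact eq_inv_of_mul_eq_one_left (by rw [← pow_two, ← pow_succ, hA3])
  set T := zpowers Ab with hT
  have hJT : ∀ x ∈ T, Jb * x * Jb⁻¹ ∈ T := by
    rintro _ ⟨i, rfl⟩
    rw [← conj_zpow, hJA]
    exact zpow_mem (inv_mem (mem_zpowers _)) i
  obtain ⟨P, n, hPp, hmP, hPT, hTP, hnP, hπn, -⟩ := H.exists_lift (T := T)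
    (IsPGroup.of_card (n := 1) (by rw [Nat.card_zpowers, hAo, pow_one])) hJT (by
      rintro _ ⟨i, rfl⟩ _ ⟨l, rfl⟩; exact ((Commute.refl _).zpow_zpow i l).eq)
  -- the shift
  let χ : ↥T →* X := monoidHomOfForallMemZpowers (g := (⟨Ab, mem_zpowers Ab⟩ : ↥T))
    (fun x => by obtain ⟨i, hi⟩ := x.2; exact ⟨i, Subtype.ext hi⟩) (g' := H.m)
    (by rw [H.ord, Subgroup.orderOf_mk, hAo])
  have hχA : χ ⟨Ab, mem_zpowers Ab⟩ = H.m := monoidHomOfForallMemZpowers_apply_gen _ _
  let φ : X → X := fun x => if hx : H.π x ∈ T then χ ⟨H.π x, hx⟩ else 1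
  have hφ : ∀ x ∈ P, ∀ hx : H.π x ∈ T, φ x = χ ⟨H.π x, hx⟩ := fun x _ hx => dif_pos hx
  have hmul : ∀ x ∈ P, ∀ y ∈ P, φ (x * y) = φ x * φ y := fun x hx y hy => by
    rw [hφ x hx (hPT x hx), hφ y hy (hPT y hy), hφ _ (mul_mem hx hy) (hPT _ (mul_mem hx hy)), ← map_mul]
    congr 1
    exact Subtype.ext (map_mul _ _ _)
  have hval : ∀ x ∈ P, φ x ∈ zpowers H.m := fun x hx => by
    rw [hφ x hx (hPT x hx)]
    obtain ⟨i, hi⟩ := hPT x hx
    have : (⟨H.π x, hPT x hx⟩ : ↥T) = (⟨Ab, mem_zpowers Ab⟩ : ↥T) ^ i := Subtype.ext hi.symm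
    rw [this, map_zpow, hχA]
    exact zpow_mem (mem_zpowers _) i
  have hφm : φ H.m = 1 := by
    rw [hφ _ hmP (hPT _ hmP)]
    exact (congrArg χ (Subtype.ext H.π_m : (⟨H.π H.m, hPT _ hmP⟩ : ↥T) = 1)).trans (map_one χ)
  obtain ⟨g, ⟨k, hk⟩, hg⟩ := H.shift_three P hmP φ hmul hval hφm n hnP
  obtain ⟨x, hxP, hx⟩ := hTP Ab (mem_zpowers _)
  set c := φ x * (φ (n⁻¹ * x * n))⁻¹ with hc
  have hcm : c = H.m * H.m := by
    have h1 : φ x = H.m := by
      rw [hφ x hxP (hPT x hxP)]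
      exact (congrArg χ (Subtype.ext hx : (⟨H.π x, hPT x hxP⟩ : ↥T) = ⟨Ab, mem_zpowers Ab⟩)).trans hχA
    have h2' : φ (n⁻¹ * x * n) = H.m⁻¹ := by
      rw [hφ _ (hnP x hxP) (hPT _ (hnP x hxP))]
      have e1 : H.π (n⁻¹ * x * n) = Ab⁻¹ := by
        rw [map_mul, map_mul, map_inv, hx, hπn Ab (mem_zpowers _)]
        calc Jb⁻¹ * Ab * Jb = (Jb⁻¹ * (Jb * Ab * Jb⁻¹) * Jb)⁻¹ := by rw [hJA]; group
          _ = Ab⁻¹ := by group
      exact (congrArg χ (Subtype.ext e1 : (⟨H.π (n⁻¹ * x * n), hPT _ (hnP x hxP)⟩ : ↥T) =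
        (⟨Ab, mem_zpowers Ab⟩ : ↥T)⁻¹)).trans (by rw [map_inv, hχA])
    rw [hc, h1, h2', inv_inv]
  have hgx : g * x * g⁻¹ = x * (H.m * H.m) := by rw [hg x hxP, mul_assoc, ← hc, hcm]
  have hm2 : H.m * H.m ≠ 1 := fun e => by
    have := orderOf_dvd_of_pow_eq_one (show H.m ^ 2 = 1 by rw [pow_two, e])
    rw [H.ord] at this
    norm_num at this
  have hm2m : H.m * H.m ∈ zpowers H.m := mul_mem (mem_zpowers _) (mem_zpowers _)
  -- the image commutes
  have hcom : H.π g * Ab = Ab * H.π g := by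
    have := congrArg H.π hgx
    rw [map_mul, map_mul, map_inv, hx, map_mul, map_mul, H.π_m, mul_one, mul_one] at this
    rw [hx] at this
    exact mul_inv_eq_iff_eq_mul.1 this
  -- reduce to a kernel element
  have hkerfalse : ∀ (w : X) (e : ℕ), H.π w = 1 → w * x * w⁻¹ = x * (H.m * H.m) ^ e → e % 3 = 0 := by
    intro w e hw hwx
    obtain ⟨j, N, hN, hord⟩ := Nat.exists_eq_pow_mul_and_not_dvd (orderOf_pos w).ne' 3 (by norm_num)
    have hwN := H.ker3 (w ^ N) j (by rw [← pow_mul, mul_comm, ← hord, pow_orderOf_eq_one]) (by rw [map_pow, hw, one_pow])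
    have hpow : ∀ i : ℕ, w ^ i * x * (w ^ i)⁻¹ = x * ((H.m * H.m) ^ e) ^ i := by
      intro i
      induction i with
      | zero => simp
      | succ i ih =>
        calc w ^ (i + 1) * x * (w ^ (i + 1))⁻¹ = w * (w ^ i * x * (w ^ i)⁻¹) * w⁻¹ := by rw [pow_succ']; group
          _ = w * x * w⁻¹ * (w * ((H.m * H.m) ^ e) ^ i * w⁻¹) := by rw [ih]; group
          _ = _ := by
            rw [hwx, ← H.central' (pow_mem (pow_mem hm2m e) i) w, mul_inv_cancel_right, mul_assoc x, ← pow_succ']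
    have h1 := hpow N
    rw [H.central' hwN x, mul_inv_cancel_right, left_eq_mul, ← pow_mul] at h1
    have h2' := orderOf_dvd_of_pow_eq_one h1
    rw [orderOf_eq_prime (H.pow_three' hm2m) hm2] at h2'
    rcases Nat.prime_three.dvd_mul.1 h2' with h | h
    · omega
    · exact absurd h hN
  by_cases hg1 : H.π g = 1
  · have := hkerfalse g 1 hg1 (by rw [pow_one]; exact hgx)
    omega
  obtain ⟨j, -, hj⟩ := (Nat.dvd_prime_pow Nat.prime_three).1
    (orderOf_dvd_of_pow_eq_one (show H.π g ^ 3 ^ k = 1 by rw [← map_pow, hk, map_one]))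
  have hj0 : j ≠ 0 := fun e => hg1 (by rwa [e, pow_zero, orderOf_eq_one_iff] at hj)
  set g' := g ^ 3 ^ (j - 1) with hg'
  have hg'3 : H.π g' ^ 3 = 1 := by
    rw [hg', map_pow, ← pow_mul, ← pow_succ, show j - 1 + 1 = j by omega, ← hj, pow_orderOf_eq_one]
  have hg'1 : H.π g' ≠ 1 := fun e => by
    rw [hg', map_pow] at e
    have h1 := orderOf_dvd_of_pow_eq_one e
    rw [hj] at h1
    have := Nat.pow_dvd_pow_iff_le_right (show 1 < 3 by norm_num) |>.1 h1
    omega
  obtain ⟨D, hD⟩ := QuotientGroup.mk'_surjective _ (H.π g')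
  have hd : H.π g' * Ab = Ab * H.π g' := by rw [hg', map_pow]; exact ((show Commute (H.π g) Ab from hcom).pow_left _).eq
  obtain ⟨e, he, he3⟩ : ∃ e : ℕ, H.π g' = Ab ^ e ∧ e % 3 ≠ 0 := by
    rw [← hD] at hd hg'3 hg'1 ⊢
    rcases cent_three h2 h3 (A := A) rfl hd hg'3 hg'1 with h | h
    · exact ⟨1, by rw [pow_one]; exact h, by norm_num⟩
    · exact ⟨2, by rw [pow_two]; exact h, by norm_num⟩
  set w := g' * (x ^ e)⁻¹ with hw
  have hw1 : H.π w = 1 := by rw [hw, map_mul, map_inv, he, map_pow, hx, mul_inv_cancel]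
  have hge : g * x ^ e * g⁻¹ = x ^ e * (H.m * H.m) ^ e := by
    rw [← conj_pow, hgx, (show Commute x (H.m * H.m) from (H.central' hm2m x).symm).mul_pow]
  have hgg' : g * g' * g⁻¹ = g' := by
    rw [hg', ← pow_succ', pow_succ, mul_inv_cancel_right]
  have hgw : g * w * g⁻¹ = w * ((H.m * H.m) ^ e)⁻¹ := by
    calc g * w * g⁻¹ = g * g' * g⁻¹ * (g * x ^ e * g⁻¹)⁻¹ := by rw [hw]; group
      _ = g' * (((H.m * H.m) ^ e)⁻¹ * (x ^ e)⁻¹) := by rw [hgg', hge, mul_inv_rev]
      _ = _ := by rw [H.central' (inv_mem (pow_mem hm2m e)) _, hw, ← mul_assoc]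
  obtain ⟨i, N, hN, hord⟩ := Nat.exists_eq_pow_mul_and_not_dvd (orderOf_pos w).ne' 3 (by norm_num)
  have hwN := H.ker3 (w ^ N) i (by rw [← pow_mul, mul_comm, ← hord, pow_orderOf_eq_one]) (by rw [map_pow, hw1, one_pow])
  have h1 : g * w ^ N * g⁻¹ = w ^ N * (((H.m * H.m) ^ e)⁻¹) ^ N := by
    rw [← conj_pow, hgw, (show Commute w ((H.m * H.m) ^ e)⁻¹ from (H.central' (inv_mem (pow_mem hm2m e)) w).symm).mul_pow]
  rw [← H.central' hwN g, mul_inv_cancel_right, left_eq_mul, inv_pow, inv_eq_one, ← pow_mul] at h1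
  have h2' := orderOf_dvd_of_pow_eq_one h1
  rw [orderOf_eq_prime (H.pow_three' hm2m) hm2] at h2'
  rcases Nat.prime_three.dvd_mul.1 h2' with h | h
  · omega
  · exact hN h

theorem false_of_three (h3 : (3 : F) = 0) (hq3 : Fintype.card F ≠ 3) (h8 : ¬ 8 ∣ Nat.card PSL) : False := by
  classical
  haveI := Fact.mk Nat.prime_three
  have h2 : (2 : F) ≠ 0 := fun e => one_ne_zero (α := F) (by linear_combination h3 - e)
  haveI hchar : CharP F 3 := CharP.of_ringHom_of_ne_zero (Int.castRingHom F) 3 |> fun _ => by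
    obtain ⟨p, hp⟩ := CharP.exists F
    haveI : Fact p.Prime := ⟨CharP.char_is_prime F p⟩
    have h := (CharP.cast_eq_zero_iff F p 3).1 (by exact_mod_cast h3)
    obtain rfl := (Nat.prime_dvd_prime_iff_eq (Fact.out : p.Prime) Nat.prime_three).1 h
    exact hp
  letI : Algebra (ZMod 3) F := ZMod.algebra F 3
  obtain ⟨f, -, hf⟩ := FiniteField.card F 3
  -- a unit of order more than eight
  obtain ⟨u, hu⟩ := IsCyclic.exists_generator (α := Fˣ)
  have huo : orderOf u = Fintype.card F - 1 := by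
    rw [orderOf_eq_card_of_forall_mem_zpowers hu, Nat.card_eq_fintype_card, Fintype.card_units]
  have hq9 : 9 < Fintype.card F := by
    rcases Nat.lt_or_ge (f : ℕ) 3 with hf3 | hf3
    · exfalso
      have hf' : (f : ℕ) = 1 ∨ (f : ℕ) = 2 := by have := f.pos; omega
      rcases hf' with e | e <;> rw [e] at hf <;> norm_num at hf
      · exact hq3 hf
      · refine h8 ?_
        have h := CfsgLib.SLCard.gcd_mul_card_PSL (F := F) (n := 2) (by norm_num)
        rw [CfsgLib.SLCard.card_SL_two, hf] at h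
        norm_num at h
        exact ⟨45, by rw [Nat.card_eq_fintype_card]; omega⟩
    · have := Nat.pow_le_pow_right (show 0 < 3 by norm_num) hf3
      omega
  have hu8 : (u : F) ^ 8 ≠ 1 := by
    intro e
    have := Nat.le_of_dvd (by norm_num) (orderOf_dvd_of_pow_eq_one (Units.ext (by simpa using e) : u ^ 8 = 1))
    omega
  have hu0 : (u : F) ≠ 0 := u.ne_zero
  set a : F := (u : F) - (u : F)⁻¹ with ha
  set cc : F := (u : F) + (u : F)⁻¹ with hcc
  set r := a * a with hr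
  have hcr : cc * cc = r + 1 := by
    rw [hr, ha, hcc]; field_simp; linear_combination ((u : F) ^ 2) * h3
  have ha0 : a ≠ 0 := fun e => hu8 (by
    have e1 : (u : F) * u = 1 := by
      have h := congrArg (· * (u : F)) e
      simp only [ha, zero_mul, sub_mul, inv_mul_cancel₀ hu0] at h
      linear_combination h
    calc (u : F) ^ 8 = ((u : F) * u) ^ 4 := by ring
      _ = 1 := by rw [e1, one_pow])
  have hc0 : cc ≠ 0 := fun e => hu8 (by
    have e1 : (u : F) * u = -1 := by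
      have h := congrArg (· * (u : F)) e
      simp only [hcc, zero_mul, add_mul, inv_mul_cancel₀ hu0] at h
      linear_combination h
    calc (u : F) ^ 8 = ((u : F) * u) ^ 4 := by ring
      _ = 1 := by rw [e1]; norm_num)
  have hr1 : r ≠ 1 := fun e => hu8 (by
    have e1 : (u : F) ^ 4 = -1 := by
      rw [hr, ha] at e
      field_simp at e
      linear_combination e + ((u : F) ^ 2) * h3
    calc (u : F) ^ 8 = ((u : F) ^ 4) ^ 2 := by ring
      _ = 1 := by rw [e1]; norm_num)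
  have hr0 : r ≠ 0 := mul_ne_zero ha0 ha0
  -- the root group
  set U : Subgroup PSL := (uHom : Multiplicative F →* PSL).range with hU
  have hUab : ∀ x ∈ U, ∀ y ∈ U, x * y = y * x := by
    rintro _ ⟨s, rfl⟩ _ ⟨t, rfl⟩; rw [← map_mul, mul_comm, map_mul]
  have hU3 : IsPGroup 3 ↥U := by
    rintro ⟨_, s, rfl⟩
    refine ⟨1, Subtype.ext ?_⟩
    show (uHom s) ^ 3 ^ 1 = 1
    rw [pow_one, ← map_pow]
    have : s ^ 3 = 1 := Multiplicative.toAdd.injective (by
      rw [toAdd_pow, toAdd_one, nsmul_eq_mul, CharP.cast_eq_zero, zero_mul])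
    rw [this, map_one]
  have huadd : ∀ s t : F, uu (s + t) = uu s * uu t := fun s t => by rw [← map_mul, ← ofAdd_add]
  have hdU : ∀ (b : F) (hb : b ≠ 0), ∀ x ∈ U,
      CfsgLib.PSL2.mk (dSL b hb) * x * (CfsgLib.PSL2.mk (dSL b hb))⁻¹ ∈ U := by
    rintro b hb _ ⟨s, rfl⟩
    exact ⟨Multiplicative.ofAdd (b ^ 2 * Multiplicative.toAdd s), (mk_diag_conj_u b hb _).symm⟩
  obtain ⟨P, n, hP3, hmP, hPU, hUP, hnP, hπn, hmax⟩ := H.exists_lift (T := U) hU3
    (hdU a ha0) hUab
  choose xl hxlP hxl using fun t : F => hUP (uu t) ⟨Multiplicative.ofAdd t, rfl⟩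
  have hdiff : ∀ v ∈ P, ∀ t : F, H.π v = uu t → ∃ c ∈ zpowers H.m, v = xl t * c := by
    intro v hv t ht
    have hmem : (xl t)⁻¹ * v ∈ P := mul_mem (inv_mem (hxlP t)) hv
    obtain ⟨k, hk⟩ := hP3 ⟨_, hmem⟩
    refine ⟨_, H.ker3 ((xl t)⁻¹ * v) k (congrArg Subtype.val hk) ?_, by group⟩
    rw [map_mul, map_inv, hxl, ht, inv_mul_cancel]
  have hcomm_ker : ∀ v ∈ P, ∀ v' ∈ P, ⁅v, v'⁆ ∈ zpowers H.m := by
    intro v hv v' hv'
    have hmem : ⁅v, v'⁆ ∈ P := by
      rw [commutatorElement_def]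
      exact mul_mem (mul_mem (mul_mem hv hv') (inv_mem hv)) (inv_mem hv')
    obtain ⟨k, hk⟩ := hP3 ⟨_, hmem⟩
    refine H.ker3 _ k (congrArg Subtype.val hk) ?_
    rw [map_commutatorElement, commutatorElement_eq_one_iff_mul_comm]
    exact hUab _ (hPU v hv) _ (hPU v' hv')
  let B : F → F → X := fun t s => ⁅xl t, xl s⁆
  have hBmem : ∀ t s, B t s ∈ zpowers H.m := fun t s => hcomm_ker _ (hxlP t) _ (hxlP s)
  have hB : ∀ v ∈ P, ∀ v' ∈ P, ∀ t s : F, H.π v = uu t → H.π v' = uu s → ⁅v, v'⁆ = B t s := by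
    intro v hv v' hv' t s ht hs
    obtain ⟨c, hc, rfl⟩ := hdiff v hv t ht
    obtain ⟨c', hc', rfl⟩ := hdiff v' hv' s hs
    show _ = ⁅xl t, xl s⁆
    rw [commutatorElement_def, commutatorElement_def]
    calc xl t * c * (xl s * c') * (xl t * c)⁻¹ * (xl s * c')⁻¹
        = xl t * (c * xl s) * (c' * c⁻¹) * (xl t)⁻¹ * c'⁻¹ * (xl s)⁻¹ := by group
      _ = xl t * (xl s * c) * (c' * c⁻¹) * (xl t)⁻¹ * c'⁻¹ * (xl s)⁻¹ := by rw [H.central' hc]
      _ = xl t * xl s * (c' * (xl t)⁻¹) * c'⁻¹ * (xl s)⁻¹ := by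
        rw [H.central' hc' c⁻¹]; group
      _ = _ := by rw [H.central' hc']; group
  have hadd : ∀ t t' s : F, B (t + t') s = B t s * B t' s := by
    intro t t' s
    rw [← hB _ (mul_mem (hxlP t) (hxlP t')) _ (hxlP s) (t + t') s (by rw [map_mul, hxl, hxl, huadd]) (hxl s)]
    calc ⁅xl t * xl t', xl s⁆ = xl t * B t' s * (xl t)⁻¹ * B t s := by
          simp only [B, commutatorElement_def]; group
      _ = B t' s * B t s := by rw [← H.central' (hBmem t' s), mul_inv_cancel_right]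
      _ = _ := H.central' (hBmem t' s) _
  have hskew : ∀ t s : F, B t s = (B s t)⁻¹ := fun t s => by simp only [B, commutatorElement_inv]
  have hadd' : ∀ t s s' : F, B t (s + s') = B t s * B t s' := fun t s s' => by
    rw [hskew, hadd, mul_inv_rev, ← hskew, ← hskew, H.central' (hBmem t s')]
  have hsq : ∀ b : F, b ≠ 0 → ∀ t s : F, B (b * b * t) (b * b * s) = B t s := by
    intro b hb t s
    obtain ⟨w, hw⟩ := H.surj (CfsgLib.PSL2.mk (dSL b hb))
    set K := U.comap H.π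
    have hwK : w ∈ normalizer (K : Set X) := mem_normalizer_of_conj fun x hx => by
      show H.π (w * x * w⁻¹) ∈ U
      rw [map_mul, map_mul, map_inv, hw]; exact hdU b hb _ hx
    have hPK : P ≤ K := fun x hx => hPU x hx
    obtain ⟨P₁, hP₁⟩ := (hP3.comap_subtype (K := K)).exists_le_sylow
    have hP₁P : (P₁ : Subgroup ↥K).map K.subtype = P := by
      refine le_antisymm ?_ fun x hx => ⟨⟨x, hPK hx⟩, hP₁ hx, rfl⟩
      haveI := (P₁.2.map K.subtype).isNilpotent
      rw [← subgroupOf_eq_top]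
      refine normalizerCondition_iff_only_full_group_self_normalizing.1 Group.normalizerCondition_of_isNilpotent _
        (le_antisymm (fun y hy => ?_) le_normalizer)
      have hy2 := (P₁.2.map K.subtype) y
      obtain ⟨k, hk⟩ := hy2
      refine hmax (y : X) ?_ ⟨k, congrArg Subtype.val hk⟩ fun x hx => ?_
      · obtain ⟨y', -, hy'⟩ := y.2
        rw [← hy']; exact y'.2
      · have hxm : x ∈ (P₁ : Subgroup ↥K).map K.subtype := ⟨⟨x, hPK hx⟩, hP₁ hx, rfl⟩
        exact (mem_normalizer_iff.1 hy ⟨x, hxm⟩).1 hx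
    obtain ⟨v, hvK, hvn⟩ := frattini P₁ hwK
    rw [hP₁P] at hvn
    have hconj : ∀ r : F, H.π (v * w * xl r * (v * w)⁻¹) = uu (b * b * r) := fun r => by
      rw [map_mul, map_mul, map_inv, map_mul, hw, hxl,
        show H.π v * CfsgLib.PSL2.mk (dSL b hb) * uu r * (H.π v * CfsgLib.PSL2.mk (dSL b hb))⁻¹ =
          H.π v * (CfsgLib.PSL2.mk (dSL b hb) * uu r * (CfsgLib.PSL2.mk (dSL b hb))⁻¹) * (H.π v)⁻¹ by group,
        mk_diag_conj_u, ← hUab _ ⟨_, rfl⟩ _ hvK, mul_inv_cancel_right, pow_two]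
    rw [← hB _ ((mem_normalizer_iff.1 hvn _).1 (hxlP t)) _ ((mem_normalizer_iff.1 hvn _).1 (hxlP s)) _ _ (hconj t) (hconj s)]
    calc ⁅v * w * xl t * (v * w)⁻¹, v * w * xl s * (v * w)⁻¹⁆ = v * w * B t s * (v * w)⁻¹ := by
          simp only [B, commutatorElement_def]; group
      _ = _ := by rw [← H.central' (hBmem t s), mul_inv_cancel_right]
  have hB1 : ∀ t s : F, B t s = 1 := by
    have key : ∀ t s : F, B t ((1 + r + r⁻¹) * s) = 1 := by
      intro t s
      have h1 : B (r * t + t) (r * s + s) = B t s := by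
        rw [show r * t + t = cc * cc * t by rw [hcr]; ring, show r * s + s = cc * cc * s by rw [hcr]; ring, hsq cc hc0]
      have e1 : B (r * t) (r * s) = B t s := hsq a ha0 t s
      have e2 : B (r * t) s = B t (r⁻¹ * s) := by
        conv_lhs => rw [show s = r * (r⁻¹ * s) by rw [← mul_assoc, mul_inv_cancel₀ hr0, one_mul]]
        exact hsq a ha0 t _
      rw [hadd, hadd', hadd', e1, e2, mul_assoc, mul_eq_left, ← hadd' t, ← hadd'] at h1
      rw [← h1]
      congr 1
      ring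
    intro t s
    have hne : 1 + r + r⁻¹ ≠ 0 := fun e => by
      have h1 : (r - 1) * (r - 1) = 0 := by
        have h2' := congrArg (· * r) e
        simp only [zero_mul, add_mul, inv_mul_cancel₀ hr0] at h2'
        linear_combination h2' - r * h3
      exact hr1 (sub_eq_zero.1 (mul_self_eq_zero.1 h1))
    have := key t ((1 + r + r⁻¹)⁻¹ * s)
    rwa [← mul_assoc, mul_inv_cancel₀ hne, one_mul] at this
  -- the shift
  have hd : 1 - r⁻¹ ≠ 0 := fun e => hr1 (by rw [← inv_inv r, ← sub_eq_zero.1 e, inv_one])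
  obtain ⟨lam, hlam⟩ : ∃ lam : Module.Dual (ZMod 3) F, lam (1 - r⁻¹) ≠ 0 := by
    by_contra hno
    push Not at hno
    exact hd ((Module.forall_dual_apply_eq_zero_iff (ZMod 3) _).1 hno)
  let par : PSL → F := Function.invFun (uu : F → PSL)
  have hpar : ∀ t : F, par (uu t) = t := fun t => Function.leftInverse_invFun uu_injective t
  let φ : X → X := fun x => H.m ^ (lam (par (H.π x))).val
  have hφt : ∀ x t, H.π x = uu t → φ x = H.m ^ (lam t).val := fun x t h => by
    show H.m ^ (lam (par (H.π x))).val = _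
    rw [h, hpar]
  have hmval : ∀ i j : ZMod 3, H.m ^ (i + j).val = H.m ^ i.val * H.m ^ j.val := fun i j => by
    rw [← pow_add, pow_eq_pow_iff_modEq, H.ord, ← ZMod.natCast_eq_natCast_iff]
    push_cast
    simp
  have hmul : ∀ x ∈ P, ∀ y ∈ P, φ (x * y) = φ x * φ y := fun x hx y hy => by
    obtain ⟨s, hs⟩ := hPU x hx
    obtain ⟨t, ht⟩ := hPU y hy
    rw [hφt x (Multiplicative.toAdd s) hs.symm, hφt y (Multiplicative.toAdd t) ht.symm,
      hφt (x * y) (Multiplicative.toAdd s + Multiplicative.toAdd t) (by rw [map_mul, ← hs, ← ht, huadd]; rfl),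
      map_add, hmval]
  have hval : ∀ x ∈ P, φ x ∈ zpowers H.m := fun x _ => pow_mem (mem_zpowers _) _
  have hφm : φ H.m = 1 := by
    rw [hφt H.m 0 (by rw [H.π_m]; exact (map_one uHom).symm), map_zero, ZMod.val_zero, pow_zero]
  obtain ⟨g, hg3, hg⟩ := H.shift_three P hmP φ hmul hval hφm n hnP
  set x := xl 1
  have hgu : H.π g * uu 1 = uu 1 * H.π g := by
    have h1 := congrArg H.π (hg x (hxlP 1))
    have hk1 : ∀ c ∈ zpowers H.m, H.π c = 1 := by
      rintro _ ⟨i, rfl⟩; rw [map_zpow, H.π_m, one_zpow]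
    rw [map_mul, map_mul, map_inv, map_mul, map_mul, map_inv, hk1 _ (hval x (hxlP 1)),
      hk1 _ (hval _ (hnP x (hxlP 1))), hxl, inv_one, mul_one, mul_one] at h1
    exact mul_inv_eq_iff_eq_mul.1 h1
  obtain ⟨t, ht⟩ := cent_uu h2 hgu
  have hgP : g ∈ P := hmax g (by rw [ht]; exact ⟨_, rfl⟩) hg3 fun y hy => by
    rw [hg y hy]
    exact mul_mem (mul_mem hy (zpowers_le.2 hmP (hval y hy))) (inv_mem (zpowers_le.2 hmP (hval _ (hnP y hy))))
  have h1 := hg x (hxlP 1)
  have hgx : g * x * g⁻¹ = x := by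
    have h2' : ⁅g, x⁆ = 1 := (hB g hgP x (hxlP 1) t 1 ht (hxl 1)).trans (hB1 t 1)
    rw [commutatorElement_def] at h2'
    exact mul_inv_eq_one.1 h2'
  rw [hgx, mul_assoc, left_eq_mul, mul_inv_eq_one] at h1
  have e1 : H.π (n⁻¹ * x * n) = uu r⁻¹ := by
    rw [map_mul, map_mul, map_inv, hxl, hπn _ ⟨_, rfl⟩]
    have h2' := mk_diag_conj_u a ha0 r⁻¹
    rw [pow_two, ← hr, mul_inv_cancel₀ hr0] at h2'
    rw [show uHom (Multiplicative.ofAdd (1 : F)) = uu 1 from rfl, ← h2']; group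
  rw [hφt x 1 (hxl 1), hφt _ _ e1, pow_eq_pow_iff_modEq, H.ord, ← ZMod.natCast_eq_natCast_iff] at h1
  simp at h1
  exact hlam (by rw [map_sub, h1, sub_self])

theorem false' (hodd : Odd (Fintype.card F)) (hq3 : Fintype.card F ≠ 3) (h8 : ¬ 8 ∣ Nat.card PSL) : False := by
  have h2 : (2 : F) ≠ 0 := CfsgLib.SL2Orders.two_ne_zero_of_odd hodd
  by_cases h3 : (3 : F) = 0
  · exact H.false_of_three h3 hq3 h8
  · exact H.false_of_ne_three h2 h3

end Hyp

end CfsgLib.Homogeneous.SD.Shift
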