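import Cfsg.Agent.Lib.Homogeneous.SD.Nine
import Cfsg.Agent.S0261
import Cfsg.Agent.Lib.SLCard

/-!
The field has three or five elements and the Sylow 2-subgroup order sixteen.
-/

set_option autoImplicit false
set_option linter.unusedSectionVars false
set_option linter.style.haveILetI false

namespace CfsgLib.Homogeneous.SD

open Cfsg Subgroup
open scoped commutatorElement MatrixGroups

universe u

variable {G : Type u} [Group G] [Finite G]

namespace Ctx

variable (c : Ctx G) {F : Type} [Field F] [Fintype F] (e : ↥c.L ≃* Matrix.SpecialLinearGroup (Fin 2) F)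

/-- The quaternion subgroup of the Sylow subgroup. -/
def Qs : Subgroup (c.S : Subgroup G) := c.PL.comap (Subgroup.inclusion c.S_le)

/-- The Sylow subgroup in the centraliser. -/
abbrev incl : (c.S : Subgroup G) →* ↥c.Cz := Subgroup.inclusion c.S_le

instance : c.Qs.Normal := (inferInstance : c.PL.Normal).comap _

include e

theorem card_three_or_five (hF : Odd (Fintype.card F)) : Fintype.card F = 3 ∨ Fintype.card F = 5 := by
  have h := c.field_cases e hF
  have h9 := c.card_ne_nine e hF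
  omega

theorem zC_mem_PL (hF : Odd (Fintype.card F)) : c.zC ∈ c.PL := (c.exists_π_z e hF).1

theorem Qs_data (hF : Odd (Fintype.card F)) :
    Nat.card c.Qs = 8 ∧ (∀ g ∈ c.Qs, g * g = 1 → g = 1 ∨ g = c.d.z) ∧ ¬ c.Qs ≤ c.d.X := by
  haveI := Fact.mk Nat.prime_two
  have h2 : (2 : F) ≠ 0 := CfsgLib.SL2Orders.two_ne_zero_of_odd hF
  have hcard : Nat.card (Matrix.SpecialLinearGroup (Fin 2) F) = 24 ∨
      Nat.card (Matrix.SpecialLinearGroup (Fin 2) F) = 120 := by
    rw [CfsgLib.SLCard.card_SL_two]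
    rcases c.card_three_or_five e hF with h | h <;> rw [h] <;> norm_num
  let ρ : ↥c.Qs →* Matrix.SpecialLinearGroup (Fin 2) F :=
    e.toMonoidHom.comp (MonoidHom.mk' (fun g => (⟨c.π (c.incl g), g.2⟩ : ↥c.L))
      fun a b => Subtype.ext (by simp))
  have hρ : Function.Injective ρ := by
    intro a b h
    have h1 := congrArg Subtype.val (e.injective h)
    have h2 := c.eq_of_π_eq (x := c.incl a) (y := c.incl b) (a : (c.S : Subgroup G)).2 (b : (c.S : Subgroup G)).2 h1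
    exact Subtype.ext (Subgroup.inclusion_injective c.S_le h2)
  let P : Sylow 2 (Matrix.SpecialLinearGroup (Fin 2) F) := default
  obtain ⟨k, hk, ⟨q⟩⟩ := Cfsg.Agent.S0261.result hF P
  have hP8 : Nat.card (P : Subgroup (Matrix.SpecialLinearGroup (Fin 2) F)) = 8 := by
    rw [P.card_eq_multiplicity]
    rcases hcard with h | h <;> rw [h]
    · rw [show (24 : ℕ) = 2 ^ 3 * 3 by norm_num, Nat.factorization_mul (by norm_num) (by norm_num)]
      rw [Finsupp.add_apply, Nat.prime_two.factorization_pow, Finsupp.single_eq_same,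
        Nat.factorization_eq_zero_of_not_dvd (show ¬ 2 ∣ 3 by norm_num)]
      norm_num
    · rw [show (120 : ℕ) = 2 ^ 3 * 15 by norm_num, Nat.factorization_mul (by norm_num) (by norm_num)]
      rw [Finsupp.add_apply, Nat.prime_two.factorization_pow, Finsupp.single_eq_same,
        Nat.factorization_eq_zero_of_not_dvd (show ¬ 2 ∣ 15 by norm_num)]
      norm_num
  have hk1 : k = 1 := by
    haveI : NeZero (2 ^ k) := ⟨by positivity⟩
    have h := Nat.card_congr q.toEquiv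
    rw [hP8, Nat.card_eq_fintype_card, QuaternionGroup.card] at h
    have h' : 2 ^ k = 2 ^ 1 := by omega
    exact Nat.pow_right_injective le_rfl h'
  subst hk1
  -- a preimage of the Sylow subgroup
  let T₀ : Subgroup ↥c.L := (P : Subgroup (Matrix.SpecialLinearGroup (Fin 2) F)).map e.symm.toMonoidHom
  let T₁ : Subgroup (↥c.Cz ⧸ oddCore ↥c.Cz) := T₀.map c.L.subtype
  have hsur : Function.Surjective (c.π.subgroupComap T₁) := fun u => by
    obtain ⟨x, hx⟩ := c.π_surjective u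
    exact ⟨⟨x, show c.π x ∈ T₁ by rw [hx]; exact u.2⟩, Subtype.ext hx⟩
  let P₁ : Sylow 2 ↥(T₁.comap c.π) := default
  have htop : ((P₁.mapSurjective hsur : Sylow 2 ↥T₁) : Subgroup ↥T₁) = ⊤ :=
    ((P₁.mapSurjective hsur).3 (((P.2.map _).map _).of_equiv (Subgroup.topEquiv (G := ↥T₁)).symm) le_top).symm
  obtain ⟨g, hg⟩ := c.conj_into_S (P₁.2.map (Subgroup.subtype _))
  have hsurj : ∀ A ∈ (P : Subgroup (Matrix.SpecialLinearGroup (Fin 2) F)), ∃ s : ↥c.Qs,
      c.π (c.incl s) = c.π g * (e.symm A : ↥c.L) * (c.π g)⁻¹ := by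
    intro A hA
    have hm : ((e.symm A : ↥c.L) : ↥c.Cz ⧸ oddCore ↥c.Cz) ∈ T₁ := ⟨_, ⟨A, hA, rfl⟩, rfl⟩
    have h1 : (⟨_, hm⟩ : ↥T₁) ∈ ((P₁.mapSurjective hsur : Sylow 2 ↥T₁) : Subgroup ↥T₁) := htop ▸ mem_top _
    rw [Sylow.coe_mapSurjective, Subgroup.mem_map] at h1
    obtain ⟨x, hx, hxA⟩ := h1
    have hxA' : c.π (x : ↥c.Cz) = (e.symm A : ↥c.L) := congrArg Subtype.val hxA
    have hS := hg _ ⟨x, hx, rfl⟩
    refine ⟨⟨⟨_, hS⟩, ?_⟩, ?_⟩
    · show c.π (g * (x : ↥c.Cz) * g⁻¹) ∈ c.L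
      rw [map_mul, map_mul, map_inv, hxA']
      exact (inferInstance : c.L.Normal).conj_mem _ (e.symm A).2 _
    · show c.π (g * (x : ↥c.Cz) * g⁻¹) = _
      rw [map_mul, map_mul, map_inv, hxA']
  choose f hf using hsurj
  have hfinj : Function.Injective fun A : (P : Subgroup (Matrix.SpecialLinearGroup (Fin 2) F)) => f A A.2 := by
    intro A B h
    have h1 := congrArg (fun s : ↥c.Qs => c.π (c.incl s)) h
    simp only [hf] at h1
    exact Subtype.ext (e.symm.injective (Subtype.ext (mul_left_cancel (mul_right_cancel h1))))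
  have hge : 8 ≤ Nat.card c.Qs := hP8 ▸ Nat.card_le_card_of_injective _ hfinj
  have hle : Nat.card c.Qs ∣ 8 := by
    obtain ⟨n, hn⟩ := IsPGroup.iff_card.1 (c.S.2.to_subgroup c.Qs)
    have hd : Nat.card c.Qs ∣ 120 := by
      refine dvd_trans (card_dvd_of_injective ρ hρ) ?_
      rcases hcard with h | h <;> rw [h] <;> norm_num
    have h8 : (Nat.card c.Qs).Coprime 15 := hn ▸ Nat.Coprime.pow_left n (by norm_num)
    exact h8.dvd_of_dvd_mul_right (show Nat.card c.Qs ∣ 8 * 15 from hd)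
  have hQ8 : Nat.card c.Qs = 8 := le_antisymm (Nat.le_of_dvd (by norm_num) hle) hge
  obtain ⟨hzL, hze⟩ := c.exists_π_z e hF
  refine ⟨hQ8, fun g' hg' hgg => ?_, fun hX => ?_⟩
  · have hr : ρ ⟨g', hg'⟩ * ρ ⟨g', hg'⟩ = 1 := by
      rw [← map_mul, show (⟨g', hg'⟩ : ↥c.Qs) * ⟨g', hg'⟩ = 1 from Subtype.ext hgg, map_one]
    rcases CfsgLib.SL2Orders.eq_one_or_neg_one_of_sq h2 _ hr with h | h
    · exact Or.inl (congrArg Subtype.val ((map_eq_one_iff ρ hρ).1 h))
    · right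
      have hmem : c.d.z ∈ c.Qs := hzL
      have h3 : ρ ⟨c.d.z, hmem⟩ = -1 := hze
      exact congrArg Subtype.val (hρ (h.trans h3.symm))
  · obtain ⟨a, ha, b, hb, hab⟩ := CfsgLib.Quat.exists_not_comm_of_q8 (Q := (P : Subgroup (Matrix.SpecialLinearGroup (Fin 2) F)))
      (show (P : Subgroup (Matrix.SpecialLinearGroup (Fin 2) F)) ≃* QuaternionGroup 2 from q)
    have hc : f a ha * f b hb = f b hb * f a ha := Subtype.ext (by
      obtain ⟨i, hi⟩ := hX (f a ha).2
      obtain ⟨j, hj⟩ := hX (f b hb).2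
      show ((f a ha : ↥c.Qs) : (c.S : Subgroup G)) * (f b hb : ↥c.Qs) = (f b hb : ↥c.Qs) * (f a ha : ↥c.Qs)
      rw [← hi, ← hj]
      exact ((Commute.refl c.d.x).zpow_zpow i j).eq)
    have h1 := congrArg (fun s : ↥c.Qs => c.π (c.incl s)) hc
    simp only [Subgroup.coe_mul, map_mul, hf] at h1
    have h2' : ((e.symm (a * b) : ↥c.L) : ↥c.Cz ⧸ oddCore ↥c.Cz) = (e.symm (b * a) : ↥c.L) := by
      rw [map_mul, map_mul, Subgroup.coe_mul, Subgroup.coe_mul]
      refine mul_left_cancel (a := c.π g) (mul_right_cancel (b := (c.π g)⁻¹) ?_)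
      calc _ = c.π g * (e.symm a : ↥c.L) * (c.π g)⁻¹ * (c.π g * (e.symm b : ↥c.L) * (c.π g)⁻¹) := by group
        _ = _ := by rw [h1]; group
    exact hab (e.symm.injective (Subtype.ext h2'))

theorem sixteen (hF : Odd (Fintype.card F)) :
    c.d.M = 1 ∧ c.d.x ^ (2 : ℤ) ∈ c.Qs ∧ ∃ i : ℤ, Odd i ∧ c.d.x ^ i * c.d.y ∈ c.Qs := by
  obtain ⟨h8, hinv, hX⟩ := c.Qs_data e hF
  exact M_eq_one c.d h8 hinv hX

theorem y_not_mem (hF : Odd (Fintype.card F)) : c.d.y ∉ c.Qs := by
  intro h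
  obtain ⟨-, hinv, -⟩ := c.Qs_data e hF
  rcases hinv _ h (CfsgLib.QD.hyy c.d) with h1 | h1
  · exact CfsgLib.QD.y_not_mem c.d (h1 ▸ one_mem _)
  · exact CfsgLib.QD.y_not_mem c.d (h1 ▸ CfsgLib.QD.z_mem_X c.d)

/-- Only the centre of the Sylow subgroup centralises the quaternion subgroup. -/
theorem cent_Qs (hF : Odd (Fintype.card F)) {s : (c.S : Subgroup G)} (hs : ∀ q ∈ c.Qs, s * q = q * s) :
    s = 1 ∨ s = c.d.z := by
  obtain ⟨hM, hx2, i, hi, hxy⟩ := c.sixteen e hF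
  have hn : ¬ Commute (c.d.x ^ (2 : ℤ)) (c.d.x ^ i * c.d.y) := fun h => by
    have := (CfsgLib.QD.commute_xy_iff c.d).1 h
    rw [hM] at this
    norm_num at this
  have hzc := mem_center_iff.1 (CfsgLib.QD.z_central c.d) (c.d.x ^ (2 : ℤ))
  rcases CfsgLib.QD.mem_centralizer_cases c.d i (mem_centralizer_singleton_iff.2 (hs _ hxy)) with h | h | h | h
  · exact Or.inl h
  · exact Or.inr h
  · exact absurd (show Commute (c.d.x ^ (2 : ℤ)) (c.d.x ^ i * c.d.y) from (h ▸ hs _ hx2).symm) hn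
  · refine absurd ?_ hn
    have h1 : Commute (c.d.x ^ (2 : ℤ)) s := (hs _ hx2).symm
    rw [h] at h1
    have h2 := (show Commute (c.d.x ^ (2 : ℤ)) c.d.z from hzc).inv_right.mul_right h1
    rwa [inv_mul_cancel_left] at h2

end Ctx

end CfsgLib.Homogeneous.SD
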