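import Cfsg.Agent.Lib.Homogeneous.SD.Iso
import Cfsg.Agent.Lib.Homogeneous.SD.Klein
import Cfsg.Agent.Lib.SuborbitGroups.MEleven
import Cfsg.Agent.S2916

/-!
The field with three elements: the centraliser of the involution is `GL₂(3)`, and neither `PSL₃(3)` nor the Mathieu
group of degree eleven is homogeneous.
-/

set_option autoImplicit false
set_option linter.unusedSectionVars false
set_option linter.style.haveILetI false

namespace CfsgLib.Homogeneous.SD

open Cfsg Subgroup
open scoped commutatorElement MatrixGroups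

universe u

section SLThree

variable {F : Type} [Field F] [Fintype F]

/-- Scalars of determinant one are trivial over the field with three elements. -/
theorem sl_three_center (h3 : Fintype.card F = 3) {g : Matrix.SpecialLinearGroup (Fin 3) F}
    (hg : g ∈ center (Matrix.SpecialLinearGroup (Fin 3) F)) : g = 1 := by
  obtain ⟨r, hr, hg'⟩ := Matrix.SpecialLinearGroup.mem_center_iff.1 hg
  rw [Fintype.card_fin] at hr
  have h := FiniteField.pow_card r
  rw [h3, hr] at h
  refine Subtype.ext ?_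
  rw [← hg', ← h, map_one]
  rfl

/-- The regular unipotent element commutes with no involution. -/
theorem unipotent_no_invol (h3 : Fintype.card F = 3) {g : Matrix.SpecialLinearGroup (Fin 3) F}
    (hgg : g * g = 1) (hc : g.1 * !![1, 1, 0; 0, 1, 1; 0, 0, 1] = !![1, 1, 0; 0, 1, 1; 0, 0, 1] * g.1) : g = 1 := by
  haveI : CharP F 3 := by
    haveI : Fact (Nat.Prime 3) := ⟨Nat.prime_three⟩
    exact charP_of_card_eq_prime h3
  have h00 := congrFun (congrFun hc 0) 0
  have h01 := congrFun (congrFun hc 0) 1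
  have h02 := congrFun (congrFun hc 0) 2
  have h10 := congrFun (congrFun hc 1) 0
  have h11 := congrFun (congrFun hc 1) 1
  have h12 := congrFun (congrFun hc 1) 2
  simp [Matrix.mul_apply, Fin.sum_univ_three] at h00 h01 h02 h10 h11 h12
  have g10 : g.1 1 0 = 0 := h00
  have g20 : g.1 2 0 = 0 := h10
  have g11 : g.1 1 1 = g.1 0 0 := by linear_combination -h01
  have g12 : g.1 1 2 = g.1 0 1 := by linear_combination -h02
  have g21 : g.1 2 1 = 0 := by linear_combination -h11 + g10
  have g22 : g.1 2 2 = g.1 0 0 := by linear_combination g11 - h12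
  have hdet : g.1 0 0 * g.1 0 0 * g.1 0 0 = 1 := by
    have h := g.2
    rw [Matrix.det_fin_three, g10, g20, g21, g11, g22] at h
    linear_combination h
  have hm : g.1 * g.1 = 1 := by rw [← Matrix.SpecialLinearGroup.coe_mul, hgg]; rfl
  have a00 := congrFun (congrFun hm 0) 0
  have a01 := congrFun (congrFun hm 0) 1
  have a02 := congrFun (congrFun hm 0) 2
  simp [Matrix.mul_apply, Fin.sum_univ_three, g10, g20, g11, g12, g21, g22] at a00 a01 a02
  have ha : g.1 0 0 = 1 := by linear_combination hdet - g.1 0 0 * a00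
  have h30 : (3 : F) = 0 := by exact_mod_cast CharP.cast_eq_zero F 3
  rw [ha] at a01 a02
  have hb : g.1 0 1 = 0 := by linear_combination (-1 : F) * a01 + g.1 0 1 * h30
  rw [hb] at a02
  have hc' : g.1 0 2 = 0 := by linear_combination (-1 : F) * a02 + g.1 0 2 * h30
  refine Subtype.ext ?_
  ext i j
  fin_cases i <;> fin_cases j <;> simp [g10, g20, g11, g12, g21, g22, ha, hb, hc']

end SLThree

theorem gl_a_det : (!![1, 1; 1, 0] : Matrix (Fin 2) (Fin 2) (ZMod 3)).det ≠ 0 := by decide

theorem gl_a_eight : (!![1, 1; 1, 0] : Matrix (Fin 2) (Fin 2) (ZMod 3)) ^ 8 = 1 := by decide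

theorem gl_a_four : (!![1, 1; 1, 0] : Matrix (Fin 2) (Fin 2) (ZMod 3)) ^ 4 = -1 := by decide

theorem gl_neg_one : (-1 : Matrix (Fin 2) (Fin 2) (ZMod 3)) ≠ 1 := by decide

variable {G : Type u} [Group G] [Finite G]

/-- The projective group `PSL₃(3)` is not homogeneous. -/
theorem psl_three_false (hom : Hom G) {F : Type} [Field F] [Fintype F] (h3 : Fintype.card F = 3)
    (ψ : G ≃* Matrix.ProjectiveSpecialLinearGroup (Fin 3) F) : False := by
  haveI : Fact (Nat.Prime 3) := ⟨Nat.prime_three⟩
  haveI : CharP F 3 := charP_of_card_eq_prime h3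
  have h30 : (3 : F) = 0 := by exact_mod_cast CharP.cast_eq_zero F 3
  let f : Matrix.SpecialLinearGroup (Fin 3) F →* G := ψ.symm.toMonoidHom.comp (QuotientGroup.mk' _)
  have hf : Function.Injective f := (injective_iff_map_eq_one f).2 fun g hg =>
    sl_three_center h3 ((QuotientGroup.eq_one_iff g).1 ((map_eq_one_iff ψ.symm ψ.symm.injective).1 hg))
  have hfs : Function.Surjective f := ψ.symm.surjective.comp (QuotientGroup.mk'_surjective _)
  let T : Matrix.SpecialLinearGroup (Fin 3) F := ⟨!![1, 1, 0; 0, 1, 0; 0, 0, 1], by simp [Matrix.det_fin_three]⟩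
  let J : Matrix.SpecialLinearGroup (Fin 3) F := ⟨!![1, 1, 0; 0, 1, 1; 0, 0, 1], by simp [Matrix.det_fin_three]⟩
  let D : Matrix.SpecialLinearGroup (Fin 3) F := ⟨!![-1, 0, 0; 0, -1, 0; 0, 0, 1], by simp [Matrix.det_fin_three]⟩
  have h2 : (2 : F) ≠ 0 := fun e => one_ne_zero (α := F) (by linear_combination h30 - e)
  have hT3 : T ^ 3 = 1 := by
    refine Subtype.ext ?_
    rw [pow_succ, pow_two]
    show T.1 * T.1 * T.1 = 1
    ext i j
    fin_cases i <;> fin_cases j <;> simp [T, Matrix.mul_apply, Fin.sum_univ_three]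
    linear_combination h30
  have hJ3 : J ^ 3 = 1 := by
    refine Subtype.ext ?_
    rw [pow_succ, pow_two]
    show J.1 * J.1 * J.1 = 1
    ext i j
    fin_cases i <;> fin_cases j <;> simp [J, Matrix.mul_apply, Fin.sum_univ_three] <;> linear_combination h30
  have hT1 : T ≠ 1 := fun h => by
    have := congrFun (congrFun (congrArg Subtype.val h) 0) 1
    simp [T] at this
  have hJ1 : J ≠ 1 := fun h => by
    have := congrFun (congrFun (congrArg Subtype.val h) 0) 1
    simp [J] at this
  have hD2 : D * D = 1 := by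
    refine Subtype.ext ?_
    show D.1 * D.1 = 1
    ext i j
    fin_cases i <;> fin_cases j <;> simp [D, Matrix.mul_apply, Fin.sum_univ_three]
  have hD1 : D ≠ 1 := fun h => by
    have := congrFun (congrFun (congrArg Subtype.val h) 0) 0
    simp [D] at this
    exact h2 (by linear_combination -this)
  have hTD : D * T = T * D := by
    refine Subtype.ext ?_
    show D.1 * T.1 = T.1 * D.1
    ext i j
    fin_cases i <;> fin_cases j <;> simp [D, T, Matrix.mul_apply, Fin.sum_univ_three]
  have hord : orderOf (f T) = orderOf (f J) := by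
    rw [orderOf_injective f hf, orderOf_injective f hf, orderOf_eq_prime hT3 hT1, orderOf_eq_prime hJ3 hJ1]
  obtain ⟨φ, hφ⟩ := hom.exists_map hord
  obtain ⟨g, hg⟩ := hfs (φ (f D))
  have hgg : g * g = 1 := hf (by rw [map_mul, hg, ← map_mul, ← map_mul, hD2, map_one, map_one])
  have hgJ : g * J = J * g := hf (by rw [map_mul, map_mul, hg, ← hφ, ← map_mul, ← map_mul, ← map_mul, ← map_mul, hTD])
  have hg1 := unipotent_no_invol h3 hgg (congrArg Subtype.val hgJ)
  rw [hg1, map_one] at hg
  exact hD1 (hf (φ.injective (by rw [← hg, map_one, map_one])))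

/-- The Mathieu group of degree eleven is not homogeneous. -/
theorem m_eleven_false (hom : Hom G) (hM : Spor.IsoM11 G) {t : G} (ht : orderOf t = 2)
    (e : ↥(centralizer ({t} : Set G)) ≃* GL (Fin 2) (ZMod 3)) : False := by
  haveI : Fact (Nat.Prime 3) := ⟨Nat.prime_three⟩
  let a : GL (Fin 2) (ZMod 3) := Matrix.GeneralLinearGroup.mkOfDetNeZero !![1, 1; 1, 0] gl_a_det
  have ha8 : a.1 ^ 8 = 1 := gl_a_eight
  have ha4 : a.1 ^ 4 = -1 := gl_a_four
  have hne := gl_neg_one
  let tC : ↥(centralizer ({t} : Set G)) := ⟨t, mem_centralizer_singleton_iff.2 rfl⟩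
  have het : (e tC).1 = -1 := by
    have htt : tC * tC = 1 := Subtype.ext (CfsgLib.Involutions.mul_self_eq_one_of_orderOf ht)
    rcases CfsgLib.SuborbitGroups.SD.gm_central_invol (e tC).1
      (by rw [← Units.val_mul, ← map_mul, htt, map_one, Units.val_one])
      (fun b hb => by
        have h1 : tC * e.symm (Matrix.GeneralLinearGroup.mkOfDetNeZero b hb) =
            e.symm (Matrix.GeneralLinearGroup.mkOfDetNeZero b hb) * tC :=
          Subtype.ext (mem_centralizer_singleton_iff.1 (e.symm (Matrix.GeneralLinearGroup.mkOfDetNeZero b hb)).2).symm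
        have h2 := congrArg (fun w : GL (Fin 2) (ZMod 3) => w.1) (congrArg e h1)
        simp only [map_mul, e.apply_symm_apply, Units.val_mul] at h2
        exact h2) with h | h
    · have h1 : tC = 1 := (map_eq_one_iff e e.injective).1 (Units.ext h)
      have h2 : t = 1 := congrArg Subtype.val h1
      rw [h2, orderOf_one] at ht
      omega
    · exact h
  have h4 : (e.symm a) ^ 4 = tC := e.injective (Units.ext (by
    rw [map_pow, e.apply_symm_apply, Units.val_pow_eq_pow_val, ha4, het]))
  set x : G := ((e.symm a : ↥(centralizer ({t} : Set G))) : G) with hx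
  have hx4 : x ^ 4 = t := by rw [hx, ← SubmonoidClass.coe_pow, h4]
  have htt := CfsgLib.Involutions.mul_self_eq_one_of_orderOf ht
  obtain ⟨φ, hφ⟩ := hom.exists_map (orderOf_inv x).symm
  obtain ⟨g, hg⟩ := CfsgLib.SuborbitGroups.m11_inner hM φ
  rw [hg, MulAut.conj_apply] at hφ
  have hgt : g * t * g⁻¹ = t := by
    rw [← hx4, ← conj_pow, hφ, inv_pow, hx4, inv_eq_of_mul_eq_one_right htt]
  let gC : ↥(centralizer ({t} : Set G)) := ⟨g, mem_centralizer_singleton_iff.2 (mul_inv_eq_iff_eq_mul.1 hgt)⟩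
  have hrel : gC * e.symm a = (e.symm a) ^ 7 * gC := Subtype.ext (by
    show g * x = (((e.symm a) ^ 7 : ↥(centralizer ({t} : Set G))) : G) * g
    rw [SubmonoidClass.coe_pow, ← hx]
    have h7 : x ^ 7 = x⁻¹ := eq_inv_of_mul_eq_one_left (by
      rw [← pow_succ, show (7 + 1 : ℕ) = 4 + 4 by rfl, pow_add, hx4, htt])
    rw [h7, ← hφ]
    group)
  have := congrArg (fun w : GL (Fin 2) (ZMod 3) => w.1) (congrArg e hrel)
  simp only [map_mul, map_pow, e.apply_symm_apply, Units.val_mul, Units.val_pow_eq_pow_val] at this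
  exact CfsgLib.SuborbitGroups.gm_not_real a.1 (e gC).1 ha8 (by rw [ha4]; exact hne)
    ((Matrix.isUnit_iff_isUnit_det _).1 (e gC).isUnit).ne_zero this

namespace Ctx

variable (c : Ctx G)

variable {F : Type} [Field F] [Fintype F] (e : ↥c.L ≃* Matrix.SpecialLinearGroup (Fin 2) F)
include e

variable [IsSimpleGroup G]

theorem cent_V_three (h3 : Fintype.card F = 3) : centralizer (c.V : Set G) = c.V := by
  haveI : Fact (Nat.Prime 3) := ⟨Nat.prime_three⟩
  have hF : Odd (Fintype.card F) := by rw [h3]; decide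
  obtain ⟨μ⟩ := c.exists_coord (p := 3) (h := 1) e h3 (by norm_num) (by norm_num) (by simpa using three_scale)
  refine le_antisymm (fun x hx => ?_) fun x hx => mem_centralizer_iff.2 fun a ha => c.V_comm ha hx
  have hxz : x * c.z = c.z * x := (mem_centralizer_iff.1 hx c.z c.z_mem_V).symm
  let xC : ↥c.Cz := ⟨x, mem_centralizer_singleton_iff.2 hxz⟩
  have hxy : xC * c.yC = c.yC * xC := Subtype.ext (mem_centralizer_iff.1 hx c.yG c.yG_mem_V).symm
  have hμ := congrArg μ.μ (congrArg c.π hxy)
  rw [map_mul, map_mul, μ.map_mul, μ.map_mul, show μ.μ (c.π c.yC) = Model.yy from μ.map_y] at hμ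
  obtain ⟨v, hv, hvπ, hvc⟩ : ∃ v : ↥c.Cz, (v : G) ∈ c.V ∧ μ.μ (c.π v) = μ.μ (c.π xC) ∧ v * c.yC = c.yC * v := by
    rcases Model.three_cent_y _ (μ.mem _) hμ with h | h | h | h
    · exact ⟨1, one_mem _, by rw [h, map_one, μ.map_one], by rw [mul_one, one_mul]⟩
    · exact ⟨c.zC, c.z_mem_V, by rw [h, μ.map_z], c.zC_comm _⟩
    · exact ⟨c.yC, c.yG_mem_V, by rw [h]; exact μ.map_y, rfl⟩
    · exact ⟨c.zC * c.yC, mul_mem c.z_mem_V c.yG_mem_V, by
        rw [h, map_mul, μ.map_mul, μ.map_z, show μ.μ (c.π c.yC) = Model.yy from μ.map_y],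
        by rw [mul_assoc, ← mul_assoc c.yC, ← c.zC_comm c.yC]; group⟩
  have hu : v⁻¹ * xC ∈ oddCore ↥c.Cz := c.π_eq.1 (μ.inj hvπ)
  have h1 := c.fix_y_trivial e hF hu ((show Commute v c.yC from hvc).symm.inv_right.mul_right (show Commute xC c.yC from hxy).symm)
  rw [inv_mul_eq_one.1 h1] at hv
  exact hv

theorem three_false (h3 : Fintype.card F = 3) : False := by
  haveI : Fact (Nat.Prime 3) := ⟨Nat.prime_three⟩
  haveI := c.klein_V
  obtain ⟨t, ht, ⟨ψ⟩⟩ := CfsgLib.SuborbitGroups.SD.centralizer_gl c.S c.hQD c.klein_V c.V_le_S (c.cent_V_three e h3)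
  haveI hn : (pResidual 2 G).Normal := ⟨fun w hw g => by
    have hle : (pResidual 2 G).map (MulAut.conj g).toMonoidHom ≤ pResidual 2 G := by
      rw [pResidual, MonoidHom.map_closure, closure_le]
      rintro _ ⟨x, hx, rfl⟩
      refine subset_closure ?_
      show Nat.Coprime (orderOf _) 2
      rw [show orderOf ((MulAut.conj g).toMonoidHom x) = orderOf x from (MulAut.conj g).orderOf_eq x]
      exact hx
    exact hle ⟨w, hw, rfl⟩⟩
  have h3G : 3 ∣ Nat.card G := by
    refine dvd_trans ?_ (card_subgroup_dvd_card (centralizer ({t} : Set G)))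
    rw [Nat.card_congr ψ.toEquiv, Nat.card_eq_fintype_card]
    rw [show Fintype.card (GL (Fin 2) (ZMod 3)) = 48 by
      rw [← Nat.card_eq_fintype_card, Matrix.card_GL_field]; simp [Fin.prod_univ_two]]
    norm_num
  have hO : pResidual 2 G = ⊤ := by
    refine hn.eq_bot_or_eq_top.resolve_left fun hbot => ?_
    obtain ⟨w, hw⟩ := exists_prime_orderOf_dvd_card' (G := G) 3 h3G
    have hwR : w ∈ pResidual 2 G := Subgroup.subset_closure (show Nat.Coprime (orderOf w) 2 by rw [hw]; decide)
    rw [hbot, mem_bot] at hwR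
    rw [hwR, orderOf_one] at hw
    omega
  rcases Cfsg.Agent.S2916.result hO t ht ⟨ψ⟩ with ⟨F', _, _, hF', ⟨f⟩⟩ | hM
  · exact psl_three_false c.hom hF' f
  · exact m_eleven_false c.hom hM ht ψ

end Ctx

end CfsgLib.Homogeneous.SD
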