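import Cfsg.Agent.Lib.Homogeneous.SD.CentThree
import Cfsg.Agent.Lib.Homogeneous.SD.ShiftPSL
import Cfsg.Agent.S0483

/-!
The centraliser of the element of order three has no perfect section `PSL₂(q)`: it has order thirty-six.
-/

set_option autoImplicit false
set_option linter.unusedSectionVars false
set_option linter.style.haveILetI false

namespace CfsgLib.Homogeneous.SD

open Cfsg Subgroup CfsgLib.PSL2
open scoped commutatorElement MatrixGroups

universe u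

variable {G : Type u} [Group G] [Finite G]

/-- The centre of the projective group is trivial. -/
theorem psl_center_trivial {F : Type} [Field F] [Fintype F] (h2 : (2 : F) ≠ 0)
    {d : Matrix.ProjectiveSpecialLinearGroup (Fin 2) F} (hd : ∀ g, d * g = g * d) : d = 1 := by
  obtain ⟨t, rfl⟩ := Shift.cent_uu h2 (hd (uu 1))
  have h := hd (vv 1)
  rw [uu_eq, vv_eq, ← map_mul, ← map_mul, mk_eq_mk] at h
  simp only [Matrix.SpecialLinearGroup.coe_mul, coe_uSL, coe_vSL] at h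
  have ht : t = 0 := by
    rcases h with h | h
    · have h00 := congrFun (congrFun h 0) 0
      simp [Matrix.mul_apply, Fin.sum_univ_two] at h00
      exact h00
    · have h10 := congrFun (congrFun h 1) 0
      simp [Matrix.mul_apply, Fin.sum_univ_two] at h10
      exact absurd (show (2 : F) = 0 by linear_combination h10) h2
  rw [ht]
  exact map_one _

namespace Five

variable (D : Five G)

theorem X_cases_V {g : G} (hgm : g * D.m = D.m * g) (hgN : ∀ a ∈ D.c.V, g * a * g⁻¹ ∈ D.c.V)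
    (hgz : g * D.c.z = D.c.z * g) : ∃ v ∈ D.c.V, ∃ i : ℕ, g = v * D.m ^ i := by
  obtain ⟨u, hu, i, o, ho, hge⟩ := D.cent_zm (x := ⟨g, mem_centralizer_singleton_iff.2 hgz⟩) (Subtype.ext hgm)
  have hge' : g = (u : G) * D.m ^ i * (o : G) := congrArg Subtype.val hge
  set a := (u : G) * D.m ^ i with ha
  set b := g * D.c.yG * g⁻¹ with hb
  have hbV : b ∈ D.c.V := hgN _ D.c.yG_mem_V
  have hcb : Commute a b := (show Commute (u : G) b from D.c.V_comm hu hbV).mul_left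
    ((show Commute D.m b from D.m_V hbV).pow_left i)
  have h1 : (o : G) * D.c.yG * (o : G)⁻¹ = b := by
    calc (o : G) * D.c.yG * (o : G)⁻¹ = a⁻¹ * b * a := by rw [hb, hge']; group
      _ = b := by rw [mul_assoc, ← hcb.eq, inv_mul_cancel_left]
  have h2 : D.c.yG * (o : G)⁻¹ = (o : G) * D.c.yG := by
    have h := D.yG_inverts (inv_mem ho)
    rw [InvMemClass.coe_inv, inv_inv] at h
    exact mul_inv_eq_iff_eq_mul.1 h
  have h3 : (o : G) * (o : G) ∈ D.c.V := by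
    have h := mul_mem (h1 ▸ hbV : (o : G) * D.c.yG * (o : G)⁻¹ ∈ D.c.V) D.c.yG_mem_V
    rwa [mul_assoc (o : G) D.c.yG, h2, ← mul_assoc, mul_assoc ((o : G) * o), D.c.yG_sq, mul_one] at h
  have h4 : o = 1 := D.eq_one_of_pow ho (p := 2) (n := 2) (Or.inl rfl) (Subtype.ext (by
    rw [show (2 : ℕ) ^ 2 = 2 * 2 by rfl, pow_mul, pow_two o, pow_two, Subgroup.coe_mul, Subgroup.coe_mul]
    exact D.c.V_mul_self h3))
  exact ⟨u, hu, i, by rw [hge', h4, ha, OneMemClass.coe_one, mul_one]⟩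

variable [IsSimpleGroup G]

/-- An element of odd prime power order three fixed by an involution of the four-group is central. -/
theorem three_fixed {x v : G} (hxm : x * D.m = D.m * x) (hv : v ∈ D.c.V) (hv1 : v ≠ 1) (hxv : x * v = v * x) {k : ℕ}
    (hk : x ^ 3 ^ k = 1) : x ∈ zpowers D.m := by
  obtain ⟨g, hgm, -, hgz⟩ := D.exists_norm hv hv1
  set x' := g * x * g⁻¹ with hx'
  have hx'm : x' * D.m = D.m * x' :=
    (((show Commute g D.m from hgm).mul_left hxm).mul_left (show Commute g D.m from hgm).inv_left).eq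
  have hx'z : x' * D.c.z = D.c.z * x' := by
    rw [← hgz, hx']
    calc g * x * g⁻¹ * (g * v * g⁻¹) = g * (x * v) * g⁻¹ := by group
      _ = g * (v * x) * g⁻¹ := by rw [hxv]
      _ = _ := by group
  let xC : ↥D.c.Cz := ⟨x', mem_centralizer_singleton_iff.2 hx'z⟩
  obtain ⟨u, hu, i, o, ho, hxe⟩ := D.cent_zm (x := xC) (Subtype.ext hx'm)
  set e := xC * (D.mC ^ i)⁻¹ with he
  have hxk : xC ^ 3 ^ (k + 1) = 1 := Subtype.ext (by
    rw [SubmonoidClass.coe_pow, OneMemClass.coe_one]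
    show x' ^ _ = 1
    rw [pow_succ, pow_mul, hx', conj_pow, hk, mul_one, mul_inv_cancel, one_pow])
  have hc : Commute xC (D.mC ^ i)⁻¹ := ((show Commute xC D.mC from Subtype.ext hx'm).pow_right i).inv_right
  have hek : e ^ 3 ^ (k + 1) = 1 := by
    rw [he, hc.mul_pow, hxk, inv_pow, ← pow_mul, pow_succ, ← mul_assoc, pow_mul D.mC _ 3, one_mul, inv_eq_one]
    rw [← pow_mul, mul_comm, pow_mul, show D.mC ^ 3 = 1 from D.orderOf_mC ▸ pow_orderOf_eq_one _, one_pow]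
  have hπe : D.c.π e = D.c.π u := by
    rw [he, hxe, map_mul, map_mul D.c.π (u * D.mC ^ i) o, D.c.π_eq_one.2 ho, mul_one, ← map_mul, mul_inv_cancel_right]
  have hu1 : D.c.π u = 1 := by
    refine orderOf_eq_one_iff.1 (Nat.eq_one_of_dvd_coprimes (a := 3 ^ (k + 1)) (b := 2)
      (Nat.Coprime.pow_left _ (by norm_num)) (orderOf_dvd_of_pow_eq_one (by rw [← hπe, ← map_pow, hek, map_one]))
      (orderOf_dvd_of_pow_eq_one ?_))
    rw [← map_pow, show u ^ 2 = 1 from Subtype.ext (by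
      rw [SubmonoidClass.coe_pow, pow_two]; exact D.c.V_mul_self hu), map_one]
  have he1 : e = 1 := D.eq_one_of_pow (D.c.π_eq_one.1 (hπe.trans hu1)) (p := 3) (n := k + 1) (Or.inr (Or.inl rfl)) hek
  have hxi : x' = D.m ^ i := by
    have h : xC = D.mC ^ i := mul_inv_eq_one.1 (he ▸ he1)
    exact (congrArg Subtype.val h).trans (SubmonoidClass.coe_pow _ _)
  refine ⟨i, ?_⟩
  show D.m ^ (i : ℤ) = x
  rw [zpow_natCast]
  calc D.m ^ i = g⁻¹ * (g * D.m ^ i) := by group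
    _ = g⁻¹ * (D.m ^ i * g) := by rw [((show Commute g D.m from hgm).pow_right i).eq]
    _ = x := by rw [← hxi, hx']; group

/-- Sylow conjugation into the four-group inside a subgroup. -/
theorem conj_into_V' {K : Subgroup G} (hKX : K ≤ D.X) (hVK : D.c.V ≤ K) {T : Subgroup G} (hT : IsPGroup 2 ↥T)
    (hTK : T ≤ K) : ∃ x ∈ K, ∀ t ∈ T, x * t * x⁻¹ ∈ D.c.V := by
  haveI := Fact.mk Nat.prime_two
  obtain ⟨P₀, hP₀⟩ := ((D.c.S.2.to_le D.c.V_le_S).comap_subtype (K := K)).exists_le_sylow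
  obtain ⟨P, hP⟩ := (hT.comap_subtype (K := K)).exists_le_sylow
  obtain ⟨g, hg⟩ := MulAction.exists_smul_eq ↥K P P₀
  have hle : (P₀ : Subgroup ↥K).map K.subtype ≤ D.c.V :=
    D.two_le_V (P₀.2.map _) (by rintro _ ⟨a, -, rfl⟩; exact D.mem_X.1 (hKX a.2))
      fun v hv => ⟨⟨v, hVK hv⟩, hP₀ hv, rfl⟩
  refine ⟨g, g.2, fun t ht => hle ⟨g * ⟨t, hTK ht⟩ * g⁻¹, ?_, rfl⟩⟩
  rw [← hg, Sylow.coe_subgroup_smul]
  exact ⟨⟨t, hTK ht⟩, hP (show (⟨t, hTK ht⟩ : ↥K) ∈ T.subgroupOf K from ht), rfl⟩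

/-- The four-group is normal modulo an odd subgroup, or lies in a perfect normal subgroup. -/
theorem dichotomy :
    (∃ W : Subgroup G, W ≤ D.X ∧ (∀ x ∈ D.X, ∀ w ∈ W, x * w * x⁻¹ ∈ W) ∧ Odd (Nat.card ↥W) ∧
      ∀ x ∈ D.X, ∀ v ∈ D.c.V, ∃ v' ∈ D.c.V, ∃ w ∈ W, x * v * x⁻¹ = v' * w) ∨
    ∃ Y : Subgroup G, Y ≤ D.X ∧ (∀ x ∈ D.X, ∀ w ∈ Y, x * w * x⁻¹ ∈ Y) ∧ D.c.V ≤ Y ∧ ⁅Y, Y⁆ = Y := by
  obtain ⟨A, ⟨hAX, hAn, hVA⟩, hmin⟩ := (Set.toFinite {A : Subgroup G |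
    A ≤ D.X ∧ (∀ x ∈ D.X, ∀ w ∈ A, x * w * x⁻¹ ∈ A) ∧ D.c.V ≤ A}).exists_minimal
      ⟨D.X, le_rfl, fun x hx w hw => mul_mem (mul_mem hx hw) (inv_mem hx), D.V_le_X⟩
  set B := ⁅A, A⁆ with hB
  have hBA : B ≤ A := commutator_le.2 fun a ha b hb => by
    rw [commutatorElement_def]; exact mul_mem (mul_mem (mul_mem ha hb) (inv_mem ha)) (inv_mem hb)
  have hBn : ∀ x ∈ D.X, ∀ w ∈ B, x * w * x⁻¹ ∈ B := by
    intro x hx w hw
    have hle : B.map (MulAut.conj x).toMonoidHom ≤ B := by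
      rw [hB, map_commutator]
      have : A.map (MulAut.conj x).toMonoidHom ≤ A := by rintro _ ⟨a, ha, rfl⟩; exact hAn x hx a ha
      exact commutator_mono this this
    exact hle ⟨w, hw, rfl⟩
  by_cases hz : D.c.z ∈ B
  · right
    have hVB : D.c.V ≤ B := by
      intro v hv
      by_cases hv1 : v = 1
      · rw [hv1]; exact one_mem _
      obtain ⟨g, hgm, -, hgz⟩ := D.exists_norm hv hv1
      have := hBn g⁻¹ (inv_mem (D.mem_X.2 hgm)) _ hz
      rw [← hgz] at this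
      rwa [show g⁻¹ * (g * v * g⁻¹) * g⁻¹⁻¹ = v by group] at this
    exact ⟨A, hAX, hAn, hVA, le_antisymm hBA (hmin ⟨hBA.trans hAX, hBn, hVB⟩ hBA)⟩
  left
  have hVB : ∀ v ∈ D.c.V, v ∈ B → v = 1 := by
    intro v hv hvB
    by_contra hv1
    obtain ⟨g, hgm, -, hgz⟩ := D.exists_norm hv hv1
    exact hz (hgz ▸ hBn g (D.mem_X.2 hgm) v hvB)
  have hBodd : Odd (Nat.card ↥B) := by
    haveI := Fact.mk Nat.prime_two
    rw [← Nat.not_even_iff_odd, even_iff_two_dvd]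
    intro h
    obtain ⟨⟨t, htB⟩, hto⟩ := exists_prime_orderOf_dvd_card' 2 h
    rw [Subgroup.orderOf_mk] at hto
    obtain ⟨x, hx, hxt⟩ := D.conj_into_V' hAX hVA (T := zpowers t)
      (zpowers_two t (k := 1) (by rw [pow_one, ← hto, pow_orderOf_eq_one])) (zpowers_le.2 (hBA htB))
    have h1 := hVB _ (hxt t (mem_zpowers t)) (hBn x (hAX hx) t htB)
    rw [conj_eq_one_iff] at h1
    rw [h1, orderOf_one] at hto
    omega
  refine ⟨B, hBA.trans hAX, hBn, hBodd, fun x hx v hv => ?_⟩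
  obtain ⟨a, ha, hav⟩ := D.conj_into_V' hAX hVA (T := D.c.V.map (MulAut.conj x).toMonoidHom)
    ((D.c.S.2.to_le D.c.V_le_S).map _) (by rintro _ ⟨w, hw, rfl⟩; exact hAn x hx w (hVA hw))
  set v' := a * (x * v * x⁻¹) * a⁻¹
  have hv' : v' ∈ D.c.V := hav _ ⟨v, hv, rfl⟩
  refine ⟨v', hv', ⁅v'⁻¹, a⁻¹⁆, commutator_mem_commutator (inv_mem (hVA hv')) (inv_mem ha), ?_⟩
  rw [commutatorElement_def]
  simp only [v']
  group

/-- The perfect case is impossible. -/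
theorem perfect_false {Y : Subgroup G} (hYX : Y ≤ D.X) (hYn : ∀ x ∈ D.X, ∀ w ∈ Y, x * w * x⁻¹ ∈ Y)
    (hVY : D.c.V ≤ Y) (hY : ⁅Y, Y⁆ = Y) : False := by
  classical
  haveI := Fact.mk Nat.prime_two
  haveI := D.c.klein_V
  haveI : Group.IsPerfect ↥Y := Subgroup.isPerfect_iff.2 hY
  -- the four-group is a Sylow subgroup
  obtain ⟨SY, hSY⟩ := ((D.c.S.2.to_le D.c.V_le_S).comap_subtype (K := Y)).exists_le_sylow
  have hSeq : (SY : Subgroup ↥Y) = D.c.V.subgroupOf Y := by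
    refine le_antisymm (fun a ha => ?_) hSY
    exact D.two_le_V (SY.2.map Y.subtype) (by rintro _ ⟨b, -, rfl⟩; exact D.mem_X.1 (hYX b.2))
      (fun v hv => ⟨⟨v, hVY hv⟩, hSY hv, rfl⟩) ⟨a, ha, rfl⟩
  have hS4 : Nat.card (SY : Subgroup ↥Y) = 4 := by
    rw [hSeq, Nat.card_congr (subgroupOfEquivOfLe hVY).toEquiv, IsKleinFour.card_four]
  have hS : Nonempty ((SY : Subgroup ↥Y) ≃* DihedralGroup 2) := by
    obtain ⟨e⟩ := IsKleinFour.nonempty_mulEquiv (G₁ := ↥D.c.V) (G₂ := DihedralGroup 2)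
    exact ⟨((MulEquiv.subgroupCongr hSeq).trans (subgroupOfEquivOfLe hVY)).trans e⟩
  have h8 : ¬ 8 ∣ Nat.card ↥Y := fun h => by
    have := SY.pow_dvd_card_of_pow_dvd_card (n := 3) h
    rw [hS4] at this
    norm_num at this
  rcases Cfsg.Agent.S0483.result SY 2 le_rfl hS with ⟨F, _, _, hodd, hq, ⟨e⟩⟩ | ⟨⟨e⟩⟩
  swap
  · refine h8 ?_
    rw [Subgroup.card_eq_card_quotient_mul_card_subgroup (oddCore ↥Y), Nat.card_congr e.toEquiv,
      nat_card_alternatingGroup, Nat.card_fin]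
    exact dvd_mul_of_dvd_left (by decide) _
  have h2 : (2 : F) ≠ 0 := CfsgLib.SL2Orders.two_ne_zero_of_odd hodd
  have h8P : ¬ 8 ∣ Nat.card (Matrix.ProjectiveSpecialLinearGroup (Fin 2) F) := fun h => h8 (by
    rw [Subgroup.card_eq_card_quotient_mul_card_subgroup (oddCore ↥Y), Nat.card_congr e.toEquiv]
    exact dvd_mul_of_dvd_left h _)
  set q : ↥Y →* Matrix.ProjectiveSpecialLinearGroup (Fin 2) F := e.toMonoidHom.comp (QuotientGroup.mk' _) with hq'
  have hqs : Function.Surjective q := e.surjective.comp (QuotientGroup.mk'_surjective _)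
  have hqk : ∀ a : ↥Y, q a = 1 ↔ a ∈ oddCore ↥Y := fun a => by
    show e _ = 1 ↔ _
    rw [map_eq_one_iff e e.injective]
    exact QuotientGroup.eq_one_iff a
  -- some element of the perfect subgroup permutes the four-group
  obtain ⟨y, hyY, hyV, hyz⟩ : ∃ y ∈ Y, (∀ a ∈ D.c.V, y * a * y⁻¹ ∈ D.c.V) ∧ y * D.c.z * y⁻¹ ≠ D.c.z := by
    by_contra hno
    push Not at hno
    have hcent : normalizer ((SY : Subgroup ↥Y) : Set ↥Y) ≤ centralizer ((SY : Subgroup ↥Y) : Set ↥Y) := by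
      intro g hg
      have hgV : ∀ a ∈ D.c.V, (g : G) * a * (g : G)⁻¹ ∈ D.c.V := fun a ha => by
        have h1 := (mem_normalizer_iff.1 hg ⟨a, hVY ha⟩).1 (by rw [hSeq]; exact ha)
        rw [hSeq] at h1
        exact h1
      obtain ⟨v, hv, i, hgi⟩ := D.X_cases_V (D.mem_X.1 (hYX g.2)) hgV
        (mul_inv_eq_iff_eq_mul.1 (hno g g.2 hgV))
      refine mem_centralizer_iff.2 fun a ha => Subtype.ext ?_
      have haV : (a : G) ∈ D.c.V := by rw [SetLike.mem_coe, hSeq] at ha; exact ha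
      show (a : G) * (g : G) = (g : G) * a
      rw [hgi]
      exact ((show Commute v (a : G) from D.c.V_comm hv haV).mul_left
        ((show Commute D.m (a : G) from D.m_V haV).pow_left i)).eq.symm
    have hcompl := MonoidHom.ker_transferSylow_isComplement' SY hcent
    have hle : _root_.commutator ↥Y ≤ (MonoidHom.transferSylow SY hcent).ker := by
      rw [commutator_def, commutator_le]
      intro a _ b _
      rw [MonoidHom.mem_ker, map_commutatorElement, commutatorElement_eq_one_iff_mul_comm]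
      refine Subtype.ext (Subtype.ext ?_)
      have key : ∀ s : ↥(SY : Subgroup ↥Y), ((s : ↥Y) : G) ∈ D.c.V := fun s => hSeq.le s.2
      exact D.c.V_comm (key _) (key _)
    rw [Group.IsPerfect.commutator_eq_top, top_le_iff] at hle
    rw [hle, isComplement'_top_left] at hcompl
    rw [hcompl, card_bot] at hS4
    omega
  have hyX : y ∈ D.X := hYX hyY
  -- the centraliser is generated by the perfect subgroup and the central element
  have hfix : ∀ g ∈ D.X, (∀ a ∈ D.c.V, g * a * g⁻¹ ∈ D.c.V) → ∀ v ∈ D.c.V, v ≠ 1 → g * v * g⁻¹ = v →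
      ∀ a ∈ D.c.V, g * a * g⁻¹ = a := by
    intro g hg hgV v hv hv1 hgv a ha
    obtain ⟨h, hhm, hhN, hhz⟩ := D.exists_norm hv hv1
    have hg'm : h * g * h⁻¹ * D.m = D.m * (h * g * h⁻¹) :=
      (((show Commute h D.m from hhm).mul_left (D.mem_X.1 hg)).mul_left (show Commute h D.m from hhm).inv_left).eq
    obtain ⟨u, hu, i, hge⟩ := D.X_cases_V hg'm (fun b hb => by
      have h1 := (mem_normalizer_iff.1 hhN _).1 (hgV _ ((mem_normalizer_iff''.1 hhN b).1 hb))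
      rwa [show h * g * h⁻¹ * b * (h * g * h⁻¹)⁻¹ = h * (g * (h⁻¹ * b * h) * g⁻¹) * h⁻¹ by group]) (by
      rw [← hhz]
      calc h * g * h⁻¹ * (h * v * h⁻¹) = h * (g * v) * h⁻¹ := by group
        _ = h * (v * g) * h⁻¹ := by rw [mul_inv_eq_iff_eq_mul.1 hgv]
        _ = _ := by group)
    have hb : h * a * h⁻¹ ∈ D.c.V := (mem_normalizer_iff.1 hhN a).1 ha
    have hc : Commute (h * g * h⁻¹) (h * a * h⁻¹) := by
      rw [hge]
      exact (show Commute u _ from D.c.V_comm hu hb).mul_left ((show Commute D.m _ from D.m_V hb).pow_left i)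
    have h5 : h * (g * a * g⁻¹) * h⁻¹ = h * a * h⁻¹ := by
      calc h * (g * a * g⁻¹) * h⁻¹ = h * g * h⁻¹ * (h * a * h⁻¹) * (h * g * h⁻¹)⁻¹ := by group
        _ = _ := by rw [hc.eq, mul_inv_cancel_right]
    exact (MulAut.conj h).injective h5
  have hXY : ∀ x ∈ D.X, ∃ a ∈ Y, ∃ i : ℕ, x = a * D.m ^ i := by
    intro x hx
    obtain ⟨k, hk, hkV⟩ := D.conj_into_V' hYX hVY (T := D.c.V.map (MulAut.conj x).toMonoidHom)
      ((D.c.S.2.to_le D.c.V_le_S).map _) (by rintro _ ⟨w, hw, rfl⟩; exact hYn x hx w (hVY hw))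
    have hnX : k * x ∈ D.X := mul_mem (hYX hk) hx
    have hnV : ∀ a ∈ D.c.V, k * x * a * (k * x)⁻¹ ∈ D.c.V := fun a ha => by
      rw [show k * x * a * (k * x)⁻¹ = k * (x * a * x⁻¹) * k⁻¹ by group]
      exact hkV _ ⟨a, ha, rfl⟩
    have hmul : ∀ g₁ g₂ : G, (∀ a ∈ D.c.V, g₁ * a * g₁⁻¹ ∈ D.c.V) → (∀ a ∈ D.c.V, g₂ * a * g₂⁻¹ ∈ D.c.V) →
        ∀ a ∈ D.c.V, g₁ * g₂ * a * (g₁ * g₂)⁻¹ ∈ D.c.V := fun g₁ g₂ h1 h2' a ha => by
      rw [show g₁ * g₂ * a * (g₁ * g₂)⁻¹ = g₁ * (g₂ * a * g₂⁻¹) * g₁⁻¹ by group]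
      exact h1 _ (h2' a ha)
    have hyinv : ∀ a ∈ D.c.V, y⁻¹ * a * y⁻¹⁻¹ ∈ D.c.V := fun a ha => by
      rw [inv_inv]
      exact (mem_normalizer_iff''.1 (mem_normalizer_of_conj hyV) a).1 ha
    set a₁ := y * D.c.z * y⁻¹ with ha₁
    have ha₁V : a₁ ∈ D.c.V := hyV _ D.c.z_mem_V
    set a₂ := y * a₁ * y⁻¹ with ha₂
    have ha₂V : a₂ ∈ D.c.V := hyV _ ha₁V
    have ha₁1 : a₁ ≠ 1 := fun h => D.c.z_ne_one (conj_eq_one_iff.1 h)
    have ha₂1 : a₂ ≠ 1 := fun h => ha₁1 (conj_eq_one_iff.1 h)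
    have ha₂a : a₂ ≠ a₁ := fun h => hyz ((MulAut.conj y).injective (show y * a₁ * y⁻¹ = y * D.c.z * y⁻¹ from h))
    have ha₂z : a₂ ≠ D.c.z := fun h => by
      -- the square would fix the involution, so the action would be trivial on a third one
      haveI := D.c.klein_V
      have h12 : (⟨a₁, ha₁V⟩ : ↥D.c.V) ≠ ⟨D.c.z, D.c.z_mem_V⟩ := fun e => hyz (congrArg Subtype.val e)
      have hw1 : a₁ * D.c.z ≠ 1 := fun e => hyz (by
        have h1 := eq_inv_of_mul_eq_one_left e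
        rwa [inv_eq_of_mul_eq_one_right D.c.z_sq] at h1)
      have hw : y * (a₁ * D.c.z) * y⁻¹ = a₁ * D.c.z := by
        calc y * (a₁ * D.c.z) * y⁻¹ = a₂ * a₁ := by rw [ha₂, ha₁]; group
          _ = a₁ * D.c.z := by rw [h, D.c.V_comm D.c.z_mem_V ha₁V]
      exact hyz (hfix y hyX hyV _ (mul_mem ha₁V D.c.z_mem_V) hw1 hw _ D.c.z_mem_V)
    have hcases : k * x * D.c.z * (k * x)⁻¹ = D.c.z ∨ k * x * D.c.z * (k * x)⁻¹ = a₁ ∨
        k * x * D.c.z * (k * x)⁻¹ = a₂ := by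
      have hb := hnV _ D.c.z_mem_V
      have hb1 : k * x * D.c.z * (k * x)⁻¹ ≠ 1 := fun h => D.c.z_ne_one (conj_eq_one_iff.1 h)
      by_contra hc
      push Not at hc
      have h3 : a₂ = D.c.z * a₁ := congrArg Subtype.val (IsKleinFour.eq_mul_of_ne_all (x := (⟨D.c.z, D.c.z_mem_V⟩ : ↥D.c.V))
        (y := ⟨a₁, ha₁V⟩) (z := ⟨a₂, ha₂V⟩) (fun e => D.c.z_ne_one (congrArg Subtype.val e))
        (fun e => ha₁1 (congrArg Subtype.val e)) (fun e => hyz (congrArg Subtype.val e).symm)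
        (fun e => ha₂1 (congrArg Subtype.val e)) (fun e => ha₂z (congrArg Subtype.val e))
        (fun e => ha₂a (congrArg Subtype.val e)))
      refine hc.2.2 (h3 ▸ congrArg Subtype.val (IsKleinFour.eq_mul_of_ne_all (x := (⟨D.c.z, D.c.z_mem_V⟩ : ↥D.c.V))
        (y := ⟨a₁, ha₁V⟩) (z := ⟨_, hb⟩) (fun e => D.c.z_ne_one (congrArg Subtype.val e))
        (fun e => ha₁1 (congrArg Subtype.val e)) (fun e => hyz (congrArg Subtype.val e).symm)
        (fun e => hb1 (congrArg Subtype.val e)) (fun e => hc.1 (congrArg Subtype.val e))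
        (fun e => hc.2.1 (congrArg Subtype.val e))))
    obtain ⟨b, hbY, hbV, hbz⟩ : ∃ b ∈ Y, (∀ a ∈ D.c.V, b * a * b⁻¹ ∈ D.c.V) ∧
        b * (k * x) * D.c.z = D.c.z * (b * (k * x)) := by
      have hto : ∀ b : G, b * (k * x * D.c.z * (k * x)⁻¹) * b⁻¹ = D.c.z →
          b * (k * x) * D.c.z = D.c.z * (b * (k * x)) := fun b hb => by
        refine mul_inv_eq_iff_eq_mul.1 ?_
        calc _ = b * (k * x * D.c.z * (k * x)⁻¹) * b⁻¹ := by group
          _ = D.c.z := hb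
      rcases hcases with h | h | h
      · exact ⟨1, one_mem _, fun a ha => by simpa using ha, hto 1 (by rw [h]; group)⟩
      · exact ⟨y⁻¹, inv_mem hyY, hyinv, hto _ (by rw [h, ha₁]; group)⟩
      · exact ⟨y⁻¹ * y⁻¹, mul_mem (inv_mem hyY) (inv_mem hyY), hmul _ _ hyinv hyinv,
          hto _ (by rw [h, ha₂, ha₁]; group)⟩
    obtain ⟨v, hv, i, hvi⟩ := D.X_cases_V (D.mem_X.1 (mul_mem (hYX hbY) hnX)) (hmul _ _ hbV hnV) hbz
    refine ⟨k⁻¹ * b⁻¹ * v, mul_mem (mul_mem (inv_mem hk) (inv_mem hbY)) (hVY hv), i, ?_⟩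
    calc x = k⁻¹ * b⁻¹ * (b * (k * x)) := by group
      _ = _ := by rw [hvi, ← mul_assoc]
  -- the projection
  have hmc : ∀ (a : ↥Y) (g : G), g ∈ zpowers D.m → (a : G) = g → q a = 1 := by
    intro a g hg hag
    refine psl_center_trivial h2 fun w => ?_
    obtain ⟨w, rfl⟩ := hqs w
    rw [← map_mul, ← map_mul]
    congr 1
    refine Subtype.ext ?_
    obtain ⟨i, rfl⟩ := hg
    rw [Subgroup.coe_mul, Subgroup.coe_mul, hag]
    exact ((show Commute D.m (w : G) from (D.mem_X.1 (hYX w.2)).symm).zpow_left i).eq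
  have hdec : ∀ x : ↥D.X, ∃ a : ↥Y, ∃ i : ℕ, (x : G) = (a : G) * D.m ^ i := fun x => by
    obtain ⟨a, ha, i, h⟩ := hXY x x.2
    exact ⟨⟨a, ha⟩, i, h⟩
  choose fa fi hfa using hdec
  have hwd : ∀ (x : ↥D.X) (a : ↥Y) (i : ℤ), (x : G) = (a : G) * D.m ^ i → q (fa x) = q a := by
    intro x a i hx
    have h1 := hmc (a⁻¹ * fa x) (D.m ^ (i - (fi x : ℤ))) (zpow_mem (mem_zpowers _) _) (by
      rw [Subgroup.coe_mul, InvMemClass.coe_inv, zpow_sub, zpow_natCast, eq_mul_inv_iff_mul_eq, mul_assoc,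
        ← hfa x, hx, inv_mul_cancel_left])
    rw [map_mul, map_inv, inv_mul_eq_one] at h1
    exact h1.symm
  let π : ↥D.X →* Matrix.ProjectiveSpecialLinearGroup (Fin 2) F := MonoidHom.mk' (fun x => q (fa x)) fun x x' => by
    rw [← map_mul]
    refine hwd _ _ ((fi x + fi x' : ℕ) : ℤ) ?_
    rw [zpow_natCast, Subgroup.coe_mul, Subgroup.coe_mul, hfa x, hfa x', pow_add]
    have hc : Commute (D.m ^ fi x) (fa x' : G) :=
      (show Commute D.m (fa x' : G) from (D.mem_X.1 (hYX (fa x').2)).symm).pow_left _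
    calc (fa x : G) * D.m ^ fi x * ((fa x' : G) * D.m ^ fi x')
        = (fa x : G) * (D.m ^ fi x * (fa x' : G)) * D.m ^ fi x' := by group
      _ = _ := by rw [hc.eq]; group
  have hπY : ∀ (a : ↥Y), π ⟨a, hYX a.2⟩ = q a := fun a => hwd _ a 0 (by simp)
  let mX : ↥D.X := ⟨D.m, D.m_mem_X⟩
  have hπm : π mX = 1 := by
    show q (fa mX) = 1
    rw [hwd mX 1 1 (by simp [mX]), map_one]
  -- three-elements of the kernel are central
  have hker3 : ∀ (x : ↥D.X) (k : ℕ), x ^ 3 ^ k = 1 → π x = 1 → x ∈ zpowers mX := by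
    haveI := Fact.mk Nat.prime_three
    haveI : IsMulCommutative ↥D.c.V := ⟨⟨fun a b => Subtype.ext (D.c.V_comm a.2 b.2)⟩⟩
    set W := π.ker.map D.X.subtype with hW
    have hker : Odd (Nat.card ↥W) := by
      rw [← Nat.not_even_iff_odd, even_iff_two_dvd]
      intro h
      obtain ⟨⟨t, htW⟩, hto⟩ := exists_prime_orderOf_dvd_card' 2 h
      rw [Subgroup.orderOf_mk] at hto
      obtain ⟨t', ht', ht't⟩ := htW
      have htX : t ∈ D.X := ht't ▸ t'.2
      obtain ⟨g, hg, hgt⟩ := D.conj_into_V (T := zpowers t)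
        (zpowers_two t (k := 1) (by rw [pow_one, ← hto, pow_orderOf_eq_one])) (zpowers_le.2 htX)
      set v := g * t * g⁻¹ with hv
      have hvV : v ∈ D.c.V := hgt t (mem_zpowers t)
      have h1 : π ⟨v, D.V_le_X hvV⟩ = 1 := by
        rw [show (⟨v, D.V_le_X hvV⟩ : ↥D.X) = ⟨g, hg⟩ * t' * ⟨g, hg⟩⁻¹ from Subtype.ext (by show g * t * g⁻¹ = g * ((t' : ↥D.X) : G) * g⁻¹; rw [show ((t' : ↥D.X) : G) = t from ht't]),
          map_mul, map_mul, MonoidHom.mem_ker.1 ht', mul_one, map_inv, mul_inv_cancel]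
      rw [show (⟨v, D.V_le_X hvV⟩ : ↥D.X) = ⟨((⟨v, hVY hvV⟩ : ↥Y) : G), hYX (hVY hvV)⟩ from rfl, hπY, hqk] at h1
      have hodd' : Odd (orderOf (⟨v, hVY hvV⟩ : ↥Y)) :=
        CfsgLib.odd_card_oddCore.of_dvd_nat (Subgroup.orderOf_dvd_natCard _ h1)
      rw [Subgroup.orderOf_mk, show orderOf v = 2 from by
        rw [hv, ← hto]; exact (MulAut.conj g).orderOf_eq t] at hodd'
      exact absurd hodd' (by decide)
    have hWX : W ≤ D.X := map_subtype_le _
    have hVN : D.c.V ≤ normalizer (W : Set G) := fun v hv => mem_normalizer_of_conj (by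
      rintro _ ⟨w, hw, rfl⟩
      exact ⟨⟨v, D.V_le_X hv⟩ * w * ⟨v, D.V_le_X hv⟩⁻¹, (MonoidHom.normal_ker π).conj_mem w hw _, rfl⟩)
    have hcop : (Nat.card ↥D.c.V).Coprime (Nat.card ↥W) := by
      rw [IsKleinFour.card_four]
      exact (Nat.coprime_two_left.2 hker).pow_left 2
    haveI := (show IsPGroup 2 ↥D.c.V from D.c.S.2.to_le D.c.V_le_S).isNilpotent
    obtain ⟨R₀, hR₀⟩ := CfsgLib.coprime_exists_invariant_sylow hVN hcop (Or.inl inferInstance) 3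
    set R := (R₀ : Subgroup ↥W).map W.subtype with hR
    have hRW : R ≤ W := map_subtype_le _
    have hRp : IsPGroup 3 ↥R := R₀.2.map _
    have hcopR : (Nat.card ↥D.c.V).Coprime (Nat.card ↥R) := hcop.coprime_dvd_right (card_dvd_of_le hRW)
    have hRm : R ≤ zpowers D.m := by
      rw [← CfsgLib.coprime_generated_by_centralizers (K := R) IsKleinFour.not_isCyclic hR₀ hcopR]
      refine iSup₂_le fun v hv w hw => ?_
      obtain ⟨k, hk⟩ := hRp ⟨w, hw.1⟩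
      exact D.three_fixed (D.mem_X.1 (hWX (hRW hw.1))) hv.1 hv.2 (mem_centralizer_singleton_iff.1 hw.2)
        (congrArg Subtype.val hk)
    intro x k hk hx
    have hxW : (x : G) ∈ W := ⟨x, hx, rfl⟩
    obtain ⟨R₁, hR₁⟩ := (show IsPGroup 3 ↥(zpowers (⟨(x : G), hxW⟩ : ↥W)) from by
      obtain ⟨j, -, hj⟩ := (Nat.dvd_prime_pow Nat.prime_three).1 (orderOf_dvd_of_pow_eq_one (Subtype.ext (by
        rw [SubmonoidClass.coe_pow]; exact congrArg Subtype.val hk) : (⟨(x : G), hxW⟩ : ↥W) ^ 3 ^ k = 1))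
      exact IsPGroup.of_card (n := j) (by rw [Nat.card_zpowers, hj])).exists_le_sylow
    obtain ⟨g, hg⟩ := MulAction.exists_smul_eq ↥W R₁ R₀
    have hgx : (g : G) * x * (g : G)⁻¹ ∈ zpowers D.m := by
      refine hRm ⟨g * ⟨x, hxW⟩ * g⁻¹, ?_, rfl⟩
      rw [← hg, Sylow.coe_subgroup_smul]
      exact ⟨_, hR₁ (mem_zpowers _), rfl⟩
    obtain ⟨i, hi⟩ := hgx
    refine ⟨i, Subtype.ext ?_⟩
    show ((mX ^ i : ↥D.X) : G) = x
    rw [SubgroupClass.coe_zpow]
    show D.m ^ i = x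
    have hc : Commute (g : G) (D.m ^ i) := (show Commute (g : G) D.m from D.mem_X.1 (hWX g.2)).zpow_right i
    calc D.m ^ i = (g : G)⁻¹ * ((g : G) * D.m ^ i) := by group
      _ = (g : G)⁻¹ * (D.m ^ i * g) := by rw [hc.eq]
      _ = x := by rw [show D.m ^ i = (g : G) * x * (g : G)⁻¹ from hi]; group
  -- shifts
  have hmord : orderOf mX = 3 := by rw [← Subgroup.orderOf_coe]; exact D.orderOf_m
  have hmcent : ∀ x : ↥D.X, mX * x = x * mX := fun x => Subtype.ext (D.mem_X.1 x.2).symm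
  have hmc' : ∀ c ∈ zpowers mX, ∀ x : ↥D.X, c * x = x * c := by
    rintro _ ⟨i, rfl⟩ x; exact ((show Commute mX x from hmcent x).zpow_left i).eq
  have hshift : ∀ P : Subgroup ↥D.X, mX ∈ P → ∀ φ : ↥D.X → ↥D.X, (∀ a ∈ P, ∀ b ∈ P, φ (a * b) = φ a * φ b) →
      (∀ a ∈ P, φ a ∈ zpowers mX) → φ mX = 1 → ∀ n : ↥D.X, (∀ a ∈ P, n⁻¹ * a * n ∈ P) →
      ∃ g : ↥D.X, ∀ a ∈ P, g * a * g⁻¹ = a * φ a * (φ (n⁻¹ * a * n))⁻¹ := by
    intro P hmP φ hmul hval hφm n hn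
    set U := P.map D.X.subtype with hU
    let eU : ↥P ≃* ↥U := P.equivMapOfInjective D.X.subtype D.X.subtype_injective
    have hφz : ∀ c ∈ zpowers mX, φ c = 1 := by
      intro c hc
      obtain ⟨j, rfl⟩ := exists_npow hc
      induction j with
      | zero =>
        rw [pow_zero]
        have := hmul 1 (one_mem P) 1 (one_mem P)
        rw [mul_one] at this
        exact left_eq_mul.1 this
      | succ j ih => rw [pow_succ, hmul _ (pow_mem hmP j) _ hmP, ih (pow_mem (mem_zpowers _) j), hφm, one_mul]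
    have hφinv : ∀ a ∈ P, φ a⁻¹ = (φ a)⁻¹ := fun a ha => by
      refine eq_inv_of_mul_eq_one_left ?_
      rw [← hmul _ (inv_mem ha) _ ha, inv_mul_cancel, hφz 1 (one_mem _)]
    have hzP : ∀ c ∈ zpowers mX, c ∈ P := fun c hc => zpowers_le.2 hmP hc
    let α : ↥P ≃* ↥P :=
      { toFun := fun a => ⟨a * φ a, mul_mem a.2 (hzP _ (hval a a.2))⟩
        invFun := fun a => ⟨a * (φ a)⁻¹, mul_mem a.2 (inv_mem (hzP _ (hval a a.2)))⟩
        left_inv := fun a => Subtype.ext (by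
          show (a : ↥D.X) * φ a * (φ ((a : ↥D.X) * φ a))⁻¹ = a
          rw [hmul _ a.2 _ (hzP _ (hval a a.2)), hφz _ (hval a a.2), mul_one, mul_inv_cancel_right])
        right_inv := fun a => Subtype.ext (by
          show (a : ↥D.X) * (φ a)⁻¹ * φ ((a : ↥D.X) * (φ a)⁻¹) = a
          rw [hmul _ a.2 _ (inv_mem (hzP _ (hval a a.2))), hφz _ (inv_mem (hval a a.2)), mul_one,
            inv_mul_cancel_right])
        map_mul' := fun a b => Subtype.ext (by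
          show (a : ↥D.X) * b * φ ((a : ↥D.X) * b) = (a : ↥D.X) * φ a * ((b : ↥D.X) * φ b)
          rw [hmul _ a.2 _ b.2, mul_assoc (a : ↥D.X) (φ a), ← mul_assoc (φ a) (b : ↥D.X), hmc' _ (hval a a.2) b]
          group) }
    let αU : ↥U ≃* ↥U := (eU.symm.trans α).trans eU
    have hnN : (n : G) ∈ normalizer (U : Set G) := by
      refine inv_mem_iff.1 (mem_normalizer_of_conj ?_)
      rintro _ ⟨a, ha, rfl⟩
      exact ⟨n⁻¹ * a * n, hn a ha, by simp [mul_assoc]⟩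
    set cn : ↥U ≃* ↥U := U.normalizerMonoidHom ⟨n, hnN⟩ with hcn
    have hcn_mem : cn ∈ autz U := by rw [autz_eq_range]; exact ⟨_, rfl⟩
    have hmem : αU * cn * αU⁻¹ * cn⁻¹ ∈ autz U :=
      mul_mem ((D.c.hom.autz_normal U).conj_mem cn hcn_mem αU) (inv_mem hcn_mem)
    obtain ⟨g, hg⟩ := hmem
    have key : ∀ a ∈ P, g * ((a : ↥D.X) : G) * g⁻¹ = ((a * φ a * (φ (n⁻¹ * a * n))⁻¹ : ↥D.X) : G) := by
      intro a ha
      have h1 := hg ⟨(a : G), a, ha, rfl⟩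
      refine h1.trans ?_
      have hw : n⁻¹ * a * n ∈ P := hn a ha
      have e1 : cn⁻¹ ⟨(a : G), a, ha, rfl⟩ = eU ⟨_, hw⟩ := by
        refine cn.injective ((cn.apply_symm_apply _).trans (Subtype.ext ?_))
        show (a : G) = (n : G) * ((n⁻¹ * a * n : ↥D.X) : G) * (n : G)⁻¹
        simp [mul_assoc]
      have e2 : αU⁻¹ (eU ⟨_, hw⟩) = eU (α.symm ⟨_, hw⟩) := by
        show eU (α.symm (eU.symm (eU ⟨_, hw⟩))) = _
        rw [eU.symm_apply_apply]
      set w := n⁻¹ * a * n with hwdef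
      have hmid : n * (w * (φ w)⁻¹) * n⁻¹ = a * (φ w)⁻¹ := by
        rw [← mul_assoc n, mul_assoc (n * w), hmc' _ (inv_mem (hval w hw)) n⁻¹, ← mul_assoc, hwdef]
        group
      have hmidP : a * (φ w)⁻¹ ∈ P := mul_mem ha (inv_mem (hzP _ (hval w hw)))
      have e3 : cn (eU (α.symm ⟨_, hw⟩)) = eU ⟨_, hmidP⟩ := Subtype.ext (by
        show (n : G) * ((w * (φ w)⁻¹ : ↥D.X) : G) * (n : G)⁻¹ = ((a * (φ w)⁻¹ : ↥D.X) : G)
        rw [← hmid]
        rfl)
      show ((αU (cn (αU⁻¹ (cn⁻¹ ⟨(a : G), a, ha, rfl⟩))) : ↥U) : G) = _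
      rw [e1, e2, e3]
      show ((eU (α (eU.symm (eU ⟨_, hmidP⟩))) : ↥U) : G) = _
      rw [eU.symm_apply_apply]
      show ((a * (φ w)⁻¹ * φ (a * (φ w)⁻¹) : ↥D.X) : G) = _
      congr 1
      rw [hmul _ ha _ (inv_mem (hzP _ (hval w hw))), hφz _ (inv_mem (hval w hw)), mul_one, mul_assoc,
        hmc' _ (inv_mem (hval w hw)) (φ a), ← mul_assoc]
    have hgX : g ∈ D.X := by
      refine D.mem_X.2 (mul_inv_eq_iff_eq_mul.1 ?_)
      have h1 := key mX hmP
      rw [hφm, hφz _ (by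
        rw [mul_assoc, hmcent n, inv_mul_cancel_left]
        exact mem_zpowers _), inv_one, mul_one, mul_one] at h1
      exact h1
    exact ⟨⟨g, hgX⟩, fun a ha => Subtype.ext (key a ha)⟩
  exact (⟨π, fun t => by
      obtain ⟨a, ha⟩ := hqs t
      exact ⟨_, (hπY a).trans ha⟩, mX, hmcent, hmord, hπm, hker3, hshift⟩ :
    Shift.Hyp ↥D.X F).false' hodd (by omega) h8P

/-- The centraliser of the element of order three. -/
theorem cent_m_data : (∀ u ∈ D.O, u = 1) ∧ Nat.card ↥D.X = 36 ∧ ∀ x ∈ D.X, ∀ v ∈ D.c.V, x * v * x⁻¹ ∈ D.c.V := by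
  rcases D.dichotomy with ⟨W, h1, h2, h3, h4⟩ | ⟨Y, h1, h2, h3, h4⟩
  · exact D.core_trivial h1 h2 h3 h4
  · exact (D.perfect_false h1 h2 h3 h4).elim

end Five

end CfsgLib.Homogeneous.SD
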