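import Cfsg.Agent.Lib.Homogeneous.Scalar
import Cfsg.Agent.Lib.Homogeneous.Fixed
import Cfsg.Agent.Lib.Homogeneous.SD.Semi

/-!
Scalar automizers in homogeneous groups with semidihedral Sylow 2-subgroups, and the consequences for odd
`p`-subgroups centralised by an involution.
-/

set_option autoImplicit false

namespace CfsgLib.Homogeneous.SD

open Cfsg Subgroup Module
open scoped IsMulCommutative commutatorElement

universe u

variable {G : Type u} [Group G] [Finite G]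

theorem exists_conj_le (S : Sylow 2 G) {T : Subgroup G} (hT : IsPGroup 2 T) :
    ∃ g : G, ∀ x ∈ T, g * x * g⁻¹ ∈ (S : Subgroup G) := by
  haveI := Fact.mk Nat.prime_two
  obtain ⟨P, hP⟩ := hT.exists_le_sylow
  obtain ⟨g, hg⟩ := MulAction.exists_smul_eq G P S
  exact ⟨g, fun x hx => by rw [← hg, Sylow.coe_subgroup_smul]; exact ⟨x, hP hx, rfl⟩⟩

theorem zpowers_two (i : G) {k : ℕ} (h : i ^ 2 ^ k = 1) : IsPGroup 2 (zpowers i) := by
  haveI := Fact.mk Nat.prime_two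
  obtain ⟨j, -, hj⟩ := (Nat.dvd_prime_pow Nat.prime_two).1 (orderOf_dvd_of_pow_eq_one h)
  exact IsPGroup.of_card (n := j) (by rw [Nat.card_zpowers, hj])

theorem mem_normalizer_of_conj {H : Subgroup G} {g : G} (h : ∀ x ∈ H, g * x * g⁻¹ ∈ H) :
    g ∈ normalizer (H : Set G) := by
  have hle : H.map (MulAut.conj g).toMonoidHom ≤ H := by rintro _ ⟨x, hx, rfl⟩; exact h x hx
  have heq := eq_of_le_of_card_ge hle (card_map_of_injective (MulAut.conj g).injective).ge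
  refine mem_normalizer_iff.2 fun x => ⟨h x, fun hx => ?_⟩
  obtain ⟨y, hy, hyx⟩ := heq.ge hx
  obtain rfl : y = x := (MulAut.conj g).injective hyx
  exact hy

/-- An elementary subgroup of odd exponent centralised by an involution has scalar automizer. -/
theorem scalar_of_cent (h : Hom G) (S : Sylow 2 G) (hS : IsQuasiDihedral (S : Subgroup G)) {p : ℕ} [Fact p.Prime]
    (hp2 : p ≠ 2) {E : Subgroup G} [IsMulCommutative ↥E] (hexp : ∀ a ∈ E, a ^ p = 1) {i : G} (hi : orderOf i = 2)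
    (hiE : i ∈ centralizer (E : Set G)) {g : G} (hg : g ∈ normalizer (E : Set G)) :
    ∃ k : ℕ, ∀ e ∈ E, g * e * g⁻¹ = e ^ k := by
  haveI := Fact.mk Nat.prime_two
  letI := elemModule (p := p) hexp
  haveI : Finite (Additive ↥E) := inferInstanceAs (Finite ↥E)
  haveI : FiniteDimensional (ZMod p) (Additive ↥E) := Module.Finite.of_finite
  have hs : ∀ f ∈ autzLin p E, Lin.IsScalar f := by
    by_cases hr : p ^ 2 ∣ Nat.card ↥E
    · refine (h.scalar_or_quaternion hp2 E hr).resolve_right ?_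
      rintro ⟨T, hT, hTN, a, ha, b, hb, ha2, -, hb2, hab⟩
      set N := normalizer (E : Set G)
      obtain ⟨P, hP⟩ := (hT.comap_subtype (K := N)).exists_le_sylow
      have hiN : i ∈ N := mem_normalizer_of_conj fun x hx => by
        rw [← mem_centralizer_iff.1 hiE x hx, mul_inv_cancel_right]; exact hx
      obtain ⟨P', hP'⟩ := ((zpowers_two i (k := 1) (by rw [pow_one, ← hi, pow_orderOf_eq_one])).comap_subtype
        (K := N)).exists_le_sylow
      obtain ⟨y, hy⟩ := MulAction.exists_smul_eq N P' P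
      have hyP : y * ⟨i, hiN⟩ * y⁻¹ ∈ (P : Subgroup N) := by
        rw [← hy, Sylow.coe_subgroup_smul]
        exact ⟨_, hP' (mem_zpowers i), rfl⟩
      have hyC : (y : G) * i * (y : G)⁻¹ ∈ centralizer (E : Set G) := mem_centralizer_iff.2 fun e he => by
        have h1 := mem_centralizer_iff.1 hiE _ ((mem_normalizer_iff''.1 y.2 e).1 he)
        calc e * ((y : G) * i * (y : G)⁻¹) = (y : G) * ((y : G)⁻¹ * e * y * i) * (y : G)⁻¹ := by group
          _ = _ := by rw [h1]; group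
      obtain ⟨g₀, hg₀⟩ := exists_conj_le S (P.2.map N.subtype)
      have hmem : ∀ x : N, x ∈ (P : Subgroup N) → g₀ * (x : G) * g₀⁻¹ ∈ (S : Subgroup G) :=
        fun x hx => hg₀ _ ⟨x, hx, rfl⟩
      let a' : N := ⟨a, hTN ha⟩
      let b' : N := ⟨b, hTN hb⟩
      have haP : a' ∈ (P : Subgroup N) := hP ha
      have hbP : b' ∈ (P : Subgroup N) := hP hb
      obtain ⟨n, -, -, d, -⟩ := CfsgLib.QD.exists_data hS
      let C' : Subgroup G := (centralizer (E : Set G)).map (MulAut.conj g₀).toMonoidHom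
      let T' : Subgroup (S : Subgroup G) :=
        (((P : Subgroup N).map N.subtype ⊓ centralizer (E : Set G)).map (MulAut.conj g₀).toMonoidHom).subgroupOf S
      have hT' : ∀ x : N, x ∈ (P : Subgroup N) → ∀ hx : g₀ * (x : G) * g₀⁻¹ ∈ (S : Subgroup G),
          ((⟨_, hx⟩ : (S : Subgroup G)) ∈ T' ↔ (x : G) ∈ centralizer (E : Set G)) := fun x hxP hx => by
        refine ⟨fun ⟨w, ⟨_, hw⟩, hwx⟩ => ?_, fun hc => ⟨x, ⟨⟨x, hxP, rfl⟩, hc⟩, rfl⟩⟩
        have e : w = (x : G) := (MulAut.conj g₀).injective hwx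
        exact e ▸ hw
      let A : (S : Subgroup G) := ⟨_, hmem a' haP⟩
      let B : (S : Subgroup G) := ⟨_, hmem b' hbP⟩
      refine no_section d S.2 (T := T') ?_ (a := A) (b := B) ?_ ?_ ?_ ?_
      · intro hbot
        have h1 := (hT' _ hyP (hmem _ hyP)).2 hyC
        rw [hbot, mem_bot] at h1
        have h2 : g₀ * ((y : G) * i * (y : G)⁻¹) * g₀⁻¹ = 1 := congrArg Subtype.val h1
        rw [conj_eq_one_iff, conj_eq_one_iff] at h2
        rw [h2, orderOf_one] at hi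
        omega
      · rintro ⟨t, ht⟩ ⟨w, ⟨⟨w', hw', rfl⟩, hwC⟩, hwt⟩
        have h1 : (A * ⟨t, ht⟩ * A⁻¹ : (S : Subgroup G)) =
            ⟨g₀ * ((a' * w' * a'⁻¹ : N) : G) * g₀⁻¹, hmem _ (mul_mem (mul_mem haP hw') (inv_mem haP))⟩ :=
          Subtype.ext (by
            show g₀ * a * g₀⁻¹ * t * (g₀ * a * g₀⁻¹)⁻¹ = g₀ * (a * (w' : G) * a⁻¹) * g₀⁻¹
            rw [← show g₀ * (w' : G) * g₀⁻¹ = t from hwt]
            group)
        rw [h1, hT' _ (mul_mem (mul_mem haP hw') (inv_mem haP))]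
        refine mem_centralizer_iff.2 fun e he => ?_
        have h2 := mem_centralizer_iff.1 hwC _ ((mem_normalizer_iff''.1 (hTN ha) e).1 he)
        show e * (a * (w' : G) * a⁻¹) = a * (w' : G) * a⁻¹ * e
        calc e * (a * (w' : G) * a⁻¹) = a * (a⁻¹ * e * a * (w' : G)) * a⁻¹ := by group
          _ = _ := by rw [show a⁻¹ * e * a * (w' : G) = (w' : G) * (a⁻¹ * e * a) from h2]; group
      · intro hc
        have h1 : (A * A : (S : Subgroup G)) = ⟨g₀ * ((a' * a' : N) : G) * g₀⁻¹, hmem _ (mul_mem haP haP)⟩ :=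
          Subtype.ext (by show g₀ * a * g₀⁻¹ * (g₀ * a * g₀⁻¹) = g₀ * (a * a) * g₀⁻¹; group)
        rw [h1, hT' _ (mul_mem haP haP)] at hc
        exact ha2 hc
      · have hm := mul_mem (mul_mem hbP hbP) (inv_mem (mul_mem haP haP))
        have h1 : (B * B * (A * A)⁻¹ : (S : Subgroup G)) = ⟨g₀ * ((b' * b' * (a' * a')⁻¹ : N) : G) * g₀⁻¹, hmem _ hm⟩ :=
          Subtype.ext (by
            show g₀ * b * g₀⁻¹ * (g₀ * b * g₀⁻¹) * (g₀ * a * g₀⁻¹ * (g₀ * a * g₀⁻¹))⁻¹ =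
              g₀ * (b * b * (a * a)⁻¹) * g₀⁻¹
            group)
        rw [h1, hT' _ hm]
        exact hb2
      · have hm := mul_mem (mul_mem (mul_mem haP hbP) (inv_mem haP)) hbP
        have h1 : (A * B * A⁻¹ * B : (S : Subgroup G)) = ⟨g₀ * ((a' * b' * a'⁻¹ * b' : N) : G) * g₀⁻¹, hmem _ hm⟩ :=
          Subtype.ext (by
            show g₀ * a * g₀⁻¹ * (g₀ * b * g₀⁻¹) * (g₀ * a * g₀⁻¹)⁻¹ * (g₀ * b * g₀⁻¹) =
              g₀ * (a * b * a⁻¹ * b) * g₀⁻¹
            group)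
        rw [h1, hT' _ hm]
        exact hab
    · intro f _
      by_contra hf
      obtain ⟨v, hv⟩ := Lin.exists_li hf
      have h2 : Fintype.card (Fin 2) ≤ finrank (ZMod p) (Additive ↥E) :=
        (by convert @LinearIndependent.fintype_card_le_finrank (ZMod p) (Additive ↥E) _ _ _ _ _ _ _ _ hv)
      rw [Fintype.card_fin] at h2
      exact hr (by rw [card_eq (p := p) (E := E)]; exact pow_dvd_pow p h2)
  obtain ⟨k, hk⟩ := scalar_pow (hs _ (linOf_mem ⟨g, hg⟩))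
  refine ⟨k, fun e he => ?_⟩
  have h1 := congrArg Subtype.val (hk ⟨e, he⟩)
  rw [linOf_apply, SubmonoidClass.coe_pow] at h1
  exact h1

/-- The same for a subgroup given by commuting generators. -/
theorem scalar_pair (h : Hom G) (S : Sylow 2 G) (hS : IsQuasiDihedral (S : Subgroup G)) {p : ℕ} [Fact p.Prime]
    (hp2 : p ≠ 2) {a b : G} (hab : a * b = b * a) (ha : a ^ p = 1) (hb : b ^ p = 1) {i : G} (hi : orderOf i = 2)
    (hia : i * a = a * i) (hib : i * b = b * i) {g : G} (hga : g * a * g⁻¹ ∈ closure {a, b})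
    (hgb : g * b * g⁻¹ ∈ closure {a, b}) :
    ∃ k : ℕ, g * a * g⁻¹ = a ^ k ∧ g * b * g⁻¹ = b ^ k := by
  set E := closure ({a, b} : Set G) with hE
  haveI : IsMulCommutative ↥E := Subgroup.isMulCommutative_closure (by
    rintro x (rfl | rfl) y (rfl | rfl) <;> first | rfl | exact hab | exact hab.symm)
  have hexp : ∀ x ∈ E, x ^ p = 1 := by
    intro x hx
    induction hx using closure_induction with
    | mem x hx => rcases hx with rfl | rfl; exacts [ha, hb]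
    | one => exact one_pow _
    | mul x y hx hy ihx ihy =>
      rw [(show Commute x y from congrArg Subtype.val (mul_comm' (⟨x, hx⟩ : ↥E) ⟨y, hy⟩)).mul_pow, ihx, ihy, one_mul]
    | inv x _ ih => rw [inv_pow, ih, inv_one]
  have hiE : i ∈ centralizer (E : Set G) := by
    rw [hE, centralizer_closure]
    exact mem_centralizer_iff.2 (by rintro x (rfl | rfl); exacts [hia.symm, hib.symm])
  have hgE : g ∈ normalizer (E : Set G) := mem_normalizer_of_conj fun x hx => by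
    induction hx using closure_induction with
    | mem x hx => rcases hx with rfl | rfl; exacts [hga, hgb]
    | one => rw [mul_one, mul_inv_cancel]; exact one_mem _
    | mul x y _ _ ihx ihy => rw [show g * (x * y) * g⁻¹ = g * x * g⁻¹ * (g * y * g⁻¹) by group]; exact mul_mem ihx ihy
    | inv x _ ih => rw [show g * x⁻¹ * g⁻¹ = (g * x * g⁻¹)⁻¹ by group]; exact inv_mem ih
  obtain ⟨k, hk⟩ := scalar_of_cent h S hS hp2 hexp hi hiE hgE
  exact ⟨k, hk a (subset_closure (Or.inl rfl)), hk b (subset_closure (Or.inr rfl))⟩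

theorem exists_npow {x y : G} (h : y ∈ zpowers x) : ∃ k : ℕ, x ^ k = y :=
  Submonoid.mem_powers_iff _ _ |>.mp ((isOfFinOrder_of_finite x).mem_powers_iff_mem_zpowers.mpr h)

/-- A square root of the identity on an odd subgroup centralised by an involution, fixing one central element of
prime order, is the identity. -/
theorem fixes_of_sq (h : Hom G) (S : Sylow 2 G) (hS : IsQuasiDihedral (S : Subgroup G)) {p : ℕ} [Fact p.Prime]
    (hp2 : p ≠ 2) {R : Subgroup G} (hR : IsPGroup p R) {i : G} (hi : orderOf i = 2) (hiR : i ∈ centralizer (R : Set G))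
    {g : G} (hg : g ∈ normalizer (R : Set G)) (hg2 : ∀ x ∈ R, g * (g * x * g⁻¹) * g⁻¹ = x)
    {z₀ : G} (hz0 : z₀ ∈ R) (hz1 : z₀ ≠ 1) (hzp : z₀ ^ p = 1) (hzc : ∀ x ∈ R, z₀ * x = x * z₀)
    (hfix : g * z₀ * g⁻¹ = z₀) : ∀ x ∈ R, g * x * g⁻¹ = x := by
  intro y hy
  by_contra hne
  set x := y⁻¹ * (g * y * g⁻¹) with hx
  have hxR : x ∈ R := mul_mem (inv_mem hy) ((mem_normalizer_iff.1 hg y).1 hy)
  have hx1 : x ≠ 1 := fun e => hne (inv_mul_eq_one.1 e).symm
  have hxi : g * x * g⁻¹ = x⁻¹ := by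
    calc g * x * g⁻¹ = (g * y * g⁻¹)⁻¹ * (g * (g * y * g⁻¹) * g⁻¹) := by rw [hx]; group
      _ = x⁻¹ := by rw [hg2 y hy, hx]; group
  obtain ⟨x₀, hx0R, hx01, hx0p, hx0i⟩ : ∃ x₀ ∈ R, x₀ ≠ 1 ∧ x₀ ^ p = 1 ∧ g * x₀ * g⁻¹ = x₀⁻¹ := by
    obtain ⟨n, hn⟩ := hR ⟨x, hxR⟩
    have hn' : x ^ p ^ n = 1 := congrArg Subtype.val hn
    obtain ⟨j, -, hj⟩ := (Nat.dvd_prime_pow (Fact.out : p.Prime)).1 (orderOf_dvd_of_pow_eq_one hn')
    have hj0 : j ≠ 0 := fun e => hx1 (by rwa [e, pow_zero, orderOf_eq_one_iff] at hj)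
    refine ⟨x ^ p ^ (j - 1), pow_mem hxR _, fun e => ?_, ?_, ?_⟩
    · have h1 := orderOf_dvd_of_pow_eq_one e
      rw [hj] at h1
      have := Nat.pow_dvd_pow_iff_le_right (Fact.out : p.Prime).one_lt |>.1 h1
      omega
    · rw [← pow_mul, ← pow_succ, show j - 1 + 1 = j by omega, ← hj, pow_orderOf_eq_one]
    · rw [← conj_pow, hxi, inv_pow]
  obtain ⟨k, hk1, hk2⟩ := scalar_pair h S hS hp2 (hzc x₀ hx0R) hzp hx0p hi
    (mem_centralizer_iff.1 hiR z₀ hz0).symm (mem_centralizer_iff.1 hiR x₀ hx0R).symm (g := g)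
    (by rw [hfix]; exact subset_closure (Or.inl rfl)) (by rw [hx0i]; exact inv_mem (subset_closure (Or.inr rfl)))
  rw [hfix] at hk1
  rw [hx0i] at hk2
  have hmod : 1 ≡ k [MOD p] := by
    rw [← orderOf_eq_prime hzp hz1, ← pow_eq_pow_iff_modEq, pow_one]; exact hk1
  have h2 : x₀ ^ k = x₀ := by
    conv_rhs => rw [← pow_one x₀]
    rw [pow_eq_pow_iff_modEq, orderOf_eq_prime hx0p hx01]
    exact hmod.symm
  rw [h2] at hk2
  have h3 : x₀ ^ 2 = 1 := by rw [pow_two]; nth_rewrite 1 [← hk2]; rw [inv_mul_cancel]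
  have h4 := orderOf_dvd_of_pow_eq_one h3
  rw [orderOf_eq_prime hx0p hx01, Nat.prime_dvd_prime_iff_eq (Fact.out : p.Prime) Nat.prime_two] at h4
  exact hp2 h4

/-- The elements of order `p` in the centre. -/
def omegaZ (p : ℕ) (R : Subgroup G) : Subgroup G where
  carrier := {x | x ∈ R ∧ (∀ y ∈ R, x * y = y * x) ∧ x ^ p = 1}
  one_mem' := ⟨one_mem _, fun y _ => by simp, one_pow _⟩
  mul_mem' := fun {a b} ha hb => ⟨mul_mem ha.1 hb.1,
    fun y hy => ((show Commute a y from ha.2.1 y hy).mul_left (hb.2.1 y hy)).eq,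
    by rw [(show Commute a b from ha.2.1 b hb.1).mul_pow, ha.2.2, hb.2.2, one_mul]⟩
  inv_mem' := fun {a} ha => ⟨inv_mem ha.1, fun y hy => (show Commute a y from ha.2.1 y hy).inv_left.eq,
    by rw [inv_pow, ha.2.2, inv_one]⟩

theorem exists_omegaZ {p : ℕ} [Fact p.Prime] {R : Subgroup G} (hR : IsPGroup p R) (h1 : R ≠ ⊥) :
    ∃ z₀ ∈ omegaZ p R, z₀ ≠ 1 := by
  haveI : Nontrivial R := (nontrivial_iff_ne_bot R).2 h1
  haveI := hR.center_nontrivial
  obtain ⟨k, hk, hc⟩ := (hR.to_subgroup (center R)).nontrivial_iff_card.1 inferInstance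
  obtain ⟨z, hz⟩ := exists_prime_orderOf_dvd_card' (G := center R) p (hc ▸ dvd_pow_self p (by omega))
  refine ⟨((z : R) : G), ⟨(z : R).2, fun y hy => ?_, ?_⟩, fun e => ?_⟩
  · exact congrArg Subtype.val (mem_center_iff.1 z.2 ⟨y, hy⟩).symm
  · rw [← SubmonoidClass.coe_pow, ← SubmonoidClass.coe_pow, ← hz, pow_orderOf_eq_one]; rfl
  · have : z = 1 := Subtype.ext (Subtype.ext e)
    rw [this, orderOf_one] at hz
    exact (Fact.out : p.Prime).one_lt.ne hz

theorem normalizer_le_omegaZ {p : ℕ} (R : Subgroup G) :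
    normalizer (R : Set G) ≤ normalizer (omegaZ p R : Set G) := fun g hg =>
  mem_normalizer_of_conj fun x ⟨hx, hxc, hxp⟩ => ⟨(mem_normalizer_iff.1 hg x).1 hx, fun y hy => by
    have h1 := hxc _ ((mem_normalizer_iff''.1 hg y).1 hy)
    calc g * x * g⁻¹ * y = g * (x * (g⁻¹ * y * g)) * g⁻¹ := by group
      _ = _ := by rw [h1]; group, by rw [conj_pow, hxp, mul_one, mul_inv_cancel]⟩

theorem pow_conj {o x : G} {k : ℕ} (h : o * x * o⁻¹ = x ^ k) (m : ℕ) :
    o ^ m * x * (o ^ m)⁻¹ = x ^ k ^ m := by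
  induction m with
  | zero => simp
  | succ m ih =>
    calc o ^ (m + 1) * x * (o ^ (m + 1))⁻¹ = o * (o ^ m * x * (o ^ m)⁻¹) * o⁻¹ := by rw [pow_succ']; group
      _ = (o * x * o⁻¹) ^ k ^ m := by rw [ih, conj_pow]
      _ = x ^ k ^ (m + 1) := by rw [h, ← pow_mul, pow_succ']

/-- A 2-element congruent to an odd element modulo the derived group fixes the central elements of prime order. -/
theorem derived_fix (h : Hom G) (S : Sylow 2 G) (hS : IsQuasiDihedral (S : Subgroup G)) {p : ℕ} [Fact p.Prime]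
    (hp2 : p ≠ 2) {R : Subgroup G} {i : G} (hi : orderOf i = 2) (hiR : i ∈ centralizer (R : Set G))
    {N : Subgroup G} (hN : N ≤ normalizer (R : Set G)) {g c o : G} (hc : c ∈ ⁅N, N⁆) (ho : o ∈ N) (hgco : g = c * o)
    (hodd : Odd (orderOf o)) {j : ℕ} (hg : g ^ 2 ^ j = 1) : ∀ z₀ ∈ omegaZ p R, g * z₀ * g⁻¹ = z₀ := by
  set E := omegaZ p R with hE
  haveI : IsMulCommutative ↥E := ⟨⟨fun a b => Subtype.ext (a.2.2.1 b b.2.1)⟩⟩
  have hsc : ∀ n ∈ N, ∃ k : ℕ, ∀ e ∈ E, n * e * n⁻¹ = e ^ k := fun n hn =>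
    scalar_of_cent h S hS hp2 (fun a (ha : a ∈ omegaZ p R) => ha.2.2) hi
      (mem_centralizer_iff.2 fun a (ha : a ∈ omegaZ p R) => mem_centralizer_iff.1 hiR a ha.1) (normalizer_le_omegaZ R (hN hn))
  have hder : ⁅N, N⁆ ≤ centralizer (E : Set G) := by
    rw [commutator_le]
    intro n₁ h1 n₂ h2
    obtain ⟨k₁, hk₁⟩ := hsc n₁ h1
    obtain ⟨k₂, hk₂⟩ := hsc n₂ h2
    refine mem_centralizer_iff.2 fun e he => ?_
    have hswap : ∀ e ∈ E, n₁ * (n₂ * e * n₂⁻¹) * n₁⁻¹ = n₂ * (n₁ * e * n₁⁻¹) * n₂⁻¹ := fun e he => by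
      rw [hk₂ e he, hk₁ e he, hk₁ _ (pow_mem he _), hk₂ _ (pow_mem he _), ← pow_mul, ← pow_mul, mul_comm k₂]
    have h3 := hswap _ ((mem_normalizer_iff''.1 (normalizer_le_omegaZ R (hN (mul_mem h2 h1)))) e |>.1 he)
    have h5 : n₁ * (n₂ * ((n₂ * n₁)⁻¹ * e * (n₂ * n₁)) * n₂⁻¹) * n₁⁻¹ = ⁅n₁, n₂⁆ * e * ⁅n₁, n₂⁆⁻¹ := by
      rw [commutatorElement_def]; group
    have h6 : n₂ * (n₁ * ((n₂ * n₁)⁻¹ * e * (n₂ * n₁)) * n₁⁻¹) * n₂⁻¹ = e := by group
    rw [h5, h6] at h3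
    exact (mul_inv_eq_iff_eq_mul.1 h3).symm
  intro z₀ hz
  obtain ⟨k, hk⟩ := hsc o ho
  by_cases hz1 : z₀ = 1
  · rw [hz1, mul_one, mul_inv_cancel]
  have hord : orderOf z₀ = p := orderOf_eq_prime hz.2.2 hz1
  have hgk : g * z₀ * g⁻¹ = z₀ ^ k := by
    rw [hgco, show c * o * z₀ * (c * o)⁻¹ = c * (o * z₀ * o⁻¹) * c⁻¹ by group, hk z₀ hz,
      ← mem_centralizer_iff.1 (hder hc) _ (pow_mem hz k), mul_inv_cancel_right]
  have hfix : ∀ (x : G) (n : ℕ), x * z₀ * x⁻¹ = z₀ ^ k → x ^ n = 1 → ((k : ZMod p)) ^ n = ((1 : ℕ) : ZMod p) := by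
    intro x n hx hn
    have e := pow_conj hx n
    rw [hn, one_mul, inv_one, mul_one] at e
    rw [← Nat.cast_pow, ZMod.natCast_eq_natCast_iff, ← hord, ← pow_eq_pow_iff_modEq, ← e, pow_one]
  have e1 := hfix g _ hgk hg
  have e2 := hfix o _ (hk z₀ hz) (pow_orderOf_eq_one o)
  rw [Nat.cast_one] at e1 e2
  have h7 : orderOf (k : ZMod p) = 1 := Nat.eq_one_of_dvd_coprimes
    ((Nat.coprime_two_left.2 hodd).pow_left j) (orderOf_dvd_of_pow_eq_one e1) (orderOf_dvd_of_pow_eq_one e2)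
  rw [orderOf_eq_one_iff, ← Nat.cast_one, ZMod.natCast_eq_natCast_iff, ← hord, ← pow_eq_pow_iff_modEq, pow_one] at h7
  rw [hgk, h7]

end CfsgLib.Homogeneous.SD
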