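import Cfsg.Agent.Lib.Homogeneous.SD.Count
import Cfsg.Agent.Lib.Homogeneous.SD.Search

/-!
The total count of the pairs of involutions: elements of order nine, real elements of order prime to thirty, and the
resulting contradiction.
-/

set_option autoImplicit false
set_option linter.unusedSectionVars false
set_option linter.style.haveILetI false

namespace CfsgLib.Homogeneous.SD

open Cfsg Subgroup

universe u

variable {G : Type u} [Group G] [Finite G]

namespace Five

variable (D : Five G) [IsSimpleGroup G]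
include D

/-- The centraliser of the element of order three when it has a cube root. -/
theorem nine_data {g : G} (hg : g ^ 3 = D.m) :
    orderOf g = 9 ∧ g ∈ D.X ∧
      (∀ v ∈ D.c.V, g * v = v * g → v = 1) ∧ (∀ x ∈ D.X, ∃ i < 9, ∃ v ∈ D.c.V, x = g ^ i * v) := by
  classical
  haveI : Fact (Nat.Prime 3) := ⟨Nat.prime_three⟩
  have h9 : g ^ 9 = 1 := by
    rw [show (9 : ℕ) = 3 * 3 from rfl, pow_mul, hg, ← D.orderOf_m, pow_orderOf_eq_one]
  have ho : orderOf g = 9 := orderOf_eq_prime_pow (p := 3) (n := 1) (by rw [pow_one, hg]; exact D.m_ne_one) h9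
  have hgX : g ∈ D.X := D.mem_X.2 (by rw [← hg]; exact ((Commute.refl g).pow_right 3).eq)
  have hfp : ∀ v ∈ D.c.V, g * v = v * g → v = 1 := by
    intro v hv h
    by_contra hv1
    have h1 : orderOf g ∣ 3 := by
      rw [← D.orderOf_m, ← Nat.card_zpowers D.m]
      exact Subgroup.orderOf_dvd_natCard _ (D.three_fixed (D.mem_X.1 hgX) hv hv1 h (k := 2) h9)
    rw [ho] at h1
    norm_num at h1
  refine ⟨ho, hgX, hfp, fun x hx => ?_⟩
  haveI := D.c.klein_V
  let f : Fin 9 × ↥D.c.V → ↥D.X := fun p => ⟨g ^ (p.1 : ℕ) * p.2, mul_mem (pow_mem hgX _) (D.V_le_X p.2.2)⟩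
  have hinj : Function.Injective f := by
    have key : ∀ i j : Fin 9, (i : ℕ) ≤ j → ∀ a b : ↥D.c.V, g ^ (i : ℕ) * (a : G) = g ^ (j : ℕ) * b → i = j ∧ a = b := by
      intro i j hij a b h
      have h1 : g ^ ((j : ℕ) - i) = (a : G) * (b : G)⁻¹ := by
        rw [eq_mul_inv_iff_mul_eq]
        refine mul_left_cancel (a := g ^ (i : ℕ)) ?_
        rw [← mul_assoc, ← pow_add, show (i : ℕ) + ((j : ℕ) - i) = j by omega, h]
      have hd : g ^ (((j : ℕ) - i) * 2) = 1 := by
        rw [pow_mul, h1, pow_two]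
        exact D.c.V_mul_self (mul_mem a.2 (inv_mem b.2))
      have hdd := orderOf_dvd_of_pow_eq_one hd
      rw [ho] at hdd
      have hji : (j : ℕ) = i := by omega
      obtain rfl : i = j := Fin.ext hji.symm
      exact ⟨rfl, Subtype.ext (mul_left_cancel h)⟩
    rintro ⟨i, a⟩ ⟨j, b⟩ h
    have h' : g ^ (i : ℕ) * (a : G) = g ^ (j : ℕ) * b := congrArg Subtype.val h
    rcases le_total (i : ℕ) j with e | e
    · obtain ⟨rfl, rfl⟩ := key i j e a b h'; rfl
    · obtain ⟨rfl, rfl⟩ := key j i e b a h'.symm; rfl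
  haveI := Fintype.ofFinite ↥D.X
  haveI := Fintype.ofFinite ↥D.c.V
  have hb : Function.Bijective f := (Fintype.bijective_iff_injective_and_card f).2 ⟨hinj, by
    rw [Fintype.card_prod, Fintype.card_fin, ← Nat.card_eq_fintype_card, ← Nat.card_eq_fintype_card,
      IsKleinFour.card_four, D.cent_m_data.2.1]⟩
  obtain ⟨⟨i, v⟩, hv⟩ := hb.2 ⟨x, hx⟩
  exact ⟨i, i.2, v, v.2, (congrArg Subtype.val hv).symm⟩

theorem cube_roots {g₀ : G} (hg : g₀ ^ 3 = D.m) : Nat.card {g : G // g ^ 3 = D.m} = 12 := by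
  classical
  obtain ⟨ho, hgX, hfp, hdec⟩ := D.nine_data hg
  haveI := D.c.klein_V
  haveI := Fintype.ofFinite ↥D.c.V
  have hV : ∀ x ∈ D.X, ∀ v ∈ D.c.V, x * v * x⁻¹ ∈ D.c.V := D.cent_m_data.2.2
  have hcube : ∀ i : ℕ, ∀ v ∈ D.c.V, ∃ w ∈ D.c.V, (g₀ ^ i * v) ^ 3 = g₀ ^ (3 * i) * w := by
    intro i v hv
    have hgi : g₀ ^ i ∈ D.X := pow_mem hgX i
    have key : ∀ n : ℕ, ∃ w ∈ D.c.V, (g₀ ^ i * v) ^ n = g₀ ^ (n * i) * w := by
      intro n
      induction n with
      | zero => exact ⟨1, one_mem _, by simp⟩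
      | succ n ih =>
        obtain ⟨w, hw, hwe⟩ := ih
        refine ⟨(g₀ ^ i)⁻¹ * w * g₀ ^ i * v, mul_mem (by
          have := hV _ (inv_mem hgi) w hw
          rwa [inv_inv] at this) hv, ?_⟩
        rw [pow_succ, hwe, add_mul, one_mul, pow_add]
        group
    exact key 3
  have hfix : ∀ i : ℕ, i % 3 = 1 → ∀ v ∈ D.c.V, ∀ w ∈ D.c.V, (g₀ ^ i * v) ^ 3 = g₀ ^ (3 * i) * w → w = 1 := by
    intro i hi v hv w hw h
    have e3 : g₀ ^ (3 * i) = D.m ^ i := by rw [pow_mul, hg]
    have hc1 : Commute (g₀ ^ i * v) w := by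
      have h1 : Commute (g₀ ^ i * v) (g₀ ^ (3 * i) * w) := h ▸ (Commute.refl _).pow_right 3
      have h2 : Commute (g₀ ^ i * v) (g₀ ^ (3 * i)) := by
        rw [e3]
        exact ((show Commute (g₀ ^ i) D.m from (show Commute g₀ D.m from D.mem_X.1 hgX).pow_left i).mul_left
          (show Commute v D.m from (D.m_V hv).symm)).pow_right i
      have h3 := h2.inv_right.mul_right h1
      rwa [inv_mul_cancel_left] at h3
    have hc2 : Commute (g₀ ^ i) w := by
      have h1 := hc1.mul_left (show Commute v w from D.c.V_comm hv hw).inv_left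
      rwa [mul_inv_cancel_right] at h1
    have hcop : i.Coprime (orderOf g₀) := by
      rw [ho, show (9 : ℕ) = 3 ^ 2 from rfl]
      exact ((Nat.prime_three.coprime_iff_not_dvd.2 (by omega)).symm).pow_right 2
    obtain ⟨l, hl⟩ := exists_pow_eq_self_of_coprime hcop
    exact hfp w hw (hl ▸ hc2.pow_left l).eq
  let f : {i : Fin 9 // (i : ℕ) % 3 = 1} × ↥D.c.V → {g : G // g ^ 3 = D.m} := fun p =>
    ⟨g₀ ^ (p.1.1 : ℕ) * p.2, by
      obtain ⟨w, hw, hwe⟩ := hcube (p.1.1 : ℕ) _ p.2.2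
      rw [hwe, hfix _ p.1.2 _ p.2.2 w hw hwe, mul_one, pow_mul, hg]
      exact pow_eq_self (by rw [D.orderOf_m]; exact p.1.2)⟩
  have hf : Function.Bijective f := by
    constructor
    · rintro ⟨⟨i, hi⟩, a⟩ ⟨⟨j, hj⟩, b⟩ h
      have h' : g₀ ^ (i : ℕ) * (a : G) = g₀ ^ (j : ℕ) * b := congrArg Subtype.val h
      have hij : (i : ℕ) = j := by
        by_contra hne
        rcases Nat.lt_or_ge (i : ℕ) j with e | e
        · have h1 : g₀ ^ ((j : ℕ) - i) = (a : G) * (b : G)⁻¹ := by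
            rw [eq_mul_inv_iff_mul_eq]
            refine mul_left_cancel (a := g₀ ^ (i : ℕ)) ?_
            rw [← mul_assoc, ← pow_add, show (i : ℕ) + ((j : ℕ) - i) = j by omega, h']
          have hd : g₀ ^ (((j : ℕ) - i) * 2) = 1 := by
            rw [pow_mul, h1, pow_two]
            exact D.c.V_mul_self (mul_mem a.2 (inv_mem b.2))
          have := orderOf_dvd_of_pow_eq_one hd
          rw [ho] at this
          omega
        · have h1 : g₀ ^ ((i : ℕ) - j) = (b : G) * (a : G)⁻¹ := by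
            rw [eq_mul_inv_iff_mul_eq]
            refine mul_left_cancel (a := g₀ ^ (j : ℕ)) ?_
            rw [← mul_assoc, ← pow_add, show (j : ℕ) + ((i : ℕ) - j) = i by omega, h']
          have hd : g₀ ^ (((i : ℕ) - j) * 2) = 1 := by
            rw [pow_mul, h1, pow_two]
            exact D.c.V_mul_self (mul_mem b.2 (inv_mem a.2))
          have := orderOf_dvd_of_pow_eq_one hd
          rw [ho] at this
          omega
      obtain rfl : i = j := Fin.ext hij
      obtain rfl : a = b := Subtype.ext (mul_left_cancel h')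
      rfl
    · rintro ⟨g, hg'⟩
      obtain ⟨i, hi, v, hv, rfl⟩ := hdec g (D.mem_X.2 (by rw [← hg']; exact ((Commute.refl g).pow_right 3).eq))
      obtain ⟨w, hw, hwe⟩ := hcube i v hv
      rw [hwe] at hg'
      have hw2 : g₀ ^ ((3 * i + 6) * 2) = 1 := by
        have e : g₀ ^ (3 * i + 6) = w⁻¹ := by
          refine eq_inv_of_mul_eq_one_left ?_
          rw [pow_add, mul_assoc]
          have hc : Commute (g₀ ^ 6) w := by
            rw [show (6 : ℕ) = 3 * 2 from rfl, pow_mul, hg]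
            exact (show Commute D.m w from D.m_V hw).pow_left 2
          rw [hc.eq, ← mul_assoc, hg', show (6 : ℕ) = 3 * 2 from rfl, pow_mul, hg, ← pow_succ',
            show 2 + 1 = orderOf D.m from D.orderOf_m.symm, pow_orderOf_eq_one]
        rw [pow_mul, e, pow_two]
        exact D.c.V_mul_self (inv_mem hw)
      have := orderOf_dvd_of_pow_eq_one hw2
      rw [ho] at this
      exact ⟨⟨⟨⟨i, hi⟩, show i % 3 = 1 by omega⟩, ⟨v, hv⟩⟩, rfl⟩
  rw [← Nat.card_eq_of_bijective f hf, Nat.card_prod, IsKleinFour.card_four (G := ↥D.c.V),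
    show Nat.card {i : Fin 9 // (i : ℕ) % 3 = 1} = 3 by
      rw [Nat.card_eq_fintype_card, Fintype.card_subtype]; rfl]

theorem invert_nine {g s : G} (hg : g ^ 3 = D.m) (hs : Inverts g s) : Nat.card {t : G // Inverts g t} = 9 := by
  obtain ⟨ho, hgX, hfp, hdec⟩ := D.nine_data hg
  have hss := CfsgLib.Involutions.mul_self_eq_one_of_orderOf hs.1
  have hsi : s⁻¹ = s := inv_eq_of_mul_eq_one_right hss
  let f : Fin 9 → {t : G // Inverts g t} := fun j => ⟨s * g ^ (j : ℕ), by
    have h1 : Inverts g (s * g ^ (j : ℕ)) := by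
      have hsq : s * g ^ (j : ℕ) * (s * g ^ (j : ℕ)) = 1 := by
        calc s * g ^ (j : ℕ) * (s * g ^ (j : ℕ)) = s * g ^ (j : ℕ) * s⁻¹ * g ^ (j : ℕ) := by rw [hsi]; group
          _ = 1 := by rw [← conj_pow, hs.2, inv_pow, inv_mul_cancel]
      refine ⟨orderOf_eq_prime (by rw [pow_two, hsq]) fun e => ?_, ?_⟩
      · have h2 : s = (g ^ (j : ℕ))⁻¹ := eq_inv_of_mul_eq_one_left e
        have h3 : 2 ∣ orderOf g := by
          rw [← hs.1, h2, orderOf_inv]; exact orderOf_pow_dvd _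
        rw [ho] at h3
        norm_num at h3
      · calc s * g ^ (j : ℕ) * g * (s * g ^ (j : ℕ))⁻¹ = s * (g ^ (j : ℕ) * g * (g ^ (j : ℕ))⁻¹) * s⁻¹ := by group
          _ = _ := by rw [((Commute.refl g).pow_left (j : ℕ)).eq, mul_inv_cancel_right, hs.2]
    exact h1⟩
  have hf : Function.Bijective f := by
    constructor
    · intro i j h
      have h' : g ^ (i : ℕ) = g ^ (j : ℕ) := mul_left_cancel (congrArg Subtype.val h)
      rw [pow_eq_pow_iff_modEq, ho] at h'
      exact Fin.ext (by rw [Nat.ModEq, Nat.mod_eq_of_lt i.2, Nat.mod_eq_of_lt j.2] at h'; exact h')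
    · rintro ⟨t, ht⟩
      have htt := CfsgLib.Involutions.mul_self_eq_one_of_orderOf ht.1
      have hc : s * t * g = g * (s * t) := mul_inv_eq_iff_eq_mul.1 (by
        calc s * t * g * (s * t)⁻¹ = s * (t * g * t⁻¹) * s⁻¹ := by group
          _ = (s * g * s⁻¹)⁻¹ := by rw [ht.2]; group
          _ = g := by rw [hs.2, inv_inv])
      obtain ⟨i, hi, v, hv, he⟩ := hdec (s * t) (D.mem_X.2 (by rw [← hg]; exact ((show Commute (s * t) g from hc).pow_right 3).eq))
      have hv1 : v = 1 := hfp v hv (by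
        have h1 : Commute g (g ^ i * v) := he ▸ (show Commute (s * t) g from hc).symm
        have h2 := ((Commute.refl g).pow_right i).inv_right.mul_right h1
        rw [inv_mul_cancel_left] at h2
        exact h2.eq)
      refine ⟨⟨i, hi⟩, Subtype.ext ?_⟩
      show s * g ^ i = t
      rw [hv1, mul_one] at he
      rw [← he, ← mul_assoc, hss, one_mul]
  rw [← Nat.card_eq_of_bijective f hf, Nat.card_fin]

theorem pairs_nine : pairs (fun g : G => orderOf g = 9) = 0 ∨ pairs (fun g : G => orderOf g = 9) = 720 * D.idx := by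
  classical
  by_cases hex : ∃ g s : G, orderOf g = 9 ∧ Inverts g s
  swap
  · exact Or.inl (pairs_zero fun g s hg hs _ => hex ⟨g, s, hg, hs⟩)
  right
  obtain ⟨g, s, hg, hs⟩ := hex
  obtain ⟨k, hk⟩ := D.three_conj (x := g ^ 3) (by
    rw [orderOf_pow, hg]; rfl)
  set g₀ := k⁻¹ * g * k with hg₀
  have h0 : g₀ ^ 3 = D.m := by
    have h := conj_pow (a := k⁻¹) (b := g) (i := 3)
    rw [inv_inv] at h
    rw [hg₀, h, ← hk]
    group
  have hs0 : Inverts g₀ (k⁻¹ * s * k) := by
    have h := hs.conj k⁻¹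
    rwa [inv_inv] at h
  have hT := D.invert_nine h0 hs0
  rw [pairs_uniform (k := 9) (fun a ha => by rw [ha]; decide) fun a ha => ?_]
  swap
  · obtain ⟨φ, hφ⟩ := D.c.hom.exists_map (x := g₀) (y := a) (by rw [ha, (D.nine_data h0).1])
    rw [← hT, ← hφ]
    refine (Nat.card_congr (Equiv.subtypeEquiv φ.toEquiv fun t => ?_)).symm
    show Inverts g₀ t ↔ Inverts (φ g₀) (φ t)
    simp only [Inverts, φ.orderOf_eq, ← map_inv, ← map_mul, φ.injective.eq_iff]
  haveI := Fintype.ofFinite {x : G // orderOf x = 3}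
  have hfib : ∀ x : {x : G // orderOf x = 3}, Nat.card {a : G // a ^ 3 = (x : G)} = 12 := by
    rintro ⟨x, hx⟩
    obtain ⟨l, rfl⟩ := D.three_conj hx
    rw [← D.cube_roots h0]
    refine (Nat.card_congr (Equiv.subtypeEquiv (MulAut.conj l).toEquiv fun a => ?_)).symm
    show a ^ 3 = D.m ↔ (l * a * l⁻¹) ^ 3 = l * D.m * l⁻¹
    rw [conj_pow, mul_left_inj, mul_right_inj]
  have hn : Nat.card {a : G // orderOf a = 9} = Nat.card {x : G // orderOf x = 3} * 12 := by
    let Ψ : (Σ x : {x : G // orderOf x = 3}, {a : G // a ^ 3 = (x : G)}) → {a : G // orderOf a = 9} := fun x =>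
      ⟨x.2.1, by
        haveI : Fact (Nat.Prime 3) := ⟨Nat.prime_three⟩
        have h3 : x.2.1 ^ 3 = (x.1 : G) := x.2.2
        have hx := x.1.2
        refine orderOf_eq_prime_pow (p := 3) (n := 1) ?_ ?_
        · rw [pow_one, h3]
          intro e
          rw [e, orderOf_one] at hx
          omega
        · rw [show 3 ^ (1 + 1) = 3 * 3 from rfl, pow_mul, h3]
          exact orderOf_dvd_iff_pow_eq_one.1 (dvd_of_eq hx)⟩
    have hΨ : Function.Bijective Ψ := by
      constructor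
      · rintro ⟨⟨x, hx⟩, ⟨a, ha⟩⟩ ⟨⟨y, hy⟩, ⟨b, hb⟩⟩ h
        obtain rfl : a = b := congrArg Subtype.val h
        change a ^ 3 = x at ha
        change a ^ 3 = y at hb
        subst ha hb
        rfl
      · rintro ⟨a, ha⟩
        exact ⟨⟨⟨a ^ 3, by rw [orderOf_pow, ha]; rfl⟩, ⟨a, rfl⟩⟩, rfl⟩
    rw [← Nat.card_eq_of_bijective Ψ hΨ, Nat.card_sigma, Finset.sum_congr rfl fun x _ => hfib x, Finset.sum_const,
      smul_eq_mul, Finset.card_univ, Nat.card_eq_fintype_card (α := {x : G // orderOf x = 3})]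
  rw [hn]
  have := D.card_three
  omega

/-- The orders of blocks. -/
theorem pairs_free : ∃ (A : Finset ℕ) (w : ℕ → ℕ), pairs (fun g : G => Free g) = D.idx * ∑ a ∈ A, w a * (a - 1) ∧
    (∀ a ∈ A, Search.Item D.idx a (w a)) ∧ (A : Set ℕ).Pairwise Nat.Coprime ∧
    (A = ∅ → ∀ g s : G, Free g → ¬ Inverts g s) := by
  classical
  haveI := Fintype.ofFinite {M : Subgroup G // D.IsBlock M}
  set A := (Finset.univ : Finset {M : Subgroup G // D.IsBlock M}).image
    (fun M : {M : Subgroup G // D.IsBlock M} => Nat.card ↥M.1) with hA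
  set i := fun a : ℕ => Nat.card {N : Subgroup G // D.IsBlock N ∧ Nat.card ↥N = a} with hi
  set w := fun a : ℕ => i a * a / D.idx with hw
  have hmem : ∀ {a : ℕ}, a ∈ A → ∃ M, D.IsBlock M ∧ Nat.card ↥M = a := by
    intro a ha
    obtain ⟨M, -, rfl⟩ := Finset.mem_image.1 ha
    exact ⟨M.1, M.2, rfl⟩
  have hn0 : 0 < D.idx := Nat.pos_of_ne_zero fun e => by
    have := D.card_G
    rw [e, mul_zero] at this
    exact Nat.card_pos.ne' this
  have hdata : ∀ a ∈ A, i a * a = w a * D.idx ∧ Search.Item D.idx a (w a) := by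
    intro a ha
    obtain ⟨M, hM, hMa⟩ := hmem ha
    obtain ⟨e, he, he2, he240, he5, hmod⟩ := D.block_count ⟨M, hM, hMa⟩
    have ha7 : 7 ≤ a := hMa ▸ D.block_seven hM
    have hac : a.Coprime 30 := hMa ▸ D.block_coprime hM
    obtain ⟨q, hq⟩ := he240
    have he0 : 0 < e := Nat.pos_of_ne_zero fun e0 => by rw [e0] at hq; norm_num at hq
    have hia : i a * a = q * D.idx := by
      refine Nat.eq_of_mul_eq_mul_right he0 ?_
      calc i a * a * e = i a * (a * e) := mul_assoc _ _ _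
        _ = 240 * D.idx := he
        _ = _ := by rw [hq]; ring
    have hwq : w a = q := by
      show i a * a / D.idx = q
      rw [hia, Nat.mul_div_cancel _ hn0]
    refine ⟨by rw [hwq]; exact hia, ?_⟩
    rw [hwq]
    have han : a ∣ D.idx := by
      refine (((hac.pow_right 4).coprime_dvd_right (show 240 ∣ 30 ^ 4 by norm_num))).dvd_of_dvd_mul_left ?_
      rw [← D.card_G, ← hMa]
      exact card_subgroup_dvd_card M
    have hnd : ∀ p : ℕ, p ∣ 30 → 1 < p → a % p ≠ 0 := fun p hp hp1 e => by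
      have := Nat.eq_one_of_dvd_coprimes hac (Nat.dvd_of_mod_eq_zero e) hp
      omega
    refine ⟨ha7, hnd 2 (by norm_num) (by norm_num), hnd 3 (by norm_num) (by norm_num),
      hnd 5 (by norm_num) (by norm_num), ?_, ?_, han, ?_⟩
    · obtain ⟨e', he'⟩ := he2
      exact Dvd.intro_left e' (Nat.eq_of_mul_eq_mul_left (show 0 < 2 by norm_num)
        (show 2 * (e' * q) = 2 * 120 by rw [← mul_assoc, ← he', ← hq]))
    · obtain ⟨l, hl⟩ := he5
      refine ⟨l, Nat.eq_of_mul_eq_mul_left (show 0 < 5 by norm_num) ?_⟩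
      calc 5 * (q * (a - 1)) = q * (5 * (a - 1)) := by ring
        _ = e * q * l := by rw [hl]; ring
        _ = _ := by rw [← hq]; ring
    · obtain ⟨n', hn'⟩ := han
      have hi' : i a = q * n' := by
        refine Nat.eq_of_mul_eq_mul_right (show 0 < a by omega) ?_
        rw [hia, hn']; ring
      rw [hn', Nat.mul_div_cancel_left _ (show 0 < a by omega), ← hi']
      exact hmod
  refine ⟨A, w, ?_, fun a ha => (hdata a ha).2, ?_, ?_⟩
  · let Ψ : (Σ M : {M : Subgroup G // D.IsBlock M}, Σ y : {y : ↥M.1 // y ≠ 1}, {s : G // Inverts ((y : ↥M.1) : G) s}) →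
        {p : G × G // Free p.1 ∧ Inverts p.1 p.2 ∧ p.2 ≠ p.1} := fun x =>
      ⟨(((x.2.1 : ↥x.1.1) : G), (x.2.2 : G)),
        D.block_free x.1.2 (x.2.1 : ↥x.1.1).2 (fun e => x.2.1.2 (Subtype.ext e)), x.2.2.2,
        x.2.2.2.ne (D.block_odd x.1.2 (x.2.1 : ↥x.1.1).2)⟩
    have hΨ : Function.Bijective Ψ := by
      constructor
      · rintro ⟨⟨M, hM⟩, ⟨⟨y, hy⟩, hy1⟩, ⟨s, hs⟩⟩ ⟨⟨N, hN⟩, ⟨⟨y', hy'⟩, hy1'⟩, ⟨s', hs'⟩⟩ h
        have h' := congrArg Subtype.val h
        obtain rfl : y = y' := congrArg Prod.fst h'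
        obtain rfl : s = s' := congrArg Prod.snd h'
        obtain rfl : M = N := D.block_eq hM hN hy hy' fun e => hy1 (Subtype.ext e)
        rfl
      · rintro ⟨⟨g, s⟩, hg, hs, hne⟩
        obtain ⟨M, hM, hgM⟩ := D.exists_block hg hs.1 hs.2
        exact ⟨⟨⟨M, hM⟩, ⟨⟨g, hgM⟩, fun e => hg.1 (congrArg Subtype.val e)⟩, ⟨s, hs⟩⟩, rfl⟩
    have hinner : ∀ M : {M : Subgroup G // D.IsBlock M},
        Nat.card (Σ y : {y : ↥M.1 // y ≠ 1}, {s : G // Inverts ((y : ↥M.1) : G) s}) =
          (Nat.card ↥M.1 - 1) * Nat.card ↥M.1 := by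
      intro M
      haveI := Fintype.ofFinite {y : ↥M.1 // y ≠ 1}
      haveI := Fintype.ofFinite ↥M.1
      rw [Nat.card_sigma, Finset.sum_congr rfl fun (y : {y : ↥M.1 // y ≠ 1}) _ =>
        show Nat.card {s : G // Inverts ((y : ↥M.1) : G) s} = Nat.card ↥M.1 from
          D.block_T M.2 (y : ↥M.1).2 (fun e => y.2 (Subtype.ext e)), Finset.sum_const, smul_eq_mul, Finset.card_univ,
        Fintype.card_subtype_compl, Fintype.card_subtype_eq, Nat.card_eq_fintype_card]
    rw [pairs, ← Nat.card_eq_of_bijective Ψ hΨ, Nat.card_sigma, Finset.sum_congr rfl fun M _ => hinner M,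
      Finset.sum_comp (fun a : ℕ => (a - 1) * a) (fun M : {M : Subgroup G // D.IsBlock M} => Nat.card ↥M.1), ← hA,
      Finset.mul_sum]
    refine Finset.sum_congr rfl fun a ha => ?_
    have hcount : (Finset.univ.filter fun M : {M : Subgroup G // D.IsBlock M} => Nat.card ↥M.1 = a).card = i a := by
      rw [← Fintype.card_subtype, ← Nat.card_eq_fintype_card]
      exact Nat.card_congr (Equiv.subtypeSubtypeEquivSubtypeInter D.IsBlock fun N => Nat.card ↥N = a)
    rw [hcount, smul_eq_mul]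
    calc i a * ((a - 1) * a) = i a * a * (a - 1) := by ring
      _ = _ := by rw [(hdata a ha).1]; ring
  · intro a ha b hb hab
    obtain ⟨M, hM, rfl⟩ := hmem ha
    obtain ⟨N, hN, rfl⟩ := hmem hb
    by_contra h
    obtain ⟨k, rfl⟩ := D.block_conj_of_not_coprime hM hN h
    exact hab (card_map_of_injective (MulAut.conj k).injective).symm
  · intro hA0 g s hg hs
    obtain ⟨M, hM, -⟩ := D.exists_block hg hs.1 hs.2
    have h : Nat.card ↥M ∈ A := Finset.mem_image.2 ⟨⟨M, hM⟩, Finset.mem_univ _, rfl⟩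
    rw [hA0] at h
    exact Finset.notMem_empty _ h

/-- The possible orders of inverted elements of odd order. -/
theorem inverted_cases {g s : G} (hg1 : g ≠ 1) (hodd : ¬ 2 ∣ orderOf g) (hs : Inverts g s) :
    orderOf g = 3 ∨ orderOf g = 9 ∨ Free g := by
  have h5 : ¬ 5 ∣ orderOf g := fun h => by
    refine D.five_not_inverted (x := g ^ (orderOf g / 5)) (orderOf_pow_orderOf_div (orderOf_pos g).ne' h) hs.1 ?_
    rw [← conj_pow, hs.2, inv_pow]
  by_cases h3 : 3 ∣ orderOf g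
  swap
  · exact Or.inr (Or.inr (free_of_not_dvd hg1 hodd h3 h5))
  obtain ⟨k, hk⟩ := D.three_conj (x := g ^ (orderOf g / 3)) (orderOf_pow_orderOf_div (orderOf_pos g).ne' h3)
  have hgX : k⁻¹ * g * k ∈ D.X := D.mem_X.2 (by
    have hc : Commute g (k * D.m * k⁻¹) := hk ▸ (Commute.refl g).pow_right _
    have h := hc.map (MulAut.conj k⁻¹).toMonoidHom
    simp only [MulEquiv.coe_toMonoidHom, MulAut.conj_apply, inv_inv] at h
    rw [show k⁻¹ * (k * D.m * k⁻¹) * k = D.m by group] at h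
    exact h.eq)
  have h1 := Subgroup.orderOf_dvd_natCard D.X hgX
  rw [D.cent_m_data.2.1, show orderOf (k⁻¹ * g * k) = orderOf g by simpa using orderOf_conj k⁻¹ g] at h1
  have h9 : orderOf g ∣ 3 ^ 2 := (((Nat.prime_two.coprime_iff_not_dvd.2 hodd).symm).pow_right 2).dvd_of_dvd_mul_left
    (show orderOf g ∣ 2 ^ 2 * 3 ^ 2 from h1)
  obtain ⟨j, hj, hje⟩ := (Nat.dvd_prime_pow Nat.prime_three).1 h9
  rw [hje] at h3
  interval_cases j
  · norm_num at h3
  · exact Or.inl (by rw [hje, pow_one])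
  · exact Or.inr (Or.inl (by rw [hje]; rfl))

/-- The count is impossible. -/
theorem five_false : False := by
  classical
  obtain ⟨A, w, hA, hitem, hcop, hAe⟩ := D.pairs_free
  have hsum : D.idx * D.idx = D.idx + 260 * D.idx + 120 * D.idx + pairs (fun g : G => orderOf g = 9) +
      pairs (fun g : G => Free g) := by
    rw [← D.pairs_all, pairs_split (fun _ => True) (fun g => g = 1),
      pairs_congr (P := fun g : G => True ∧ g = 1) (Q := fun g => g = 1) (fun g s _ _ => ⟨fun h => h.2, fun h => ⟨trivial, h⟩⟩), D.pairs_one,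
      pairs_split (fun g : G => True ∧ ¬ g = 1) (fun g => 2 ∣ orderOf g),
      pairs_congr (P := fun g : G => (True ∧ ¬ g = 1) ∧ 2 ∣ orderOf g) (Q := fun g => 2 ∣ orderOf g)
        (fun g s _ _ => ⟨fun h => h.2, fun h => ⟨⟨trivial, fun e => by rw [e, orderOf_one] at h; norm_num at h⟩, h⟩⟩),
      D.pairs_even, pairs_split (fun g : G => (True ∧ ¬ g = 1) ∧ ¬ 2 ∣ orderOf g) (fun g => orderOf g = 3),
      pairs_congr (P := fun g : G => ((True ∧ ¬ g = 1) ∧ ¬ 2 ∣ orderOf g) ∧ orderOf g = 3) (Q := fun g => orderOf g = 3)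
        (fun g s _ _ => ⟨fun h => h.2, fun h => ⟨⟨⟨trivial, fun e => by rw [e, orderOf_one] at h; norm_num at h⟩,
          by rw [h]; norm_num⟩, h⟩⟩),
      D.pairs_three, pairs_split (fun g : G => ((True ∧ ¬ g = 1) ∧ ¬ 2 ∣ orderOf g) ∧ ¬ orderOf g = 3)
        (fun g => orderOf g = 9),
      pairs_congr (P := fun g : G => (((True ∧ ¬ g = 1) ∧ ¬ 2 ∣ orderOf g) ∧ ¬ orderOf g = 3) ∧ orderOf g = 9)
        (Q := fun g => orderOf g = 9)
        (fun g s _ _ => ⟨fun h => h.2, fun h => ⟨⟨⟨⟨trivial, fun e => by rw [e, orderOf_one] at h; norm_num at h⟩,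
          by rw [h]; norm_num⟩, by rw [h]; norm_num⟩, h⟩⟩),
      pairs_congr (P := fun g : G => (((True ∧ ¬ g = 1) ∧ ¬ 2 ∣ orderOf g) ∧ ¬ orderOf g = 3) ∧ ¬ orderOf g = 9)
        (Q := fun g => Free g) (fun g s hs _ => ⟨fun ⟨⟨⟨⟨_, h1⟩, h2⟩, h3⟩, h9⟩ =>
          ((D.inverted_cases h1 h2 hs).resolve_left h3).resolve_left h9, fun h => ⟨⟨⟨⟨trivial, h.1⟩, h.not_dvd (Or.inl rfl)⟩,
            fun e => h.not_dvd (Or.inr (Or.inl rfl)) (by rw [e])⟩,
            fun e => h.not_dvd (Or.inr (Or.inl rfl)) (by rw [e]; norm_num)⟩⟩)]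
    omega
  rw [hA] at hsum
  have hn0 : 0 < D.idx := Nat.pos_of_ne_zero fun e => by
    have h := D.card_G
    rw [e, mul_zero] at h
    exact Nat.card_pos.ne' h
  obtain ⟨c, hc, hcn⟩ : ∃ c, (c = 381 ∨ c = 1101) ∧ D.idx = c + ∑ a ∈ A, w a * (a - 1) := by
    rcases D.pairs_nine with h | h <;> rw [h] at hsum
    · exact ⟨381, Or.inl rfl, Nat.eq_of_mul_eq_mul_left hn0 (by rw [hsum]; ring)⟩
    · exact ⟨1101, Or.inr rfl, Nat.eq_of_mul_eq_mul_left hn0 (by rw [hsum]; ring)⟩
  have hA0 := Search.no_family hc A w hitem hcop D.three_dvd_idx D.five_not_dvd_idx hcn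
  rw [hA0, Finset.sum_empty, add_zero] at hcn
  -- the Sylow subgroup of the large prime is normal
  obtain ⟨p, hp, hcp, hp5, hsmall⟩ : ∃ p : ℕ, p.Prime ∧ c = 3 * p ∧ 5 < p ∧ ∀ q < 721, q ∣ 720 → q % p = 1 → q = 1 := by
    rcases hc with rfl | rfl
    · exact ⟨127, by norm_num, rfl, by norm_num, by decide +kernel⟩
    · exact ⟨367, by norm_num, rfl, by norm_num, by decide +kernel⟩
  haveI := Fact.mk hp
  have hG : Nat.card G = 720 * p := by rw [D.card_G, hcn, hcp]; ring
  obtain ⟨P⟩ := (inferInstance : Nonempty (Sylow p G))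
  have hnd : ¬ p ∣ 720 := fun h => by
    have h' : p ∣ 2 ^ 4 * 3 ^ 2 * 5 := h
    rcases (Nat.Prime.dvd_mul hp).1 h' with h1 | h1
    · rcases (Nat.Prime.dvd_mul hp).1 h1 with h2 | h2
      · have := Nat.le_of_dvd (by norm_num) (hp.dvd_of_dvd_pow h2); omega
      · have := Nat.le_of_dvd (by norm_num) (hp.dvd_of_dvd_pow h2); omega
    · have := Nat.le_of_dvd (by norm_num) h1; omega
  have hPp : p ∣ Nat.card ↥(P : Subgroup G) := P.dvd_card_of_dvd_card (hG ▸ dvd_mul_left p 720)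
  have hnum : Nat.card (Sylow p G) ∣ 720 := by
    have hd : Nat.card (Sylow p G) ∣ Nat.card G := (P.card_dvd_index).trans (P : Subgroup G).index_dvd_card
    rw [hG] at hd
    refine Nat.Coprime.dvd_of_dvd_mul_right ((hp.coprime_iff_not_dvd.2 fun h => ?_).symm) hd
    have h1 := card_sylow_modEq_one p G
    rw [Nat.ModEq, Nat.mod_eq_zero_of_dvd h, Nat.mod_eq_of_lt hp.one_lt] at h1
    omega
  have hone : Nat.card (Sylow p G) = 1 := hsmall _ (by have := Nat.le_of_dvd (by norm_num) hnum; omega) hnum (by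
    have h := card_sylow_modEq_one p G
    rw [Nat.ModEq, Nat.mod_eq_of_lt hp.one_lt] at h
    exact h)
  haveI : Subsingleton (Sylow p G) := (Nat.card_eq_one_iff_unique.1 hone).1
  haveI : (P : Subgroup G).Normal := Sylow.normal_of_subsingleton P
  rcases IsSimpleGroup.eq_bot_or_eq_top_of_normal (P : Subgroup G) inferInstance with h | h
  · rw [h, card_bot, Nat.dvd_one] at hPp
    exact hp.ne_one hPp
  · obtain ⟨k, hk⟩ := IsPGroup.iff_card.1 P.2
    rw [h, card_top, hG] at hk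
    have h2 : (2 : ℕ) ∣ p ^ k := by rw [← hk]; exact dvd_mul_of_dvd_left (by norm_num) p
    have h3 := (Nat.prime_dvd_prime_iff_eq Nat.prime_two hp).1 (Nat.prime_two.dvd_of_dvd_pow h2)
    omega

end Five

end CfsgLib.Homogeneous.SD
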